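import Mathlib
import Cfsg.Agent.H2.Hall
import Cfsg.Agent.H2.NilpotentHall
import Cfsg.Agent.H3.Fitting
import Cfsg.Agent.H52.Fitting
import Cfsg.Agent.H89.SolvInd
import Cfsg.Agent.S3998
import Cfsg.Agent.H91.FrobElem

/-!
Groups with the same order type: transfer of towers of normal Hall subgroups.  Solvable groups all
of whose Sylow subgroups have a cyclic subgroup of index at most two.
-/

set_option autoImplicit false

namespace Cfsg.Agent.H91

open Cfsg H2

universe u

theorem exists_equiv_of_orderType {G H : Type*} [Group G] [Finite G] [Group H] [Finite H]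
    (hT : ∀ m : ℕ, Nat.card {g : G // orderOf g = m} = Nat.card {h : H // orderOf h = m}) :
    ∃ e : G ≃ H, ∀ g, orderOf (e g) = orderOf g := by
  have e0 : ∀ m : ℕ, {g : G // orderOf g = m} ≃ {h : H // orderOf h = m} := fun m =>
    (Finite.card_eq.mp (hT m)).some
  exact ⟨Equiv.ofFiberEquiv e0, fun g => Equiv.ofFiberEquiv_map e0 g⟩

section
variable {G H : Type*} [Group G] [Finite G] [Group H] [Finite H]

omit [Finite G] [Finite H] in
theorem card_eq_of_isPiHall_of_card_eq (hcard : Nat.card G = Nat.card H) {π : Set ℕ}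
    {N : Subgroup G} (hN : IsPiHall π N) {M : Subgroup H} (hM : IsPiHall π M) :
    Nat.card M = Nat.card N := by
  have hM' := isPiHall_iff.1 hM
  have hN' := isPiHall_iff.1 hN
  have h2 : Nat.card M * M.index = Nat.card N * N.index := by
    rw [Subgroup.card_mul_index, Subgroup.card_mul_index, hcard]
  exact Nat.dvd_antisymm ((hM'.1.coprime hN'.2).dvd_of_dvd_mul_right ⟨_, h2.symm⟩)
    ((hN'.1.coprime hM'.2).dvd_of_dvd_mul_right ⟨_, h2⟩)

theorem normal_of_orderType {e : G ≃ H} (he : ∀ g, orderOf (e g) = orderOf g) {π : Set ℕ}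
    {N : Subgroup G} [N.Normal] (hN : IsPiHall π N) {M : Subgroup H} (hM : IsPiHall π M) :
    M.Normal := by
  have h1 := card_eq_of_isPiHall_of_card_eq (Nat.card_congr e) hN hM
  have h2 : (M : Set H) = e '' (N : Set G) := by
    refine Set.eq_of_subset_of_ncard_le ?_ ?_ (Set.toFinite _)
    · intro x hx
      refine ⟨e.symm x, ?_, by simp⟩
      rw [SetLike.mem_coe, S3998.mem_iff_of_normal_hall hN, ← he, Equiv.apply_symm_apply]
      exact (isPiHall_iff.1 hM).1.of_dvd (M.orderOf_dvd_natCard hx)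
    · rw [Set.ncard_image_of_injective _ e.injective]
      exact h1.ge
  have h3 : ∀ x, x ∈ M ↔ IsPiNum π (orderOf x) := by
    intro x
    obtain ⟨y, rfl⟩ := e.surjective x
    rw [he, ← S3998.mem_iff_of_normal_hall hN, ← SetLike.mem_coe, h2, e.injective.mem_set_image]
    rfl
  refine ⟨fun x hx g => ?_⟩
  rw [h3] at hx ⊢
  rwa [show orderOf (g * x * g⁻¹) = orderOf x from (MulAut.conj g).orderOf_eq x]

/-- Transfer of a tower of normal Hall subgroups along an order-preserving bijection. -/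
theorem tower_of_orderType {e : G ≃ H} (he : ∀ g, orderOf (e g) = orderOf g) (π : ℕ → Set ℕ)
    (hmono : ∀ m, π (m + 1) ⊆ π m) (hstep : ∀ m, ∀ q ∈ π m, q = m ∨ q ∈ π (m + 1)) {a b : ℕ}
    (hab : a ≤ b) (hG : ∀ m, a ≤ m → ∃ N : Subgroup G, N.Normal ∧ IsPiHall (π m) N)
    (hb : ∃ M : Subgroup H, IsPiHall (π b) M ∧ Group.IsSolvable M) :
    ∃ M : Subgroup H, M.Normal ∧ IsPiHall (π a) M ∧ Group.IsSolvable M := by
  have key : ∀ m, a ≤ m → ∀ M : Subgroup H, IsPiHall (π m) M → M.Normal := by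
    intro m hm M hM
    obtain ⟨N, hN, hN1⟩ := hG m hm
    exact normal_of_orderType he hN1 hM
  have main : ∀ m : ℕ, m ≤ b → a ≤ m →
      ∃ M : Subgroup H, IsPiHall (π m) M ∧ Group.IsSolvable M := by
    intro m hm
    induction hm using Nat.decreasingInduction with
    | self => exact fun _ => hb
    | of_succ m _ ih =>
      intro ham
      obtain ⟨M, hM, hs⟩ := ih (by omega)
      have hMn := key _ (by omega) M hM
      rw [isPiHall_iff] at hM
      have hM1 : IsPiNum (π m) (Nat.card M) := hM.1.mono (hmono m)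
      by_cases hp : m.Prime ∧ m ∈ π m
      · have := Fact.mk hp.1
        obtain ⟨P⟩ : Nonempty (Sylow m H) := inferInstance
        refine ⟨P ⊔ M, isPiHall_iff.2 ⟨isPiNum_card_sup
          (isPiNum_card_of_isPGroup hp.1 hp.2 P.isPGroup') hM1, ?_⟩,
          H52.isSolvable_sup_of_le_normalizer (H89.isSolvable_of_isPGroup hp.1 P.isPGroup') hs
            Subgroup.le_normalizer_of_normal⟩
        intro q hq h1 h2
        rcases hstep m q h2 with rfl | h2
        · exact P.not_dvd_index (h1.trans (Subgroup.index_dvd_of_le le_sup_left))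
        · exact hM.2 q hq (h1.trans (Subgroup.index_dvd_of_le le_sup_right)) h2
      · refine ⟨M, isPiHall_iff.2 ⟨hM1, ?_⟩, hs⟩
        intro q hq h1 h2
        rcases hstep m q h2 with rfl | h3
        · exact hp ⟨hq, h2⟩
        · exact hM.2 q hq h1 h3
  obtain ⟨M, hM, hs⟩ := main a hab le_rfl
  exact ⟨M, key a le_rfl M hM, hM, hs⟩

/-- A normal Hall subgroup of a normal subgroup is normal. -/
theorem normal_map_subtype_of_isPiHall {K : Subgroup G} [hK : K.Normal] {σ : Set ℕ}
    {L : Subgroup K} [L.Normal] (hL : IsPiHall σ L) : (L.map K.subtype).Normal := by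
  refine ⟨?_⟩
  rintro _ ⟨x, hx, rfl⟩ g
  refine ⟨⟨g * x * g⁻¹, hK.conj_mem _ x.2 g⟩, ?_, rfl⟩
  rw [SetLike.mem_coe, S3998.mem_iff_of_normal_hall hL] at hx ⊢
  rwa [← Subgroup.orderOf_coe, show orderOf (g * x * g⁻¹) = orderOf (x : G) from
    (MulAut.conj g).orderOf_eq x, Subgroup.orderOf_coe]

omit [Finite G] in
theorem isPiHall_map_subtype {K : Subgroup G} {π σ : Set ℕ} (hK : IsPiHall π K) (hσ : σ ⊆ π)
    {L : Subgroup K} (hL : IsPiHall σ L) : IsPiHall σ (L.map K.subtype) := by
  rw [isPiHall_iff] at hK hL ⊢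
  refine ⟨by rw [H3.card_map_subtype]; exact hL.1, ?_⟩
  rw [Subgroup.index_map_subtype]
  exact hL.2.mul (hK.2.mono (Set.compl_subset_compl.mpr hσ))

theorem exists_normal_isPiHall_of_isNilpotent (σ : Set ℕ) (K : Type*) [Group K] [Finite K]
    [Group.IsNilpotent K] : ∃ L : Subgroup K, L.Normal ∧ IsPiHall σ L := by
  obtain ⟨L, hL⟩ := exists_isPiHall σ K
  obtain ⟨L', hn, hc⟩ := exists_normal_card_eq_of_isNilpotent L.card_subgroup_dvd_card
  refine ⟨L', hn, ?_⟩
  have h1 : L'.index = L.index := by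
    have := L'.card_mul_index.trans L.card_mul_index.symm
    rw [hc] at this
    exact Nat.eq_of_mul_eq_mul_left Nat.card_pos this
  rw [isPiHall_iff] at hL ⊢
  rwa [hc, h1]

omit [Finite G] in
theorem isPiHall_comap_mk' {N : Subgroup G} [N.Normal] {π σ : Set ℕ} (hN : IsPiNum π (Nat.card N))
    {M : Subgroup (G ⧸ N)} (hM : IsPiHall σ M) (hπ : IsPiNum πᶜ M.index) :
    IsPiHall (π ∪ σ) (M.comap (QuotientGroup.mk' N)) := by
  rw [isPiHall_iff] at hM ⊢
  refine ⟨?_, ?_⟩
  · rw [card_comap_mk']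
    exact (hN.mono Set.subset_union_left).mul (hM.1.mono Set.subset_union_right)
  · rw [Subgroup.index_comap_of_surjective _ (QuotientGroup.mk'_surjective N)]
    intro p hp hd h
    exact h.elim (hπ p hp hd) (hM.2 p hp hd)

end

/-- Every subgroup of prime power order has a cyclic subgroup of index at most two. -/
def SmallSyl (X : Type*) [Group X] : Prop :=
  ∀ q : ℕ, q.Prime → ∀ A : Subgroup X, IsPGroup q A →
    ∃ x y : X, ∀ z ∈ A, z * y ∈ Subgroup.zpowers x ∨ z ∈ Subgroup.zpowers x

theorem SmallSyl.of_surjective {X Y : Type*} [Group X] [Finite X] [Group Y] (h : SmallSyl X)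
    {f : X →* Y} (hf : Function.Surjective f) : SmallSyl Y := by
  intro q hq A hA
  have := Fact.mk hq
  obtain ⟨P, hP⟩ := hA.exists_le_sylow
  obtain ⟨Q, rfl⟩ := Sylow.mapSurjective_surjective hf q P
  obtain ⟨x, y, hxy⟩ := h q hq Q Q.isPGroup'
  refine ⟨f x, f y, fun z hz => ?_⟩
  obtain ⟨w, hw, rfl⟩ := hP hz
  rw [← MonoidHom.map_zpowers, ← map_mul]
  exact (hxy w hw).imp (Subgroup.mem_map_of_mem f) (Subgroup.mem_map_of_mem f)

theorem HasIntFPF.smallSyl {X : Type*} [Group X] [Finite X] (h : HasIntFPF X) : SmallSyl X := by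
  intro q hq A hA
  have := Fact.mk hq
  rcases (h.subgroup A).isCyclic_or_quaternion hA with hc | ⟨-, n, ⟨e⟩⟩
  · obtain ⟨x, hx⟩ := hc.exists_generator
    refine ⟨x, 1, fun z hz => Or.inr ?_⟩
    obtain ⟨k, hk⟩ := hx ⟨z, hz⟩
    exact ⟨k, congrArg Subtype.val hk⟩
  · have key : ∀ i, ((e.symm (QuaternionGroup.a i) : A) : X) ∈
        Subgroup.zpowers ((e.symm (QuaternionGroup.a 1) : A) : X) := by
      intro i
      obtain ⟨k, rfl⟩ := ZMod.natCast_zmod_surjective i
      refine ⟨k, ?_⟩
      simp only [zpow_natCast]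
      rw [← Subgroup.coe_pow, ← map_pow, QuaternionGroup.a_one_pow]
    refine ⟨e.symm (QuaternionGroup.a 1), e.symm (QuaternionGroup.xa 0), fun z hz => ?_⟩
    obtain ⟨w, hw⟩ := e.symm.surjective ⟨z, hz⟩
    have hw' : z = e.symm w := by rw [hw]
    rw [hw']
    rcases w with i | i
    · exact Or.inr (key i)
    · left
      rw [← Subgroup.coe_mul, ← map_mul, QuaternionGroup.xa_mul_xa]
      exact key _

theorem SmallSyl.relIndex_dvd {X : Type*} [Group X] (h : SmallSyl X) {q : ℕ} (hq : q.Prime)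
    {A : Subgroup X} (hA : IsPGroup q A) : ∃ x : X, (Subgroup.zpowers x).relIndex A ∣ 2 := by
  obtain ⟨x, y, hxy⟩ := h q hq A hA
  refine ⟨x, Subgroup.relIndex_dvd_two_iff.mpr ?_⟩
  by_cases h1 : ∀ z ∈ A, z ∈ Subgroup.zpowers x
  · exact ⟨1, A.one_mem, fun b hb => Or.inr (h1 b hb)⟩
  · push Not at h1
    obtain ⟨z, hz, hzx⟩ := h1
    refine ⟨z⁻¹, A.inv_mem hz, fun b hb => (hxy b hb).imp_left fun hb' => ?_⟩
    have := Subgroup.mul_mem _ hb' (Subgroup.inv_mem _ ((hxy z hz).resolve_right hzx))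
    simpa using this

theorem SmallSyl.card_le {X : Type*} [Group X] [Finite X] (h : SmallSyl X) {q : ℕ} (hq : q.Prime)
    {A : Subgroup X} (hA : ∀ a ∈ A, a ^ q = 1) : Nat.card A ≤ q ∨ Nat.card A ≤ 4 := by
  have := Fact.mk hq
  have hp : IsPGroup q A := fun a => ⟨1, Subtype.ext (by simpa using hA a a.2)⟩
  obtain ⟨x, hx⟩ := h.relIndex_dvd hq hp
  have h1 := H3.card_inf_mul_relIndex (Subgroup.zpowers x) A
  have h2 : IsCyclic (Subgroup.zpowers x ⊓ A : Subgroup X) :=
    Subgroup.isCyclic_of_le (inf_le_left : Subgroup.zpowers x ⊓ A ≤ _)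
  have h3 : Nat.card (Subgroup.zpowers x ⊓ A : Subgroup X) ∣ q := by
    rw [← IsCyclic.exponent_eq_card]
    exact Monoid.exponent_dvd_of_forall_pow_eq_one fun g => Subtype.ext (hA g g.2.2)
  have h4 := Nat.le_of_dvd hq.pos h3
  rcases (Nat.dvd_prime Nat.prime_two).mp hx with h5 | h5
  · left; rw [← h1, h5]; omega
  · right
    obtain ⟨k, hk⟩ := hp.exists_card_eq
    have h6 : 2 ∣ q ^ k := by rw [← hk, ← h1, h5]; exact Dvd.intro_left _ rfl
    have h7 : q = 2 :=
      ((Nat.prime_dvd_prime_iff_eq Nat.prime_two hq).mp (Nat.prime_two.dvd_of_dvd_pow h6)).symm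
    rw [← h1, h5]; omega

/-- A group whose order has only prime divisors exceeding `|A|` centralizes `A`. -/
theorem le_centralizer_of_card_lt {X : Type*} [Group X] [Finite X] {A U : Subgroup X} [A.Normal]
    (h : ∀ p : ℕ, p.Prime → p ∣ Nat.card U → Nat.card A < p) :
    U ≤ Subgroup.centralizer (A : Set X) := by
  classical
  intro u hu a ha
  have := Fintype.ofFinite A
  let f : X →* Equiv.Perm A := (MulAut.toPerm A).comp (MulAut.conjNormal (H := A))
  have h1 : orderOf (f u) = 1 := by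
    by_contra h1
    obtain ⟨p, hp, hd⟩ := Nat.exists_prime_and_dvd h1
    have h2 := h p hp (hd.trans ((orderOf_map_dvd f u).trans (U.orderOf_dvd_natCard hu)))
    have h3 : p ∣ (Nat.card A).factorial := by
      rw [← Nat.card_perm]; exact hd.trans (orderOf_dvd_natCard _)
    exact absurd (hp.dvd_factorial.mp h3) (by omega)
  rw [orderOf_eq_one_iff] at h1
  have h2 : u * a * u⁻¹ = a := congrArg (fun σ : Equiv.Perm A => ((σ ⟨a, ha⟩ : A) : X)) h1
  rw [mul_inv_eq_iff_eq_mul] at h2
  exact h2.symm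

theorem SmallSyl.exists_normal_hall {m : ℕ} (hm : 5 ≤ m) (X : Type u) [Group X] [Finite X]
    [Group.IsSolvable X] (h : SmallSyl X) :
    ∃ N : Subgroup X, N.Normal ∧ IsPiHall {p | m ≤ p} N := by
  induction hn : Nat.card X using Nat.strong_induction_on generalizing X with
  | _ n ih =>
    rcases subsingleton_or_nontrivial X with hX | hX
    · refine ⟨⊥, inferInstance, isPiHall_iff.2 ⟨by simpa using isPiNum_one _, ?_⟩⟩
      rw [Subgroup.index_bot, Nat.card_unique]
      exact isPiNum_one _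
    obtain ⟨A, q, hq, hA, hA1, -, hAe, -⟩ :=
      H3.exists_minimal_normal_elementary_le (⊤ : Subgroup X) inferInstance top_ne_bot
    obtain ⟨M, hM, hM1⟩ := ih _ (hn ▸ card_quotient_lt_of_ne_bot hA1) (X ⧸ A)
      (h.of_surjective (QuotientGroup.mk'_surjective A)) rfl
    have hAp : IsPGroup q A := fun a => ⟨1, Subtype.ext (by simpa using hAe.2 a a.2)⟩
    by_cases hqm : m ≤ q
    · refine ⟨M.comap (QuotientGroup.mk' A), inferInstance, ?_⟩
      have := isPiHall_comap_mk' (π := {p | m ≤ p}) (isPiNum_card_of_isPGroup hq hqm hAp) hM1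
        (isPiHall_iff.mp hM1).2
      rwa [Set.union_self] at this
    · let L := M.comap (QuotientGroup.mk' A)
      have hAL : A ≤ L := by
        intro a ha
        change QuotientGroup.mk' A a ∈ M
        rw [QuotientGroup.mk'_apply, (QuotientGroup.eq_one_iff a).mpr ha]
        exact M.one_mem
      have hAπ : IsPiNum {p | m ≤ p}ᶜ (Nat.card A) := isPiNum_card_of_isPGroup hq hqm hAp
      have hidx : (A.subgroupOf L).index = Nat.card M := by
        have h1 := (A.subgroupOf L).card_mul_index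
        rw [card_subgroupOf_of_le hAL, card_comap_mk'] at h1
        exact Nat.eq_of_mul_eq_mul_left Nat.card_pos h1
      obtain ⟨U, hU⟩ := Subgroup.exists_right_complement'_of_coprime (N := A.subgroupOf L) (by
        rw [card_subgroupOf_of_le hAL, hidx]
        exact ((isPiHall_iff.mp hM1).1.coprime hAπ).symm)
      have hUc : Nat.card U = Nat.card M := by rw [← hidx, hU.symm.index_eq_card]
      have hUi : U.index = Nat.card A := by
        rw [hU.index_eq_card, card_subgroupOf_of_le hAL]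
      have hUh : IsPiHall {p | m ≤ p} U :=
        isPiHall_iff.mpr ⟨hUc ▸ (isPiHall_iff.mp hM1).1, hUi ▸ hAπ⟩
      have hcent : U ≤ Subgroup.centralizer (A.subgroupOf L : Set L) := by
        refine le_centralizer_of_card_lt fun p hp hd => ?_
        have h1 : m ≤ p := hUh.1 p hp hd
        rw [card_subgroupOf_of_le hAL]
        rcases h.card_le hq hAe.2 with h2 | h2 <;> omega
      have hUn : U.Normal := by
        rw [← Subgroup.normalizer_eq_top_iff, eq_top_iff, ← hU.sup_eq_top, sup_le_iff]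
        exact ⟨(Subgroup.le_centralizer_iff.mp hcent).trans (Subgroup.centralizer_le_normalizer _),
          Subgroup.le_normalizer⟩
      refine ⟨U.map L.subtype, normal_map_subtype_of_isPiHall hUh, isPiHall_iff.mpr ⟨?_, ?_⟩⟩
      · rw [H3.card_map_subtype]; exact (isPiHall_iff.mp hUh).1
      · rw [Subgroup.index_map_subtype,
          Subgroup.index_comap_of_surjective _ (QuotientGroup.mk'_surjective A)]
        exact (isPiHall_iff.mp hUh).2.mul (isPiHall_iff.mp hM1).2

end Cfsg.Agent.H91
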