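import Cfsg.Agent.H56.FSKit

/-! Project FS3: the induction and the final shape. -/

set_option autoImplicit false

namespace Cfsg.Agent.H91.FsInd

open Subgroup Cfsg.Agent.H56.FS

universe u

section

variable {H G : Type*} [Group H] [Group G] {p r : ℕ}

theorem map_cj (f : H →* G) (g : H) (A : Subgroup H) : (cj g A).map f = cj (f g) (A.map f) := by
  rw [cj, cj, map_map, map_map]
  congr 1
  ext x
  simp

theorem solv_map (f : H →* G) {X : Subgroup H} (h : Group.IsSolvable X) :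
    Group.IsSolvable (X.map f) := Group.isSolvable_of_surjective (f.subgroupMap_surjective X)

theorem solv_comap (f : H →* G) (hf : Group.IsSolvable f.ker) {X : Subgroup G}
    (h : Group.IsSolvable X) : Group.IsSolvable (X.comap f) :=
  Group.isSolvable_of_ker_le_range (G' := f.ker) (Subgroup.inclusion (ker_le_comap f X))
    (f.subgroupComap X) fun x hx => ⟨⟨x, congrArg Subtype.val hx⟩, rfl⟩

theorem cen_map (f : H →* G) {X : Subgroup H} {x : H} (h : x ∈ centralizer (X : Set H)) :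
    f x ∈ centralizer (X.map f : Set G) := by
  rintro _ ⟨y, hy, rfl⟩
  rw [← map_mul, h y hy, map_mul]

section Sub

variable {f : H →* G} (hf : Function.Injective f) {D : Set (Subgroup G)}
include hf

theorem LL_sub (X : Subgroup H) : (LL {B | B.map f ∈ D} X).map f = LL D (X.map f) := by
  refine le_antisymm (map_le_iff_le_comap.2 (LL_le_of fun B hB h =>
    map_le_iff_le_comap.1 (le_LL hB (map_mono h)))) (LL_le_of fun B hB h => ?_)
  have e : (B.comap f).map f = B := map_comap_eq_self (h.trans (map_le_range f X))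
  rw [← e]
  exact map_mono (le_LL (by rwa [Set.mem_ofPred_eq, e])
    ((comap_mono h).trans (comap_map_eq_self_of_injective hf X).le))

theorem RR_sub (X : Subgroup H) : (RR {B | B.map f ∈ D} X).map f = RR D (X.map f) := by
  rw [RR, map_commutator, LL_sub hf, RR]

theorem solv_of_map {X : Subgroup H} (h : Group.IsSolvable (X.map f)) : Group.IsSolvable X :=
  Group.isSolvable_of_isSolvable_injective (f := f.subgroupMap X) fun _ _ e =>
    Subtype.ext (hf (congrArg Subtype.val e))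

theorem cen_of_map {X : Subgroup H} {x : H} (h : f x ∈ centralizer (X.map f : Set G)) :
    x ∈ centralizer (X : Set H) := fun y hy =>
  hf (by rw [map_mul, map_mul]; exact h _ ⟨y, hy, rfl⟩)

theorem cl_sub (h : Cl p r D) : Cl p r {B : Subgroup H | B.map f ∈ D} := by
  have s : ∀ X : Subgroup H, Group.IsSolvable (LL {B | B.map f ∈ D} X) →
      Group.IsSolvable (LL D (X.map f)) := fun X hX => LL_sub hf X ▸ solv_map f hX
  have m : ∀ {X : Subgroup H} {x : H}, x ∈ RR {B | B.map f ∈ D} X → f x ∈ RR D (X.map f) :=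
    fun hx => RR_sub hf _ ▸ mem_map_of_mem f hx
  refine
    { pp := h.pp, p2 := h.p2, pr := h.pr, r2 := h.r2, rp := h.rp
      card := fun A hA => by rw [← h.card _ hA, card_map_of_injective hf]
      inv := fun A hA g => by rw [Set.mem_ofPred_eq, map_cj]; exact h.inv _ hA _
      line := fun A hA B hB C hC E hE h1 h2 h3 => map_injective hf ?_
      pg := fun X hX => ?_
      sup := fun X hX A hA h1 => map_injective hf ?_
      pair := fun A hA B hB => solv_of_map hf (by rw [Subgroup.map_sup]; exact h.pair _ hA _ hB)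
      cen := fun X hX A hA h1 x hx => cen_of_map hf ?_
      flag := h.flag.imp (fun h' X hX A hA h1 => eq_bot_iff.2 fun x hx => ?_)
        fun h' X hX x hx => cen_of_map hf ?_ }
  · simp only [Subgroup.map_sup]
    exact h.line _ hA _ hB _ hC _ hE ((map_mono h1).trans (Subgroup.map_sup _ _ _).le)
      ((map_mono h2).trans (Subgroup.map_sup _ _ _).le) fun e => h3 (map_injective hf e)
  · have := h.pg _ (s X hX)
    rw [← RR_sub hf] at this
    exact this.of_injective (f.subgroupMap _) fun _ _ e => Subtype.ext (hf (congrArg Subtype.val e))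
  · simp only [Subgroup.map_sup, LL_sub hf, RR_sub hf]
    exact h.sup _ (s X hX) _ hA (map_mono h1)
  · rw [LL_sub hf]
    exact h.cen _ (s X hX) _ hA (map_mono h1) ⟨m hx.1, cen_map f hx.2⟩
  · have := (h' _ (s X hX) _ hA (map_mono h1)).le ⟨m hx.1, cen_map f hx.2⟩
    exact hf ((mem_bot.1 this).trans f.map_one.symm)
  · rw [LL_sub hf]
    refine h' _ (s X hX) ?_
    rw [← RR_sub hf, ← map_commutator]
    exact mem_map_of_mem f hx

end Sub

section Quo

variable (f : H →* G) {D : Set (Subgroup H)}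

theorem LL_quo (X : Subgroup G) :
    (LL D ((LL (map f '' D) X).comap f)).map f = LL (map f '' D) X := by
  refine le_antisymm (map_le_iff_le_comap.2 (LL_le _)) (LL_le_of ?_)
  rintro _ ⟨B, hB, rfl⟩ h
  exact map_mono (le_LL hB (map_le_iff_le_comap.1 (le_LL ⟨B, hB, rfl⟩ h)))

theorem RR_quo (X : Subgroup G) :
    (RR D ((LL (map f '' D) X).comap f)).map f = RR (map f '' D) X := by
  rw [RR, map_commutator, LL_quo, RR]

theorem lift_cen [Finite H] (h : Cl p r D) {X : Subgroup H} (hX : Group.IsSolvable (LL D X))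
    {A : Subgroup H} (hA : A ∈ D) (hAX : A ≤ X) {u : H} (hu : u ∈ RR D X)
    (e : cj (f u) (A.map f) = A.map f) :
    ∃ w ∈ RR D X ⊓ centralizer (A : Set H), f w = f u := by
  obtain ⟨v, hv, e'⟩ := h.conj_pt_pair hA (h.inv A hA u)
  have h1 : v ∈ RR D X := RR_le_RR ((LL_le _).trans (sup_le hAX ((cj_le_of_mem (RR_le _ hu)
    (le_LL hA hAX)).trans (LL_le _)))) hv
  have h2 : f v = 1 := by
    have := mem_map_of_mem f hv
    rw [RR, LL_pair hA (h.inv A hA u), map_commutator, Subgroup.map_sup, map_cj, e, sup_idem,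
      ← map_commutator, commutator_eq_bot_iff_le_centralizer.2 (h.comm hA),
      Subgroup.map_bot] at this
    exact mem_bot.1 this
  have h3 := mul_mem (inv_mem h1) hu
  refine ⟨v⁻¹ * u, ⟨h3, h.norm_cen hX hA hAX h3 ?_⟩, by simp [h2]⟩
  rw [← cj_cj, e', cj_inv_cj]

theorem cl_quo [Finite H] (hf : Function.Surjective f) (hk : Group.IsSolvable f.ker)
    (h : Cl p r D) (hn : ∀ A ∈ D, ¬ A ≤ f.ker) : Cl p r (map f '' D) := by
  have s : ∀ X : Subgroup G, Group.IsSolvable (LL (map f '' D) X) →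
      Group.IsSolvable (LL D ((LL (map f '' D) X).comap f)) := fun X hX =>
    H4.isSolvable_of_le (LL_le _) (solv_comap f hk hX)
  have m : ∀ {X : Subgroup G} {A : Subgroup H}, A ∈ D → A.map f ≤ X →
      A ≤ (LL (map f '' D) X).comap f := fun hA h1 =>
    map_le_iff_le_comap.1 (le_LL ⟨_, hA, rfl⟩ h1)
  have pr : ∀ A ∈ map f '' D, ∀ B ∈ map f '' D, Group.IsSolvable ↥(A ⊔ B) := by
    rintro _ ⟨A, hA, rfl⟩ _ ⟨B, hB, rfl⟩
    rw [← Subgroup.map_sup]
    exact solv_map f (h.pair A hA B hB)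
  have lf : ∀ X : Subgroup G, Group.IsSolvable (LL (map f '' D) X) → ∀ A ∈ D, A.map f ≤ X →
      ∀ x ∈ RR (map f '' D) X ⊓ centralizer (A.map f : Set G), ∃ w ∈
        RR D ((LL (map f '' D) X).comap f) ⊓ centralizer (A : Set H), f w = x := by
    intro X hX A hA h1 x hx
    obtain ⟨u, hu, rfl⟩ := (RR_quo f X).ge hx.1
    exact lift_cen f h (s X hX) hA (m hA h1) hu (cj_of_cent hx.2)
  have ln : ∀ A ∈ D, ∀ B ∈ D, ∀ C ∈ D, C.map f ≤ A.map f ⊔ B.map f →
      ∃ C0 ∈ D, C0 ≤ A ⊔ B ∧ C0.map f = C.map f := fun A hA B hB C hC h1 => by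
    have e := LL_pair (D := map f '' D) ⟨A, hA, rfl⟩ ⟨B, hB, rfl⟩
    obtain ⟨u, hu, rfl⟩ := h.conj_pt (s (A.map f ⊔ B.map f)
      (by rw [e]; exact pr _ ⟨A, hA, rfl⟩ _ ⟨B, hB, rfl⟩)) hA (m hA le_sup_left) hC (m hC h1)
    have h2 : f u ∈ (A ⊔ B).map f := by
      rw [Subgroup.map_sup, ← e]
      exact (LL_le _ (RR_le _ hu) : u ∈ comap f _)
    obtain ⟨w, hw, e'⟩ := h2
    exact ⟨cj w A, h.inv A hA w, cj_le_of_mem hw le_sup_left, by rw [map_cj, map_cj, e']⟩
  refine
    { pp := h.pp, p2 := h.p2, pr := h.pr, r2 := h.r2, rp := h.rp, pair := pr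
      card := ?_, inv := ?_, line := ?_, sup := ?_, cen := ?_
      pg := fun X hX => RR_quo f X ▸ (h.pg _ (s X hX)).map f
      flag := h.flag.imp ?_ fun h' X hX => ?_ }
  · rintro _ ⟨A, hA, rfl⟩
    have h1 := card_map_dvd A f
    rw [h.card A hA] at h1
    refine ((Nat.dvd_prime h.pp).1 h1).resolve_left fun e => hn A hA ?_
    exact (map_eq_bot_iff A).1 (card_eq_one.1 e)
  · rintro _ ⟨A, hA, rfl⟩ g
    obtain ⟨g, rfl⟩ := hf g
    exact ⟨_, h.inv A hA g, map_cj f g A⟩
  · rintro _ ⟨A, hA, rfl⟩ _ ⟨B, hB, rfl⟩ _ ⟨C, hC, rfl⟩ _ ⟨E, hE, rfl⟩ h1 h2 h3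
    obtain ⟨C0, hC0, h4, e1⟩ := ln A hA B hB C hC h1
    obtain ⟨E0, hE0, h5, e2⟩ := ln A hA B hB E hE h2
    rw [← e1, ← e2] at h3 ⊢
    rw [← Subgroup.map_sup, ← Subgroup.map_sup,
      h.line A hA B hB C0 hC0 E0 hE0 h4 h5 fun e => h3 (e ▸ rfl)]
  · rintro X hX _ ⟨A, hA, rfl⟩ h1
    rw [← RR_quo, ← Subgroup.map_sup, ← h.sup _ (s X hX) A hA (m hA h1), LL_quo]
  · rintro X hX _ ⟨A, hA, rfl⟩ h1 x hx
    obtain ⟨w, hw, rfl⟩ := lf X hX A hA h1 x hx
    rw [← LL_quo]
    exact cen_map f (h.cen _ (s X hX) A hA (m hA h1) hw)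
  · rintro h' X hX _ ⟨A, hA, rfl⟩ h1
    refine eq_bot_iff.2 fun x hx => ?_
    obtain ⟨w, hw, rfl⟩ := lf X hX A hA h1 x hx
    rw [h' _ (s X hX) A hA (m hA h1), mem_bot] at hw
    simp [hw]
  · rw [← RR_quo, ← map_commutator]
    rintro _ ⟨w, hw, rfl⟩
    exact LL_quo f X ▸ cen_map f (h' _ (s X hX) hw)

end Quo

end

theorem sol (hno : NoMnStmt.{u}) : SolStmt.{u} := by
  intro G _ _ p r D
  induction hn : Nat.card G using Nat.strong_induction_on generalizing G with
  | _ n ih =>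
  intro h hg
  subst hn
  by_contra hs
  refine hno G p r D { h with gen := hg, nsol := hs, sol := fun X hX => ?_, nsn := fun N hN h1 => ?_ }
  · refine ih _ ?_ (LL D X) _ rfl (cl_sub (LL D X).subtype_injective h) ?_
    · rw [← (LL D X).index_mul_card]
      exact lt_mul_of_one_lt_left Nat.card_pos (one_lt_index_of_ne_top fun e =>
        hX (top_le_iff.1 (e.ge.trans (LL_le X))))
    · have e := LL_sub (LL D X).subtype_injective (D := D) ⊤
      rw [← MonoidHom.range_eq_map, range_subtype, LL_LL] at e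
      refine top_le_iff.1 fun x _ => ?_
      obtain ⟨y, hy, e'⟩ := e.ge x.2
      obtain rfl : y = x := Subtype.ext e'
      exact LL_le_of (Y := sSup _) (fun _ hB _ => le_sSup hB) hy
  · by_contra h2
    by_cases h3 : ∃ A ∈ D, A ≤ N
    · obtain ⟨A, hA, h3⟩ := h3
      have : N = ⊤ := top_le_iff.1 (hg.ge.trans (sSup_le fun B hB => by
        obtain ⟨v, -, rfl⟩ := h.conj_pt_pair hA hB
        exact cj_le_of_norm (by simp [normalizer_eq_top]) h3))
      subst this
      exact hs (Group.isSolvable_of_surjective (f := (⊤ : Subgroup G).subtype)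
        fun x => ⟨⟨x, trivial⟩, rfl⟩)
    · have e := QuotientGroup.ker_mk' N
      have := ih _ ?_ (G ⧸ N) _ rfl (cl_quo (QuotientGroup.mk' N) (QuotientGroup.mk'_surjective N)
        (by rwa [e]) h fun A hA h4 => h3 ⟨A, hA, e ▸ h4⟩) ?_
      · exact hs (Group.isSolvable_of_ker_le_range N.subtype (QuotientGroup.mk' N) (by simp))
      · rw [← index_eq_card, ← N.index_mul_card]
        exact lt_mul_of_one_lt_right (Nat.pos_of_ne_zero N.index_ne_zero_of_finite)
          ((one_lt_card_iff_ne_bot N).2 h2)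
      · rw [sSup_image, ← map_top_of_surjective _ (QuotientGroup.mk'_surjective N), ← hg,
          sSup_eq_iSup]
        simp only [Subgroup.map_iSup]

theorem fin : FinStmt.{u} := by
  intro G _ _ p r D h hg hs hna
  have hL := LL_top hg
  have hX : Group.IsSolvable (LL D ⊤) := inferInstance
  obtain ⟨A, hA⟩ : ∃ A, A ∈ D := by
    by_contra hne
    have : (⊤ : Subgroup G) ≤ ⊥ := hg.ge.trans (sSup_le fun B hB => (hne ⟨B, hB⟩).elim)
    exact hna ⟨⟨fun a b => by rw [mem_bot.1 (this (mem_top a)), mul_one, one_mul]⟩⟩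
  refine ⟨?_, A.map (QuotientGroup.mk' _), fun e => ?_, fun e => ?_, fun g hg' => ?_⟩
  · have := h.odd_LL hX
    rw [hL, card_top] at this
    exact Odd.of_dvd_nat this (card_quotient_dvd_card _)
  · rw [Subgroup.map_eq_bot_iff, QuotientGroup.ker_mk'] at e
    have : (⊤ : Subgroup G) ≤ center G := hg.ge.trans (sSup_le fun B hB => by
      obtain ⟨v, -, rfl⟩ := h.conj_pt_pair hA hB
      exact cj_le_of_norm (by simp [normalizer_eq_top]) e)
    exact hna ⟨⟨fun a b => mem_center_iff.1 (this (mem_top b)) a⟩⟩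
  · refine hna ⟨⟨fun a b => ?_⟩⟩
    obtain ⟨x, hx, e1⟩ := e.ge (mem_top (QuotientGroup.mk' _ a))
    obtain ⟨y, hy, e2⟩ := e.ge (mem_top (QuotientGroup.mk' _ b))
    obtain ⟨c, hc, rfl⟩ := QuotientGroup.mk'_eq_mk' _ |>.1 e1
    obtain ⟨d, hd, rfl⟩ := QuotientGroup.mk'_eq_mk' _ |>.1 e2
    have h1 : Commute x y := h.comm hA hy x hx
    have h2 : ∀ z, Commute z c := mem_center_iff.1 hc
    have h3 : ∀ z, Commute z d := mem_center_iff.1 hd
    exact ((h1.mul_left (h2 y).symm).mul_right (h3 _)).eq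
  · obtain ⟨g, rfl⟩ := QuotientGroup.mk'_surjective _ g
    obtain ⟨u, hu, a, ha, rfl⟩ := h.decomp hX hA le_top (hL.ge (mem_top g))
    by_contra hne
    have hq := cl_quo (QuotientGroup.mk' (center G)) (QuotientGroup.mk'_surjective _)
      inferInstance h fun B hB h4 => ?_
    · obtain ⟨⟨x, hx⟩, x1⟩ := ne_bot_iff_exists_ne_one.1 hne
      have e : cj _ (A.map (QuotientGroup.mk' (center G))) = _ :=
        hq.eq_of_inf (hq.inv _ ⟨A, hA, rfl⟩ (QuotientGroup.mk' _ (u * a))) ⟨A, hA, rfl⟩ hx.2 hx.1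
          fun e => x1 (Subtype.ext e)
      rw [map_mul, ← cj_cj, cj_of_mem (mem_map_of_mem _ ha)] at e
      obtain ⟨w, hw, e'⟩ := lift_cen _ h hX hA le_top hu e
      have h5 := h.cen _ hX A hA le_top hw
      rw [hL, coe_top, centralizer_univ] at h5
      refine hg' ⟨a, ha, ?_⟩
      rw [map_mul, ← e', QuotientGroup.mk'_apply _ w, (QuotientGroup.eq_one_iff w).2 h5, one_mul]
    · rw [QuotientGroup.ker_mk'] at h4
      have : (⊤ : Subgroup G) ≤ center G := hg.ge.trans (sSup_le fun C hC => by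
        obtain ⟨v, -, rfl⟩ := h.conj_pt_pair hB hC
        exact cj_le_of_norm (by simp [normalizer_eq_top]) h4)
      exact hna ⟨⟨fun a b => mem_center_iff.1 (this (mem_top b)) a⟩⟩

end Cfsg.Agent.H91.FsInd
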