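import Cfsg.Agent.H56.FSDefs
import Mathlib.LinearAlgebra.Matrix.ToLin
import Mathlib.LinearAlgebra.FiniteDimensional.Lemmas

/-! Project FS3: centralisers in quotients of subgroups of `SL₃`. -/

set_option autoImplicit false

namespace Cfsg.Agent.H91.FsM3

open Matrix Module Cfsg.Agent.H56.FS

universe u

variable {F : Type} [Field F]

theorem two_dim {V : Type} [AddCommGroup V] [Module F V] [FiniteDimensional F V]
    (W : Submodule F V) (hW : finrank F W ≤ 2) {A X Y T : End F V} (hA : ∀ w ∈ W, A w ∈ W)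
    (hX : ∀ w ∈ W, X w ∈ W) (hY : ∀ w ∈ W, Y w ∈ W) (hT : ∀ w ∈ W, T w ∈ W)
    (h1 : ∀ w, X (A w) = A (X w)) (h2 : ∀ w, Y (A w) = A (Y w)) :
    (∀ w ∈ W, X (Y w) = Y (X w)) ∨ ∀ w ∈ W, T (A w) = A (T w) := by
  by_cases h : ∀ w ∈ W, ∃ c : F, c • w = A w
  · refine Or.inr fun w hw => ?_
    obtain ⟨a, ha⟩ := h w hw
    obtain ⟨b, hb⟩ := h _ (hT w hw)
    obtain ⟨c, hc⟩ := h _ (W.add_mem hw (hT w hw))
    rw [map_add, ← ha, ← hb] at hc
    rw [← ha, ← hb, map_smul]
    by_cases e : a = c
    · subst e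
      linear_combination (norm := module) hc
    · have e1 : (a - c) • w = (c - b) • T w := by linear_combination (norm := module) -hc
      have e2 := congrArg A e1
      rw [map_smul, map_smul, ← ha, ← hb, smul_comm (c - b), ← e1, smul_comm b,
        smul_right_inj (sub_ne_zero.2 e)] at e2
      rw [← map_smul, e2, map_smul]
  · push Not at h
    obtain ⟨w, hw, h⟩ := h
    have w0 : w ≠ 0 := fun e => h 0 (by simp [e])
    have li := (LinearIndependent.pair_iff' (K := F) w0).2 h
    have sp : Submodule.span F {w, A w} = W := by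
      refine Submodule.eq_of_le_of_finrank_le (Submodule.span_le.2 ?_) ?_
      · rintro _ (rfl | rfl)
        exacts [hw, hA w hw]
      · have := finrank_span_eq_card li
        rw [Matrix.range_cons, Matrix.range_cons, Matrix.range_empty, Set.union_empty,
          Set.singleton_union] at this
        rw [this]
        exact hW
    obtain ⟨a, b, e1⟩ := Submodule.mem_span_pair.1 (sp.ge (hX w hw))
    obtain ⟨c, d, e2⟩ := Submodule.mem_span_pair.1 (sp.ge (hY w hw))
    have e3 : X (Y w) = Y (X w) := by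
      conv_lhs => rw [← e2, map_add, map_smul, map_smul, h1, ← e1]
      conv_rhs => rw [← e1, map_add, map_smul, map_smul, h2, ← e2]
      simp only [map_add, map_smul]
      module
    refine Or.inl fun v hv => ?_
    obtain ⟨i, j, rfl⟩ := Submodule.mem_span_pair.1 (sp.ge hv)
    simp only [map_add, map_smul, h1, h2, e3]

/-- three by three matrices -/
abbrev M3 (F : Type) : Type := Matrix (Fin 3) (Fin 3) F

variable {Z : M3 F} (h2 : (2 : F) ≠ 0) (hZ : Z * Z = 1) (hd : Z.det = 1) (h1 : Z ≠ 1)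
include hZ hd h1

theorem adj_zero : adjugate (1 + Z) = 0 := by
  have e : adjugate Z = Z := by rw [← mul_one (adjugate Z), ← hZ, ← mul_assoc, adjugate_mul, hd]; simp
  have e1 : adjugate (1 + Z) = adjugate Z + (1 + Z.trace) • 1 - Z := by
    ext i j
    fin_cases i <;> fin_cases j <;> simp [adjugate_fin_three, trace_fin_three] <;> ring
  have e2 : Z * Z = Z.trace • Z - (adjugate Z).trace • 1 + adjugate Z := by
    ext i j
    fin_cases i <;> fin_cases j <;>
      simp [adjugate_fin_three, trace_fin_three, mul_apply, Fin.sum_univ_three] <;> ring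
  rw [e, hZ] at e2
  have e3 : (1 + Z.trace) • (Z - 1) = 0 := by linear_combination (norm := module) -e2
  rw [e1, e, (smul_eq_zero.1 e3).resolve_right (sub_ne_zero.2 h1)]
  simp

include h2

theorem rank_one {M : M3 F} (h : Commute M Z) : ∃ c : F, M * (1 + Z) = c • (1 + Z) := by
  have e := adj_zero hZ hd h1
  have e1 : (1 + Z) * M * (1 + Z) = (2 : F) • (M * (1 + Z)) := by
    rw [add_mul, one_mul, ← h.eq, add_mul, mul_assoc, mul_add Z, hZ, mul_one, add_comm Z, two_smul]
  have e2 : (1 + Z) * M * (1 + Z) = (M * (1 + Z)).trace • (1 + Z) := by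
    generalize 1 + Z = P at e
    have m : ∀ i j k l, P i k * P l j = P i j * P l k := by
      have q := fun i j => congrFun (congrFun e i) j
      have q0 := q 0 0; have q1 := q 0 1; have q2 := q 0 2; have q3 := q 1 0; have q4 := q 1 1
      have q5 := q 1 2; have q6 := q 2 0; have q7 := q 2 1; have q8 := q 2 2
      simp [adjugate_fin_three] at q0 q1 q2 q3 q4 q5 q6 q7 q8
      intro i j k l
      fin_cases i <;> fin_cases j <;> fin_cases k <;> fin_cases l <;> simp <;> grind
    ext i j
    simp only [mul_apply, trace, diag, Matrix.smul_apply, smul_eq_mul, Finset.sum_mul]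
    rw [Finset.sum_comm]
    refine Finset.sum_congr rfl fun k _ => Finset.sum_congr rfl fun l _ => ?_
    linear_combination M k l * m i j k l
  exact ⟨2⁻¹ * (M * (1 + Z)).trace, by rw [mul_smul, ← e2, e1, inv_smul_smul₀ h2]⟩

omit hZ h1 in
theorem ne_neg : 1 + Z ≠ 0 := fun e => by
  rw [eq_neg_of_add_eq_zero_right e, det_neg] at hd
  exact h2 (by norm_num at hd; linear_combination -hd)

theorem comm_of {M N : M3 F} (hM : Commute M Z) (hN : Commute N Z)
    (h : ∀ w, (1 + Z) *ᵥ w = 0 → M *ᵥ N *ᵥ w = N *ᵥ M *ᵥ w) : Commute M N := by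
  obtain ⟨a, ha⟩ := rank_one h2 hZ hd h1 hM
  obtain ⟨b, hb⟩ := rank_one h2 hZ hd h1 hN
  have e1 : M * N * (1 + Z) = N * M * (1 + Z) := by
    rw [mul_assoc, mul_assoc, ha, hb, mul_smul_comm, mul_smul_comm, ha, hb, smul_comm]
  have e2 : M * N * (1 - Z) = N * M * (1 - Z) := toLin'.injective (LinearMap.ext fun w => by
    simpa only [toLin'_apply, mulVec_mulVec, mul_assoc] using
      h ((1 - Z) *ᵥ w) (by simp [add_mul, mul_sub, hZ, add_comm Z]))
  refine smul_right_injective _ h2 ?_
  simp only [mul_add, mul_sub, mul_one] at e1 e2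
  linear_combination (norm := module) e1 + e2

theorem core {A X Y T : M3 F} (hA : Commute A Z) (hX : Commute X Z) (hY : Commute Y Z)
    (hT : Commute T Z) (e1 : Commute X A) (e2 : Commute Y A) : Commute X Y ∨ Commute T A := by
  have hW : ∀ {M : M3 F}, Commute M Z → ∀ w ∈ LinearMap.ker (toLin' (1 + Z)),
      toLin' M w ∈ LinearMap.ker (toLin' (1 + Z)) := fun h w hw => by
    simp only [LinearMap.mem_ker, toLin'_apply] at hw ⊢
    rw [mulVec_mulVec, ← ((Commute.one_right _).add_right h).eq, ← mulVec_mulVec, hw, mulVec_zero]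
  refine (two_dim _ ?_ (hW hA) (hW hX) (hW hY) (hW hT) (fun w => by simp [e1.eq])
    fun w => by simp [e2.eq]).imp (comm_of h2 hZ hd h1 hX hY) (comm_of h2 hZ hd h1 hT hA)
  have := Submodule.finrank_lt (s := LinearMap.ker (toLin' (1 + Z))) fun e =>
    ne_neg h2 hd (toLin'.injective (by simpa using LinearMap.ker_eq_top.1 e))
  simp only [finrank_fintype_fun_eq_card, Fintype.card_fin] at this
  omega

omit h2 hZ hd h1 in
theorem m3 : M3Stmt.{u} := by
  intro F _ h2 H N _ π hπ hk z t v h x y xz xv yz yv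
  let m : H →* M3 F := (SpecialLinearGroup.toGL : _ →* GL (Fin 3) F).comp H.subtype |>
    (Units.coeHom _).comp
  have mi : Function.Injective m := fun a b e => Subtype.ext (Subtype.ext e)
  have md : ∀ a, (m a).det = 1 := fun a => a.1.2
  have sc : ∀ a b : H, π a = π b → ∃ c : F, c ^ 3 = 1 ∧ m a = c • m b := fun a b e => by
    obtain ⟨c, hc⟩ := hk (a * b⁻¹) (by simp [e])
    change m (a * b⁻¹) = c • 1 at hc
    refine ⟨c, by simpa [hc] using md (a * b⁻¹), ?_⟩
    rw [← one_mul (m b), ← smul_mul_assoc, ← hc, ← map_mul, inv_mul_cancel_right]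
  have zz : z ^ 2 = 1 := h.oz ▸ pow_orderOf_eq_one z
  obtain ⟨Z, rfl, hZ⟩ : ∃ Z : H, π Z = z ∧ m Z * m Z = 1 := by
    obtain ⟨Z, rfl⟩ := hπ z
    obtain ⟨c, hc, e⟩ := sc (Z ^ 2) 1 (by simpa using zz)
    refine ⟨Z ^ 3, by rw [map_pow, pow_succ, zz, one_mul], ?_⟩
    rw [← map_mul, ← pow_add, show 3 + 3 = 2 * 3 from rfl, pow_mul, map_pow, e, smul_pow, hc]
    simp
  have h1 : m Z ≠ 1 := fun e => by
    have := h.oz
    rw [mi (e.trans m.map_one.symm)] at this
    simp at this
  have cz : ∀ a : H, Commute (π a) (π Z) → Commute (m a) (m Z) := fun a e => by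
    obtain ⟨c, hc, e'⟩ := sc (a * Z * a⁻¹) Z (by simp [e.eq])
    have e1 : m (a * Z * a⁻¹) * m (a * Z * a⁻¹) = 1 := by
      rw [← map_mul, conj_mul, map_mul, map_mul, map_mul, hZ, mul_one, ← map_mul, mul_inv_cancel,
        map_one]
    rw [e', smul_mul_smul_comm, hZ] at e1
    have e2 : c * c = 1 := by simpa using congrFun (congrFun e1 0) 0
    rw [show c = 1 by linear_combination hc - c * e2, one_smul] at e'
    rw [Commute, SemiconjBy, ← map_mul, ← map_mul, ← mi e', inv_mul_cancel_right, mi e']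
  obtain ⟨A, rfl⟩ := hπ v
  have hA := cz A h.zv.symm
  have cv : ∀ a : H, Commute (π a) (π Z) → Commute (π a) (π A) → Commute (m a) (m A) :=
    fun a e1 e2 => by
      obtain ⟨c, -, e⟩ := sc (a * A) (A * a) (by simp [e2.eq])
      obtain ⟨j, hj⟩ := rank_one h2 hZ (md Z) h1 hA
      obtain ⟨k, hk⟩ := rank_one h2 hZ (md Z) h1 (cz a e1)
      have e3 : m (a * A) * (1 + m Z) = m (A * a) * (1 + m Z) := by
        rw [map_mul, map_mul, mul_assoc, mul_assoc, hj, hk, mul_smul_comm, mul_smul_comm, hj, hk,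
          smul_comm]
      have e4 : (c - 1) • (1 + m Z) = 0 := by
        have := congrArg (m (A * a)⁻¹ * ·) e3
        simp only [e, smul_mul_assoc, mul_smul_comm, ← mul_assoc (m _), ← map_mul, inv_mul_cancel,
          map_one, one_mul] at this
        rw [sub_smul, this, one_smul, sub_self]
      rw [sub_eq_zero.1 ((smul_eq_zero.1 e4).resolve_right (ne_neg h2 (md Z))), one_smul, map_mul,
        map_mul] at e
      exact e
  obtain ⟨X, rfl⟩ := hπ x
  obtain ⟨Y, rfl⟩ := hπ y
  obtain ⟨T, rfl⟩ := hπ t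
  have bk : ∀ a b : H, Commute (m a) (m b) → Commute (π a) (π b) := fun a b e =>
    Commute.map (mi (by rw [map_mul, map_mul, e.eq]) : a * b = b * a) π
  refine (core h2 hZ (md Z) h1 hA (cz X xz) (cz Y yz) (cz T h.zt.symm) (cv X xz xv)
    (cv Y yz yv)).elim (bk X Y) fun e => (h.v1 ?_).elim
  have e1 := h.tv
  rw [(bk T A e).eq, mul_inv_cancel_right, eq_inv_iff_mul_eq_one, ← pow_two] at e1
  exact orderOf_eq_one_iff.1 (Nat.Coprime.eq_one_of_dvd (Nat.coprime_two_right.2 h.ov)
    (orderOf_dvd_of_pow_eq_one e1))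

end Cfsg.Agent.H91.FsM3
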