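import Cfsg.Agent.H56.FSDefs
import Cfsg.Agent.S0942
import Cfsg.Agent.S0943
import Cfsg.Agent.H19.GaloisNum

/-! Project FS3: the principal 2-block argument. -/

set_option autoImplicit false

namespace Cfsg.Agent.H91.FsStar

open Cfsg Cfsg.Agent.H56.FS

universe u

theorem star : StarStmt.{u} := by
  intro G _ _ a t ha ht h
  classical
  have := Fintype.ofFinite G
  have : Fact (Nat.Prime 2) := ⟨Nat.prime_two⟩
  obtain ⟨M, hM⟩ := H19.exists_isPModular Nat.prime_two
  have key : ∀ χ ∈ principalBlock M G, χ ≠ H17.trivIrr G → χ.1 t = 0 := fun χ hχ hne => by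
    have hcl := H11.isClassFunction_of_irr χ.2
    have h1 : ∀ g : G, χ.1 (g * a * g⁻¹ * t) = χ.1 t := fun g => by
      obtain ⟨v, hv, hc⟩ := h g
      obtain ⟨c, hc⟩ := isConj_iff.1 hc
      rw [← S0942.result 2 M hM t ⟨1, by simp [ht]⟩ v hv χ hχ, ← hc, hcl]
    have h2 := S0943.sum_conj_mul χ a t
    simp only [h1, Finset.sum_const, Finset.card_univ, nsmul_eq_mul] at h2
    by_contra h0
    have h3 : χ.1 a = χ.1 1 := by
      have hG : (Fintype.card G : ℂ) ≠ 0 := Nat.cast_ne_zero.2 Fintype.card_ne_zero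
      refine mul_right_cancel₀ (mul_ne_zero hG h0) ?_
      linear_combination -h2
    have := H11.charKer_normal hcl
    refine hne (Subtype.ext (H11.irr_eq_one_of_charKer_eq_top χ.2 (top_le_iff.1 ?_)))
    rw [← ha]
    exact Subgroup.normalClosure_le_normal
      (Set.singleton_subset_iff.2 ((H11.mem_charKer_irr_iff χ.2).2 h3))
  have h4 := H20.weak_block_orth hM
    (H17.lamClosed_of_isPBlock hM.2.1 (H17.isPBlock_principalBlock (M := M) (G := G)))
    (x := 1) (y := t⁻¹) (by simp) (by simp [ht])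
  rw [inv_inv, finsum_eq_single _ (H17.trivIrr G) fun χ hχ => ?_] at h4
  · rw [finsum_eq_if, if_pos (H17.trivIrr_mem_principalBlock hM.2.1)] at h4
    simp [H17.trivIrr] at h4
  · by_cases hb : χ ∈ principalBlock M G
    · simp [key χ hb hχ]
    · simp [hb]

end Cfsg.Agent.H91.FsStar
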