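import Mathlib
import Cfsg.Agent.H11.ElDefs

/-!
# A class of subgroups of order 11: the element of order three does not centralise the second line
-/

set_option autoImplicit false
open Subgroup

namespace Cfsg.Agent.H91.ElN4x

open Cfsg.Agent.H11.EL

universe u

section
variable {G : Type u} [Group G]

theorem ex_pow {g : G} {E : Subgroup G} {i : ℤ} (h : Ex g E i) (n : ℕ) :
    Ex (g ^ n) E (i ^ n) := by
  induction n with
  | zero => intro a _; simp
  | succ n ih =>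
    intro a ha
    have h1 : g ^ (n + 1) * a * (g ^ (n + 1))⁻¹ = g * (g ^ n * a * (g ^ n)⁻¹) * g⁻¹ := by
      rw [pow_succ']; simp [mul_assoc]
    rw [h1, ih a ha, h _ (E.zpow_mem ha _), ← zpow_mul, pow_succ]

theorem ex_one [Finite G] {E : Subgroup G} (hE : Nat.card E = 11) {j : ℤ} (h : Ex 1 E j) :
    (11 : ℤ) ∣ j - 1 := by
  have : Fact (Nat.Prime 11) := ⟨by norm_num⟩
  obtain ⟨a, ha⟩ := exists_prime_orderOf_dvd_card' (G := E) 11 (by rw [hE])
  have h1 := h a a.2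
  have h2 : orderOf (a : G) = 11 := by rw [← ha]; exact Subgroup.orderOf_coe a
  have h3 : (a : G) ^ (j - 1) = 1 := by
    rw [zpow_sub_one, ← h1]; simp
  have := orderOf_dvd_iff_zpow_eq_one.2 h3
  rwa [h2] at this

theorem conj_of_r1 [Finite G] {X K : Subgroup G} (hX : R1 X) (hK : K ≤ X) {s t : G} (hs : s ∈ K)
    (ht : t ∈ K) (os : orderOf s = 2) (ot : orderOf t = 2) : ∃ c ∈ K, c * s * c⁻¹ = t := by
  have ss : s * s = 1 := by rw [← sq, ← os, pow_orderOf_eq_one]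
  have tt : t * t = 1 := by rw [← sq, ← ot, pow_orderOf_eq_one]
  have si : s⁻¹ = s := inv_eq_of_mul_eq_one_right ss
  have ti : t⁻¹ = t := inv_eq_of_mul_eq_one_right tt
  have h1 : s * (s * t) * s⁻¹ = (s * t)⁻¹ := by
    rw [← mul_assoc, ss, one_mul, mul_inv_rev, ti]
  have h2 : ∀ n : ℕ, s * (s * t) ^ n * s⁻¹ = ((s * t) ^ n)⁻¹ := fun n => by
    rw [← conj_pow, h1, inv_pow]
  have hr : s * t ∈ K := K.mul_mem hs ht
  rcases Nat.even_or_odd' (orderOf (s * t)) with ⟨n, hn | hn⟩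
  · have hpos := orderOf_pos (s * t)
    have hz : (s * t) ^ n * (s * t) ^ n = 1 := by
      rw [← pow_add, ← two_mul, ← hn, pow_orderOf_eq_one]
    have hz1 : (s * t) ^ n ≠ 1 := pow_ne_one_of_lt_orderOf (by omega) (by omega)
    have oz : orderOf ((s * t) ^ n) = 2 := orderOf_eq_prime (by rw [sq, hz]) hz1
    have c1 : Commute s ((s * t) ^ n) := by
      have := h2 n
      rw [inv_eq_of_mul_eq_one_right hz, mul_inv_eq_iff_eq_mul] at this
      exact this
    have c2 : Commute t ((s * t) ^ n) := by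
      have e : t = s * (s * t) := by rw [← mul_assoc, ss, one_mul]
      have : Commute (s * (s * t)) ((s * t) ^ n) :=
        c1.mul_left ((Commute.refl _).pow_right n)
      rwa [← e] at this
    have e1 := hX s (hK hs) _ (hK (K.pow_mem hr n)) os oz c1
    have e2 := hX t (hK ht) _ (hK (K.pow_mem hr n)) ot oz c2
    exact ⟨1, K.one_mem, by rw [e2, ← e1]; simp⟩
  · refine ⟨(s * t) ^ n, K.pow_mem hr n, ?_⟩
    have h3 : s * ((s * t) ^ n)⁻¹ = (s * t) ^ n * s := by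
      rw [← h2 n, ← mul_assoc, ← mul_assoc, ss, one_mul, si]
    have h4 : (s * t) ^ n * (s * t) ^ n * (s * t) = 1 := by
      rw [← pow_add, ← pow_succ, ← two_mul, ← hn, pow_orderOf_eq_one]
    rw [mul_assoc, h3, ← mul_assoc, eq_inv_of_mul_eq_one_left h4, mul_inv_rev, ti, si, mul_assoc,
      ss, mul_one]

theorem cj_inj {g : G} {A B : Subgroup G} (h : cj g A = cj g B) : A = B := by
  have := congrArg (cj g⁻¹) h
  rwa [← cj_mul, ← cj_mul, inv_mul_cancel, cj_one, cj_one] at this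

theorem cj_pts {L E : Subgroup G} {g : G} (hg : g ∈ Nm L) (hE : E ∈ Pts L) : cj g E ∈ Pts L :=
  ⟨(cj_eq_iff.2 hg) ▸ map_mono hE.1, (card_cj g E).trans hE.2⟩

theorem second [Finite G] {L E : Subgroup G} (hL : (Pts L).ncard = 12) {w : G} (hw : w ∈ Nm L)
    (ww : w * w = 1) (hE : E ∈ Pts L) (hwE : w ∈ Nm E) : ∃ E' ∈ Pts L, E' ≠ E ∧ w ∈ Nm E' := by
  classical
  by_contra hc
  push Not at hc
  let f : Function.End (Pts L) := fun F => ⟨cj w F.1, cj_pts hw F.2⟩
  have := Fintype.ofFinite (Pts L)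
  have hf : f ^ 2 ^ 1 = 1 := by
    funext F
    apply Subtype.ext
    change cj w (cj w F.1) = F.1
    rw [← cj_mul, ww, cj_one]
  have h1 := Equiv.Perm.card_fixedPoints_modEq hf
  have h2 : Fintype.card (Pts L) = 12 := by
    rw [← Nat.card_eq_fintype_card]; exact hL
  have h3 : Fintype.card (Function.fixedPoints f) = 1 := by
    rw [Fintype.card_eq_one_iff]
    refine ⟨⟨⟨E, hE⟩, Subtype.ext (cj_eq_iff.2 hwE)⟩, fun y => ?_⟩
    apply Subtype.ext
    apply Subtype.ext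
    by_contra hne
    exact hc y.1.1 y.1.2 hne (cj_eq_iff.1 (congrArg Subtype.val y.2))
  rw [h2, h3] at h1
  exact absurd h1 (by decide)

theorem ct_cj {g k : G} {L : Subgroup G} (h : k ∈ Ct (cj g L)) : g⁻¹ * k * g ∈ Ct L := by
  rw [mem_centralizer_iff] at h ⊢
  intro l hl
  have := h (g * l * g⁻¹) (mem_cj.2 (by simpa [mul_assoc] using hl))
  calc l * (g⁻¹ * k * g) = g⁻¹ * (g * l * g⁻¹ * k) * g := by group
    _ = g⁻¹ * k * g * l := by rw [this]; group

end

theorem n4x (b : Base.{u}) (h41 : N41Stmt.{u}) : N4xStmt.{u} := by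
  intro G _ _ D A B A' B' t u x w P P' hne ht ot hu ou hcom hx hw ox ow hwx cxu cwu hxK
  have N := P.ne
  have hR : R1 (Ct A) := h41 D A B P (even_iff_two_dvd.2 (ot ▸ (Ct (A ⊔ B)).orderOf_dvd_natCard ht))
  have hR' : R1 (Ct A') :=
    h41 D A' B' P' (even_iff_two_dvd.2 (ou ▸ (Ct (A' ⊔ B')).orderOf_dvd_natCard hu))
  have hKA : Ct (A ⊔ B) ≤ Ct A := centralizer_le (show (A : Set G) ⊆ (A ⊔ B : Subgroup G) from
    le_sup_left (a := A) (b := B))
  have hKA' : Ct (A' ⊔ B') ≤ Ct A' := centralizer_le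
    (show (A' : Set G) ⊆ (A' ⊔ B' : Subgroup G) from le_sup_left (a := A') (b := B'))
  have u1 : u ≠ 1 := fun e => by rw [e, orderOf_one] at ou; omega
  have ww : w * w = 1 := by rw [← sq, ← ow, pow_orderOf_eq_one]
  have hxx : x⁻¹ ≠ x := fun e => by
    have : x ^ 2 = 1 := by rw [sq]; nth_rewrite 1 [← e]; simp
    have := orderOf_dvd_of_pow_eq_one this
    rw [ox] at this
    omega
  obtain ⟨g, gA, gB⟩ := N.tr2 A P.hA B P.hB A' P'.hA B' P'.hB P.AB P'.AB
  have gL : cj g (A ⊔ B) = A' ⊔ B' := by rw [cj_sup, gA, gB]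
  have hu0 : g⁻¹ * u * g ∈ Ct (A ⊔ B) := ct_cj (gL ▸ hu)
  have hx0 : g⁻¹ * x * g ∈ Ct (A ⊔ B) := ct_cj (gL ▸ hxK)
  have oc : ∀ c y : G, orderOf (c * y * c⁻¹) = orderOf y := fun c y =>
    (MulAut.conj c).orderOf_eq y
  have ou0 : orderOf (g⁻¹ * u * g) = 2 := by simpa [ou] using oc g⁻¹ u
  obtain ⟨c, hc, hct⟩ := conj_of_r1 hR hKA hu0 ht ou0 ot
  obtain ⟨x', hx'⟩ : ∃ x', x' = c * (g⁻¹ * x * g) * c⁻¹ := ⟨_, rfl⟩
  have hx'K : x' ∈ Ct (A ⊔ B) := hx' ▸ mul_mem (mul_mem hc hx0) (inv_mem hc)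
  have ox' : orderOf x' = 3 := by
    rw [hx', oc]
    simpa [ox] using oc g⁻¹ x
  have cx't : Commute x' t := by
    rw [hx', ← hct]
    have e := cxu.eq
    change _ * _ = _ * _
    calc c * (g⁻¹ * x * g) * c⁻¹ * (c * (g⁻¹ * u * g) * c⁻¹) = c * g⁻¹ * (x * u) * g * c⁻¹ := by
          group
      _ = _ := by rw [e]; group
  have cx'u := hcom x' hx'K cx't
  have hM : ∀ y : G, Commute y u → y ∈ Nm (A' ⊔ B') := fun y hy =>
    N.ti A' P'.hA B' P'.hB P'.AB u hu u1 y (by rw [hy.eq]; simpa using hu)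
  have x'1 : x' ≠ 1 := fun e => by rw [e, orderOf_one] at ox'; omega
  have hx'n : x' ∉ Ct (A' ⊔ B') := fun h =>
    hne (N.ti' A P.hA B P.hB P.AB A' P'.hA B' P'.hB P'.AB x' hx'K x'1 h).symm
  have cx'w : Commute w x' := hx'K w hw
  have hL' : IsL (A' ⊔ B') := (N.lp A' P'.hA B' P'.hB P'.AB).iso
  have hla := b.la _ hL'
  have hns : ∀ k ∈ Ct (A' ⊔ B'), ∀ s ∈ A' ⊔ B', w ≠ k * s := by
    intro k hk s hs e
    have c1 : s * x = x * s := hxK s hs
    have c2 : s * k = k * s := hk s hs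
    have c3 : s * u = u * s := hu s hs
    have h1 : k * x * k⁻¹ = x⁻¹ := by
      rw [← hwx, e]
      calc k * x * k⁻¹ = k * (x * s) * s⁻¹ * k⁻¹ := by group
        _ = _ := by rw [← c1]; group
    have h2 : k * k = (s * s)⁻¹ := by
      rw [eq_inv_iff_mul_eq_one, ← ww, e]
      calc k * k * (s * s) = k * (k * s) * s := by group
        _ = k * (s * k) * s := by rw [c2]
        _ = _ := by simp only [mul_assoc]
    have h3 : k * k = 1 := hla.ctr _ (h2 ▸ inv_mem (mul_mem hs hs)) (mul_mem hk hk)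
    have k1 : k ≠ 1 := fun e => hxx (by rw [← h1, e]; simp)
    have ok : orderOf k = 2 := orderOf_eq_prime (by rw [sq, h3]) k1
    have c4 : Commute k u := by
      have e' : k = w * s⁻¹ := by rw [e]; simp
      rw [e']
      exact cwu.mul_left (Commute.inv_left c3)
    have e2 := hR' k (hKA' hk) u (hKA' hu) ok ou c4
    rw [e2, ← cxu.eq] at h1
    exact hxx (by rw [← h1]; simp)
  obtain ⟨E, hE, hwE⟩ : ∃ E ∈ Pts (A' ⊔ B'), w ∈ Nm E := by
    by_contra hc
    push Not at hc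
    obtain ⟨k, hk, s, hs, e⟩ := b.le _ w hL' (hM w cwu) ww hc
    exact hns k hk s hs e
  obtain ⟨E', hE', hEE, hwE'⟩ := second hla.npts (hM w cwu) ww hE hwE
  have hED := N.pts _ (Or.inl hL') A' P'.hA le_sup_left E hE
  have hED' := N.pts _ (Or.inl hL') A' P'.hA le_sup_left E' hE'
  have hsup := hla.sup E hE E' hE' hEE.symm
  have lp := N.lp E hED E' hED' hEE.symm
  obtain ⟨f, s, h1⟩ := b.lc1 E E' lp
  have lt := b.lt E E' f s lp (b.lc E E' f s lp h1)
  have hwinv : Ex w E (-1) := by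
    rcases lt.small w hwE hwE' with h | h | ⟨i, hi, hi'⟩
    · exact absurd (mul_one w).symm (hns w (hsup ▸ h) 1 (one_mem _))
    · exact h
    · have := ex_pow hi 2
      rw [sq, ww] at this
      exact absurd (ex_one hE.2 this) hi'
  have ld := b.ld E E' w lp hwE hwE' hwinv
  have hfix : ∀ F ∈ Pts (A' ⊔ B'), w ∈ Nm F → cj x' F = E ∨ cj x' F = E' := fun F hF hwF =>
    ld.two _ (hsup ▸ cj_pts (hM x' cx'u) hF) (by
      rw [← cj_eq_iff, ← cj_mul, cx'w.eq, cj_mul, cj_eq_iff.2 hwF])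
  have x3 : x' ^ 3 = 1 := by rw [← ox', pow_orderOf_eq_one]
  have f1 : cj x' E = E := by
    rcases hfix E hE hwE with h | h
    · exact h
    · rcases hfix E' hE' hwE' with h' | h'
      · have : cj (x' ^ 3) E = E' := by
          rw [pow_three, cj_mul, cj_mul, h, h', h]
        rw [x3, cj_one] at this
        exact absurd this.symm hEE
      · exact absurd (cj_inj (h'.trans h.symm)) hEE
  have f2 : cj x' E' = E' := by
    rcases hfix E' hE' hwE' with h' | h'
    · exact absurd (cj_inj (h'.trans f1.symm)) hEE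
    · exact h'
  have h3 : ∀ i : ℤ, Ex x' E i → (11 : ℤ) ∣ i ^ 3 - 1 := fun i hi => by
    have := ex_pow hi 3
    rw [x3] at this
    exact ex_one hE.2 this
  rcases lt.small x' (cj_eq_iff.1 f1) (cj_eq_iff.1 f2) with h | h | ⟨i, hi, hi'⟩
  · exact hx'n (hsup ▸ h)
  · exact absurd (h3 _ h) (by norm_num)
  · apply hi'
    have h4 := h3 i hi
    have h5 : ∀ z : ZMod 11, z ^ 3 - 1 = 0 → z ^ 2 - 1 = 0 := by decide
    have h6 := (ZMod.intCast_zmod_eq_zero_iff_dvd (i ^ 3 - 1) 11).2 (by exact_mod_cast h4)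
    have h7 := (ZMod.intCast_zmod_eq_zero_iff_dvd (i ^ 2 - 1) 11).1 (by
      push_cast at h6 ⊢
      exact h5 _ h6)
    exact_mod_cast h7

end Cfsg.Agent.H91.ElN4x
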