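import Mathlib
import Cfsg.Agent.H17.KnDef2

/-!
# Project KN, piece CL3: the fusion pattern of the involutions
-/

set_option autoImplicit false
set_option maxRecDepth 100000

namespace Cfsg.Agent.H91.KnCl3

open Equiv Finset Cfsg.Agent.H11.A16 Cfsg.Agent.H17.Kn

universe u

/-- The weight of a vector. -/
def wt (f : P → ZMod 2) : ℕ := (univ.filter fun p => f p ≠ 0).card

/-- The sign change of a vector. -/
def sg (f : P → ZMod 2) : N2 := ⟨1, f⟩

/-- The vector of binary digits. -/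
def bv (n : ℕ) : P → ZMod 2 := fun p => if n.testBit p.1 then 1 else 0

/-- The number of binary digits. -/
def pc (n : ℕ) : ℕ := Nat.land (Nat.shiftRight (nat_lit 0x8776766576656554766565546554544376656554655454436554544354434332766565546554544365545443544343326554544354434332544343324332322176656554655454436554544354434332655454435443433254434332433232216554544354434332544343324332322154434332433232214332322132212110) (Nat.mul (nat_lit 4) n)) (nat_lit 15)

/-- The standard sign change of a given weight. -/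
def rep (w : ℕ) : N2 := sg (bv (2 ^ w - 1))

/-- A hexadecimal digit. -/
def cc (E w : ℕ) : ℕ := Nat.land (Nat.shiftRight E (Nat.mul (nat_lit 4) w)) (nat_lit 15)

/-- The table of the even weights that are fused with the weights. -/
def code (i j k l : ℕ) : ℕ := 0x806040200 + 0x20 * i + 0x2000 * j + 0x200000 * k + 0x20000000 * l

/-- The invariant. -/
def SS (c : ℕ → ℕ) (m : ℕ) : ℕ :=
  Nat.rec (nat_lit 0) (fun n s => Nat.add s (Nat.pow (nat_lit 2)
    (Nat.add (Nat.mul (nat_lit 9) (c (pc n))) (c (pc (Nat.xor m n)))))) (nat_lit 256)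

theorem chk : ∀ i j k l : Fin 5,
    SS (cc (code i j k l)) (2 ^ 1 - 1) = SS (cc (code i j k l)) (2 ^ (2 * i.1) - 1) →
    SS (cc (code i j k l)) (2 ^ 3 - 1) = SS (cc (code i j k l)) (2 ^ (2 * j.1) - 1) →
    ∃ ε, ∀ w : Fin 9, cc (code i j k l) w = 2 * cs ε w := by
  decide +kernel

theorem cc_code : ∀ i j k l : Fin 5, ∀ w : Fin 9,
    cc (code i j k l) w = 2 * (![0, i, 1, j, 2, k, 3, l, 4] w : Fin 5) := by
  decide +kernel

theorem rec_sum (g : ℕ → ℕ) (N : ℕ) :
    (Nat.rec 0 (fun n s => s + g n) N : ℕ) = ∑ n ∈ range N, g n := by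
  induction N with
  | zero => rfl
  | succ N ih => rw [sum_range_succ, ← ih]

theorem ty_sg (f : P → ZMod 2) : ty (sg f) = wt f := by simp [ty, sg, wt]

theorem sg_mem (f : P → ZMod 2) : sg f ∈ PP := rfl

theorem sg_of_mem {u : N2} (h : u ∈ PP) : sg u.f = u := N2.ext (Eq.symm h) rfl

theorem sg_mul (f g : P → ZMod 2) : sg f * sg g = sg (f + g) :=
  N2.ext (mul_one _) (funext fun _ => add_comm _ _)

theorem wt_bv : ∀ n : Fin 256, wt (bv n) = pc n := by decide +kernel

theorem bv_xor (m n : ℕ) : bv (m ^^^ n) = bv m + bv n := by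
  funext p
  simp only [bv, Pi.add_apply, Nat.testBit_xor]
  cases m.testBit p.1 <;> cases n.testBit p.1 <;> decide

theorem bv_bij : Function.Bijective fun n : Fin 256 => bv n := by
  have k : ∀ n : Fin 256, ∑ p : P, (bv n p).val * 2 ^ p.1 = n := by decide +kernel
  refine (Fintype.bijective_iff_injective_and_card _).2 ⟨fun m n h => Fin.ext ?_, by simp⟩
  rw [← k m, ← k n]
  exact congrArg (fun f : P → ZMod 2 => ∑ p : P, (f p).val * 2 ^ p.1) h

theorem SS_eq (c : ℕ → ℕ) {w : ℕ} (hw : w ≤ 8) :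
    SS c (2 ^ w - 1) = ∑ f : P → ZMod 2, 2 ^ (9 * c (wt f) + c (wt (bv (2 ^ w - 1) + f))) := by
  have h1 : 2 ^ w - 1 < 2 ^ 8 := by
    have := Nat.pow_le_pow_right (by norm_num : 0 < 2) hw
    have := Nat.two_pow_pos w
    omega
  refine (rec_sum (fun n => 2 ^ (9 * c (pc n) + c (pc ((2 ^ w - 1) ^^^ n)))) 256).trans ?_
  rw [← bv_bij.sum_comp, ← Fin.sum_univ_eq_sum_range
    (fun n => 2 ^ (9 * c (pc n) + c (pc ((2 ^ w - 1) ^^^ n)))) 256]
  refine sum_congr rfl fun n _ => ?_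
  rw [wt_bv, ← bv_xor, wt_bv ⟨_, Nat.xor_lt_two_pow h1 n.2⟩]

theorem ty_le (u : N2) : ty u ≤ 8 := (card_filter_le _ _).trans (by simp)

theorem ty_rep {w : ℕ} (h : w ≤ 8) : ty (rep w) = w := by
  interval_cases w <;> decide +kernel

theorem rep_E1 : ∀ i : Fin 5, rep (2 * i) ∈ E1 := by decide +kernel

theorem ty_even {v : N2} (h : v * v = 1) (hp : par v = 0) : Even (ty v) := by
  have h1 : ∀ p, v.σ (v.σ p) = p := fun p => DFunLike.congr_fun (congrArg N2.σ h) p
  have h2 : ∀ p, v.f p + v.f (v.σ p) = 0 := fun p => congrFun (congrArg N2.f h) p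
  have h3 : ∑ p, ((if v.σ p ≠ p ∨ v.f p ≠ 0 then 1 else 0 : ZMod 2) + v.f p) = 0 := by
    refine sum_ninvolution v.σ (fun p => ?_) (fun p hp e => hp ?_) (fun _ => mem_univ _) h1
    · by_cases e : v.σ p = p
      · simp only [e]; exact z2add _
      · rw [if_pos (Or.inl e), if_pos (Or.inl (by rw [h1]; exact Ne.symm e)), add_add_add_comm,
          h2 p]
        rfl
    · simp only [e, ne_eq, not_true_eq_false, false_or]
      generalize v.f p = a
      revert a
      decide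
  rw [sum_add_distrib, show ∑ p, v.f p = 0 from hp, add_zero, sum_boole] at h3
  exact ZMod.natCast_eq_zero_iff_even.1 h3

theorem cl3 (hB : Base.{u}) (h2 : Cl2Stmt.{u}) : Cl3Stmt.{u} := by
  intro G _ _ J φ s H ρ h simple wp
  obtain ⟨rd, eq⟩ := h2 J φ s H ρ h
  have rd := rd ⊤ le_top h.tht
  have em : Em J S2 := h.em2
  have PS : PP ≤ S2 := fun u hu => by
    change u.σ ∈ T'
    rw [show u.σ = 1 from hu]
    exact one_mem _
  have ind := (hB.kit J φ h.toKi).ind simple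
  let Fu : N2 → N2 → Prop := fun u v => ∃ g, R J g u v
  have sy : ∀ {u v}, Fu u v → Fu v u := fun ⟨_, a⟩ => ⟨_, a.symm⟩
  have tr : ∀ {u v w}, Fu u v → Fu v w → Fu u w := fun ⟨_, a⟩ ⟨_, b⟩ => ⟨_, a.trans b⟩
  have rf : ∀ u, Fu u u := fun u => ⟨1, by simp [R]⟩
  have redP : ∀ u ∈ PP, Fu u (rep (ty u)) := fun u hu => by
    obtain ⟨g, -, a⟩ := eq u hu (rep (ty u)) (sg_mem _) (ty_rep (ty_le u)).symm
    exact ⟨g, a⟩
  have red : ∀ u ∈ S2, u * u = 1 → Fu u (rep (ty u)) := fun u hu uu => by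
    obtain ⟨g, -, e, he, a, b⟩ := rd u hu uu
    exact a ▸ tr ⟨g, b⟩ (redP e he)
  have odd : ∀ w, par (rep w) = 1 → ∃ i : Fin 5, Fu (rep w) (rep (2 * i)) := fun w hw => by
    have m : rep w ∈ S2 := PS (sg_mem _)
    have sq : rep w * rep w = 1 := hB.m2.ab.2.2.2.1 _ (sg_mem _)
    obtain ⟨g, hg⟩ := (hB.gen (G := G)).tho (im J S2) (im J SE) (J (rep w)) ind h.syl2
      (im_mono inf_le_left) (mem_im m)
      (fun a => by
        have := ((em.mem_iff inf_le_left m).1 a).2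
        rw [show par (rep w) = 0 from this] at hw
        exact zero_ne_one hw)
      (fun a ha => by
        obtain ⟨u, hu, rfl⟩ := em.mem.1 ha
        by_cases e : par u = 0
        · exact Or.inl (mem_im ⟨hu, e⟩)
        · refine Or.inr ?_
          rw [← em.inv m, ← em.mul _ (inv_mem m) _ hu]
          refine mem_im ⟨S2.mul_mem (S2.inv_mem m) hu, ?_⟩
          change par _ = 0
          rw [inv_eq_of_mul_eq_one_right sq, par_mul, hw]
          revert e
          generalize par u = a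
          revert a
          decide)
      (by rw [← em.mul _ m _ m, sq, em.one])
    obtain ⟨v, hv, e⟩ := (em.mono inf_le_left).mem.1 hg
    have vv : v * v = 1 := em.inj _ (mul_mem hv.1 hv.1) _ (one_mem _) (by
      rw [em.mul _ hv.1 _ hv.1, e, conj_mul, ← em.mul _ m _ m, sq, em.one]; simp)
    obtain ⟨i, hi⟩ := ty_even vv hv.2
    have := ty_le v
    refine ⟨⟨i, by omega⟩, tr ⟨g, e.symm⟩ ?_⟩
    rw [show 2 * i = ty v by omega]
    exact red v hv.1 vv
  obtain ⟨i, hi⟩ := odd 1 (by decide +kernel)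
  obtain ⟨j, hj⟩ := odd 3 (by decide +kernel)
  obtain ⟨k, hk⟩ := odd 5 (by decide +kernel)
  obtain ⟨l, hl⟩ := odd 7 (by decide +kernel)
  have ch := chk i j k l
  have cd := cc_code i j k l
  generalize cc (code i j k l) = c at ch cd
  have cl : ∀ w ≤ 8, ∃ a : Fin 5, c w = 2 * a ∧ Fu (rep w) (rep (2 * a)) := fun w hw => by
    interval_cases w
    exacts [⟨0, cd 0, rf _⟩, ⟨i, cd 1, hi⟩, ⟨1, cd 2, rf _⟩, ⟨j, cd 3, hj⟩, ⟨2, cd 4, rf _⟩,
      ⟨k, cd 5, hk⟩, ⟨3, cd 6, rf _⟩, ⟨l, cd 7, hl⟩, ⟨4, cd 8, rf _⟩]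
  have key : ∀ a ≤ 8, ∀ b ≤ 8, Fu (rep a) (rep b) ↔ c a = c b := fun a ha b hb => by
    obtain ⟨x, x1, x2⟩ := cl a ha
    obtain ⟨y, y1, y2⟩ := cl b hb
    rw [x1, y1]
    refine ⟨fun e => ?_, fun e => tr x2 (e ▸ sy y2)⟩
    obtain ⟨g, e⟩ := tr (sy x2) (tr e y2)
    have := wp.wt g _ (rep_E1 x) _ (rep_E1 y) e
    rwa [ty_rep (by omega), ty_rep (by omega)] at this
  have inv : ∀ w ≤ 8, ∀ w' ≤ 8, Fu (rep w) (rep w') →
      SS c (2 ^ w - 1) = SS c (2 ^ w' - 1) := by
    rintro w hw w' hw' ⟨g, e⟩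
    obtain ⟨n, hn, e⟩ := wp.ctl g _ (sg_mem _) _ (sg_mem _) e
    obtain ⟨α, au, hα⟩ := (em.mono PS).au hn
    let β : (P → ZMod 2) → P → ZMod 2 := fun f => (α (sg f)).f
    have b1 : ∀ f, sg (β f) = α (sg f) := fun f => sg_of_mem (au.mem _ (sg_mem f))
    have si : ∀ {f g}, sg f = sg g → f = g := fun e => congrArg N2.f e
    have b2 : ∀ f g, β (f + g) = β f + β g := fun f g => si (by
      rw [← sg_mul, b1, b1, b1, ← sg_mul, au.mul _ (sg_mem _) _ (sg_mem _)])
    have b3 : Function.Bijective β := Finite.injective_iff_bijective.1 fun f g e =>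
      si (au.inj _ (sg_mem _) _ (sg_mem _) (by rw [← b1, ← b1, e]))
    have b4 : β (bv (2 ^ w - 1)) = bv (2 ^ w' - 1) := si (by
      rw [b1]
      exact (em.mono PS).inj _ (au.mem _ (sg_mem _)) _ (sg_mem _)
        ((Eq.symm (hα _ (sg_mem _))).trans e))
    have b5 : ∀ f, c (wt f) = c (wt (β f)) := fun f => by
      rw [← ty_sg, ← ty_sg, ← key _ (ty_le _) _ (ty_le _), b1]
      exact tr (sy (redP _ (sg_mem f))) (tr ⟨n, hα _ (sg_mem f)⟩ (redP _ (au.mem _ (sg_mem f))))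
    rw [SS_eq c hw, SS_eq c hw', ← b3.sum_comp
      (fun f => 2 ^ (9 * c (wt f) + c (wt (bv (2 ^ w' - 1) + f))))]
    refine sum_congr rfl fun f _ => ?_
    rw [← b4, ← b2, ← b5, ← b5]
  obtain ⟨ε, hε⟩ := ch (inv 1 (by norm_num) _ (by omega) hi) (inv 3 (by norm_num) _ (by omega) hj)
  refine ⟨ε, fun u hu v hv uu vv => ?_⟩
  have e1 := hε ⟨ty u, Nat.lt_succ_of_le (ty_le u)⟩
  have e2 := hε ⟨ty v, Nat.lt_succ_of_le (ty_le v)⟩
  have e3 := key _ (ty_le u) _ (ty_le v)
  simp only at e1 e2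
  rw [e1, e2] at e3
  constructor
  · intro a
    have := e3.1 (tr (sy (red u hu uu)) (tr a (red v hv vv)))
    omega
  · intro a
    exact tr (red u hu uu) (tr (e3.2 (by rw [a])) (sy (red v hv vv)))

end Cfsg.Agent.H91.KnCl3
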