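import Cfsg.Agent.H42.HtDefs
import Cfsg.Agent.H95.AutAlt

/-!
# Project HT, piece TRK: the standard subgroup is not normal and does not lie in a normal `A₁₀`
-/

set_option autoImplicit false

namespace Cfsg.Agent.H91.HtTRK

open Cfsg Cfsg.Agent.H42.HT Subgroup
open Cfsg.Agent.H7.AA (d2)
open Equiv (swap Perm)

universe u

variable {G : Type u} [Group G] {β : A8 →* G} {τ : G}

theorem supp_conj (p σ : P) : (p * σ * p⁻¹).support.card = σ.support.card :=
  Equiv.Perm.card_support_conj

theorem not_normal (ff : FF) (h : St β τ) (k : (∃ g, KX β g) ∨ KZ β τ) : ¬ β.range.Normal := by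
  intro hn
  rcases k with ⟨g, x, y, hx, hy, e⟩ | ⟨k, -⟩
  · let ε := MonoidHom.ofInjective h.inj
    let φ : A8 →* P := A8.subtype.comp (ε.symm.toMonoidHom.comp
      ((MulAut.conjNormal (H := β.range) g).toMonoidHom.comp ε.toMonoidHom))
    have hφ : Function.Injective φ := Subtype.val_injective.comp
      (ε.symm.injective.comp ((MulAut.conjNormal (H := β.range) g).injective.comp ε.injective))
    obtain ⟨p, hp⟩ := ff.a8 2 3 (by decide) φ hφ
    have e1 : φ x = y := by
      have : MulAut.conjNormal (H := β.range) g (ε x) = ε y := Subtype.ext e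
      change ((ε.symm (MulAut.conjNormal (H := β.range) g (ε x)) : A8) : P) = y
      rw [this, ε.symm_apply_apply]
    rw [← e1, hp, supp_conj, hx.card_support] at hy
    omega
  · obtain ⟨g, e⟩ := isConj_iff.1 k
    let s : A8 := ⟨d2 0 4 6 7, H78.mem_altOn.2 (by decide)⟩
    obtain ⟨a, ha⟩ := hn.conj_mem _ (MonoidHom.mem_range.2 ⟨s, rfl⟩) g⁻¹
    have c1 : Commute (g * τ * g⁻¹) (β s) := by
      have e1 : β s = g * β a * g⁻¹ := by rw [ha]; group
      rw [e1]
      exact (h.cτ a).map (MulAut.conj g)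
    rw [e] at c1
    have c2 : Commute (β z8') (β s) := by
      have := (h.cτ s).inv_left.mul_left c1
      rwa [inv_mul_cancel_left] at this
    have c3 : z8' * s = s * z8' := h.inj (by rw [map_mul, map_mul]; exact c2)
    have c4 : z8 * d2 0 4 6 7 = d2 0 4 6 7 * z8 := congrArg Subtype.val c3
    revert c4
    decide

theorem not_alt (ff : FF) (h : St β τ) (k : (∃ g, KX β g) ∨ KZ β τ) (Y : Subgroup G)
    (s : Sy β Y) : ¬ Nonempty (Y ≃* Al) := by
  rintro ⟨e⟩
  have := s.nrm
  have ex : ∀ n : G, ∃ p : P, ∀ y : Y, ((e (MulAut.conjNormal n y) : Al) : P) = p * e y * p⁻¹ :=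
    fun n => by
      obtain ⟨p, hp⟩ := H95.AutAlt.exists_conj (α := Fin 10) (by simp) (by simp)
        (e.symm.trans ((MulAut.conjNormal (H := Y) n).trans e))
      exact ⟨p, fun y => by simpa using hp (e y)⟩
  choose a ha using ex
  have un : ∀ p q : P, (∀ y : Y, p * e y * p⁻¹ = q * e y * q⁻¹) → p = q := fun p q hpq => by
    have : q⁻¹ * p = 1 := H95.AutAlt.eq_one_of_comm (α := Fin 10) (by simp) fun g hg => by
      have := hpq (e.symm ⟨g, hg⟩)
      rw [e.apply_symm_apply] at this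
      change p * g * p⁻¹ = q * g * q⁻¹ at this
      calc q⁻¹ * p * g * (q⁻¹ * p)⁻¹ = q⁻¹ * (p * g * p⁻¹) * q := by group
        _ = g := by rw [this]; group
    exact (inv_mul_eq_one.1 this).symm
  have am : ∀ m n, a (m * n) = a m * a n := fun m n => un _ _ fun y => by
    rw [← ha, map_mul, MulAut.mul_apply, ha, ha]; group
  let θ : G →* P := MonoidHom.mk' a am
  let b : A8 →* Y := β.codRestrict Y fun σ => s.le ⟨σ, rfl⟩
  let ε : A8 →* P := (alternatingGroup (Fin 10)).subtype.comp (e.toMonoidHom.comp b)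
  have hε : Function.Injective ε := Subtype.val_injective.comp (e.injective.comp
    fun x y hxy => h.inj (congrArg Subtype.val hxy))
  have hθ : ∀ σ, θ (β σ) = ε σ := fun σ => un _ _ fun y => by
    change a (β σ) * _ * (a (β σ))⁻¹ = _
    rw [← ha, show MulAut.conjNormal (β σ) y = b σ * y * (b σ)⁻¹ from Subtype.ext rfl,
      map_mul, map_mul, map_inv]
    rfl
  obtain ⟨p, hp⟩ := ff.a8 2 3 (by decide) ε hε
  rcases k with ⟨g, x, y, hx, hy, e1⟩ | ⟨k, -⟩
  · have e2 := congrArg (fun n => (θ n).support.card) e1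
    simp only [map_mul, map_inv, hθ, hp, supp_conj, hx.card_support, hy] at e2
    omega
  · obtain ⟨g, e1⟩ := isConj_iff.1 k
    have c1 := ff.c8 2 3 (by decide) (p⁻¹ * θ τ * p) fun σ hσ => by
      have c2 := ((h.cτ ⟨σ, hσ⟩).map θ).map (MulAut.conj p⁻¹)
      rw [hθ, hp] at c2
      simpa [mul_assoc] using c2
    have e2 := congrArg θ e1
    rw [map_mul, map_mul, map_mul, map_inv, hθ, hp] at e2
    have e3 : p⁻¹ * θ g * p * (p⁻¹ * θ τ * p) * (p⁻¹ * θ g * p)⁻¹ = p⁻¹ * θ τ * p * z8 := by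
      calc _ = p⁻¹ * (θ g * θ τ * (θ g)⁻¹) * p := by group
        _ = _ := by rw [e2, show ((z8' : A8) : P) = z8 from rfl]; group
    have e4 := supp_conj (p⁻¹ * θ g * p) (p⁻¹ * θ τ * p)
    rw [e3] at e4
    rcases c1 with c1 | c1 <;> rw [c1] at e4 <;> revert e4 <;> decide

theorem trk : TrkStmt.{u} := fun ff _ _ _ _ _ h k => ⟨not_normal ff h k, not_alt ff h k⟩

end Cfsg.Agent.H91.HtTRK
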