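import Mathlib

/-!
Linear algebra for groups whose automorphism group has three orbits; extension of homomorphisms
from a normal subgroup with a cyclic complement.
-/

set_option autoImplicit false

namespace Cfsg.Agent.H91

open Polynomial

theorem addEquiv_aeval {p : ℕ} {V : Type*} [AddCommGroup V] [Module (ZMod p) V]
    {X Y : Module.End (ZMod p) V} (a : V ≃+ V) (h : ∀ u, a (X u) = Y (a u)) (g : (ZMod p)[X])
    (u : V) : a (aeval X g u) = aeval Y g (a u) := by
  have hp : ∀ (n : ℕ) (u : V), a ((X ^ n) u) = (Y ^ n) (a u) := by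
    intro n
    induction n with
    | zero => simp
    | succ n ih => intro u; rw [pow_succ', pow_succ', Module.End.mul_apply, h, ih]; rfl
  induction g using Polynomial.induction_on' with
  | add f g hf hg => simp [hf, hg]
  | monomial n c =>
    simp only [aeval_monomial, Module.End.mul_apply, Module.algebraMap_end_apply]
    rw [ZMod.map_smul, hp]

theorem primRoot_of_transitive {p q : ℕ} [hp : Fact p.Prime] [hq' : Fact q.Prime] (hpq : p ≠ q)
    {V : Type*} [AddCommGroup V] [Module (ZMod p) V] [Finite V] [Nontrivial V]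
    (X : Module.End (ZMod p) V) (hq : X ^ q = 1) (hX : X ≠ 1)
    (htr : ∀ v w : V, v ≠ 0 → w ≠ 0 →
      ∃ (a : V ≃+ V) (k : ℕ), a v = w ∧ ∀ u, a (X u) = (X ^ k) (a u))
    (hk : ∀ k : ℕ, ¬ q ∣ k → ∃ a : V ≃+ V, ∀ u, a (X u) = (X ^ k) (a u)) :
    orderOf (p : ZMod q) = q - 1 := by
  classical
  have hfin : Finite (Module.End (ZMod p) V) := DFunLike.finite _
  let I : V → Set (Module.End (ZMod p) V) := fun v => {r | (∃ g : (ZMod p)[X], aeval X g = r) ∧ r v = 0}
  have hle : ∀ v w : V, v ≠ 0 → w ≠ 0 → (I v).ncard ≤ (I w).ncard := by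
    intro v w hv hw
    obtain ⟨a, k, hvw, ha⟩ := htr v w hv hw
    let a' : V ≃ₗ[ZMod p] V := { a with map_smul' := ZMod.map_smul a }
    refine Set.ncard_le_ncard_of_injOn (fun r => a'.conj r) ?_ a'.conj.injective.injOn
    rintro _ ⟨⟨g, rfl⟩, hr⟩
    refine ⟨⟨expand _ k g, ?_⟩, ?_⟩
    · refine LinearMap.ext fun u => ?_
      rw [expand_aeval, LinearEquiv.conj_apply_apply]
      have := addEquiv_aeval a ha g (a.symm u)
      rw [a.apply_symm_apply] at this
      exact this.symm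
    · rw [LinearEquiv.conj_apply_apply, ← hvw]
      change a (aeval X g (a.symm (a v))) = 0
      rw [a.symm_apply_apply, hr, map_zero]
  have hcomm : ∀ (g h : (ZMod p)[X]) (u : V), aeval X g (aeval X h u) = aeval X h (aeval X g u) := by
    intro g h u
    rw [← Module.End.mul_apply, ← map_mul, mul_comm, map_mul, Module.End.mul_apply]
  have heq : ∀ v w : V, v ≠ 0 → w ≠ 0 → I v ⊆ I w → I v = I w := fun v w hv hw h =>
    Set.eq_of_subset_of_ncard_le h (hle w v hw hv)
  have hsub : ∀ (g : (ZMod p)[X]) (w : V), aeval X g w ≠ 0 → I w = I (aeval X g w) := by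
    intro g w hw
    refine heq _ _ (fun e => hw (by rw [e, map_zero])) hw ?_
    rintro _ ⟨⟨h, rfl⟩, hr⟩
    exact ⟨⟨h, rfl⟩, by rw [hcomm, hr, map_zero]⟩
  have hdom : ∀ (g : (ZMod p)[X]) (v : V), v ≠ 0 → aeval X g v = 0 → aeval X g = 0 := by
    intro g v hv h0
    refine LinearMap.ext fun w => ?_
    by_contra hw
    have hw' : aeval X g w ≠ 0 := hw
    have h1 : aeval X g (v + w) = aeval X g w := by rw [map_add, h0, zero_add]
    have h2 : I (v + w) = I w := by rw [hsub g (v + w) (h1 ▸ hw'), h1, ← hsub g w hw']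
    have h3 : I w = I v := by
      refine heq _ _ (fun e => hw' (by rw [e, map_zero])) hv fun r hr => ⟨hr.1, ?_⟩
      have h4 : r ∈ I (v + w) := h2 ▸ hr
      have h5 := h4.2
      rwa [map_add, hr.2, add_zero] at h5
    have h6 : aeval X g ∈ I w := h3 ▸ ⟨⟨g, rfl⟩, h0⟩
    exact hw' h6.2
  have hint : IsIntegral (ZMod p) X := Algebra.IsIntegral.isIntegral X
  set μ := minpoly (ZMod p) X with hμ
  have hirr : Irreducible μ := by
    refine ⟨minpoly.not_isUnit _ _, fun g h hgh => ?_⟩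
    have h0 : μ ≠ 0 := minpoly.ne_zero hint
    have h1 : aeval X g * aeval X h = 0 := by rw [← map_mul, ← hgh, hμ, minpoly.aeval]
    by_cases hh : aeval X h = 0
    · left
      obtain ⟨c, hc⟩ := minpoly.dvd _ _ hh
      refine IsUnit.of_mul_eq_one c (mul_left_cancel₀ h0 ?_)
      rw [mul_one]
      calc μ * (g * c) = g * (μ * c) := by ring
        _ = μ := by rw [← hc, ← hgh]
    · right
      obtain ⟨u, hu⟩ : ∃ u, aeval X h u ≠ 0 := by
        by_contra hn
        push Not at hn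
        exact hh (LinearMap.ext hn)
      obtain ⟨c, hc⟩ := minpoly.dvd _ _ (hdom g _ hu (by rw [← Module.End.mul_apply, h1]; rfl))
      refine IsUnit.of_mul_eq_one c (mul_left_cancel₀ h0 ?_)
      rw [mul_one]
      calc μ * (h * c) = (μ * c) * h := by ring
        _ = μ := by rw [← hc, ← hgh]
  have hnd : ¬ μ ∣ Polynomial.X - 1 := by
    rintro ⟨c, hc⟩
    have := congrArg (aeval X) hc
    rw [map_mul, hμ, minpoly.aeval, zero_mul, map_sub, aeval_X, map_one, sub_eq_zero] at this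
    exact hX this
  have hdq : μ ∣ Polynomial.X ^ q - 1 := minpoly.dvd _ _ (by simp [hq])
  have hdc : μ ∣ cyclotomic q (ZMod p) := by
    rw [← cyclotomic_prime_mul_X_sub_one] at hdq
    exact (hirr.prime.dvd_or_dvd hdq).resolve_right hnd
  have hcop : p.Coprime q := (Nat.coprime_primes hp.out hq'.out).mpr hpq
  have hdeg := natDegree_of_dvd_cyclotomic_of_irreducible (K := ZMod p) (p := p) (f := 1)
    (by simp) hcop hdc hirr
  rw [← orderOf_units, ZMod.coe_unitOfCoprime, pow_one] at hdeg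
  rw [← hdeg]
  refine le_antisymm ?_ ?_
  · have := natDegree_le_of_dvd hdc (cyclotomic_ne_zero _ _)
    rwa [natDegree_cyclotomic, Nat.totient_prime hq'.out] at this
  · have : Fact (Irreducible μ) := ⟨hirr⟩
    let ζ := AdjoinRoot.root μ
    have hz : ∀ g : (ZMod p)[X], μ ∣ g → aeval ζ g = 0 := fun g hg => by
      rw [AdjoinRoot.aeval_eq, AdjoinRoot.mk_eq_zero]; exact hg
    have hζq : ζ ^ q = 1 := by simpa [sub_eq_zero] using hz _ hdq
    have hζ1 : ζ ≠ 1 := by
      intro e
      apply hnd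
      rw [← AdjoinRoot.mk_eq_zero, ← AdjoinRoot.aeval_eq]
      simp [← e, ζ]
    have hord : orderOf ζ = q := orderOf_eq_prime hζq hζ1
    have hsub : ((Finset.Ico 1 q).image (ζ ^ ·)).val ⊆ (μ.map (algebraMap _ (AdjoinRoot μ))).roots := by
      intro y hy
      obtain ⟨k, hk1, rfl⟩ := Finset.mem_image.mp (Finset.mem_val.mp hy)
      rw [Finset.mem_Ico] at hk1
      obtain ⟨a, ha⟩ := hk k (Nat.not_dvd_of_pos_of_lt hk1.1 hk1.2)
      rw [mem_roots (map_ne_zero hirr.ne_zero), IsRoot.def, eval_map_algebraMap, ← expand_aeval]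
      refine hz _ (minpoly.dvd _ _ ?_)
      rw [expand_aeval]
      refine LinearMap.ext fun u => ?_
      have := addEquiv_aeval a ha μ (a.symm u)
      rw [a.apply_symm_apply, hμ, minpoly.aeval] at this
      simpa using this.symm
    have h1 := card_le_degree_of_subset_roots hsub
    rw [natDegree_map, Finset.card_image_of_injOn, Nat.card_Ico] at h1
    · exact h1
    · intro i hi j hj hij
      rw [Finset.mem_coe, Finset.mem_Ico] at hi hj
      exact pow_injOn_Iio_orderOf (by rw [hord]; exact hi.2) (by rw [hord]; exact hj.2) hij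

theorem exists_addEquiv_map_of_field {K V : Type*} [Field K] [AddCommGroup V] [Module K V]
    {v w : V} (hv : v ≠ 0) (hw : w ≠ 0) :
    ∃ a : V ≃+ V, a v = w ∧ ∀ (c : K) u, a (c • u) = c • a u := by
  obtain ⟨g, hg⟩ := Submodule.exists_linearEquiv_restrict_eq
    ((LinearEquiv.toSpanNonzeroSingleton K V v hv).symm ≪≫ₗ
      LinearEquiv.toSpanNonzeroSingleton K V w hw)
  refine ⟨g.toAddEquiv, ?_, fun c u => g.map_smul c u⟩
  have := hg (LinearEquiv.toSpanNonzeroSingleton K V v hv 1)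
  rw [LinearEquiv.trans_apply, LinearEquiv.symm_apply_apply] at this
  simpa using this.symm

theorem exists_addEquiv_semilinear {K V : Type*} [Field K] [AddCommGroup V] [Module K V]
    (σ : K ≃+* K) : ∃ a : V ≃+ V, ∀ (c : K) u, a (c • u) = σ c • a u := by
  let b := Module.Basis.ofVectorSpace K V
  refine ⟨(b.repr.toAddEquiv.trans (Finsupp.mapRange.addEquiv σ.toAddEquiv)).trans
    b.repr.symm.toAddEquiv, fun c u => ?_⟩
  apply b.repr.injective
  ext i
  simp

theorem exists_addEquiv_of_primRoot {p q : ℕ} [hp : Fact p.Prime] [hq : Fact q.Prime]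
    (hpq : p ≠ q) {V : Type*} [AddCommGroup V] [Module (ZMod p) V]
    (X : Module.End (ZMod p) V) (hΦ : aeval X (cyclotomic q (ZMod p)) = 0)
    (hord : orderOf (p : ZMod q) = q - 1) :
    (∀ v w : V, v ≠ 0 → w ≠ 0 → ∃ a : V ≃+ V, a v = w ∧ ∀ u, a (X u) = X (a u)) ∧
      ∀ i : ℕ, ∃ a : V ≃+ V, ∀ u, a (X u) = (X ^ p ^ i) (a u) := by
  have hirr : Irreducible (cyclotomic q (ZMod p)) := by
    refine ZMod.irreducible_of_dvd_cyclotomic_of_natDegree
      (fun h => hpq ((Nat.prime_dvd_prime_iff_eq hp.out hq.out).mp h)) dvd_rfl ?_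
    rw [← orderOf_units, ZMod.coe_unitOfCoprime, hord, natDegree_cyclotomic,
      Nat.totient_prime hq.out]
  have : Fact (Irreducible (cyclotomic q (ZMod p))) := ⟨hirr⟩
  let K := AdjoinRoot (cyclotomic q (ZMod p))
  let ψ : K →+* Module.End (ZMod p) V :=
    Ideal.Quotient.lift (Ideal.span {cyclotomic q (ZMod p)}) (aeval X).toRingHom (by
      intro g hg
      obtain ⟨c, rfl⟩ := Ideal.mem_span_singleton.mp hg
      simp [hΦ])
  have hψ : ψ (AdjoinRoot.root _) = X := by
    change (aeval X).toRingHom Polynomial.X = X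
    simp
  have h1 : Module.Finite (ZMod p) K := (cyclotomic.monic q (ZMod p)).finite_adjoinRoot
  have h2 : Finite K := Module.finite_of_finite (ZMod p)
  have h3 : CharP K p := charP_of_injective_algebraMap (algebraMap (ZMod p) K).injective p
  refine ⟨fun v w hv hw => ?_, fun i => ?_⟩
  · obtain ⟨a, h4, h5⟩ := @exists_addEquiv_map_of_field K V _ _ (Module.compHom V ψ) v w hv hw
    refine ⟨a, h4, fun u => ?_⟩
    rw [← hψ]
    exact h5 (AdjoinRoot.root _) u
  · obtain ⟨a, h5⟩ := @exists_addEquiv_semilinear K V _ _ (Module.compHom V ψ)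
      (iterateFrobeniusEquiv K p i)
    refine ⟨a, fun u => ?_⟩
    rw [← hψ, ← map_pow]
    exact h5 (AdjoinRoot.root _) u

/-- Automorphisms of an elementary abelian group as linear maps. -/
def mulAutToEnd (p : ℕ) (W : Type*) [CommGroup W] [Module (ZMod p) (Additive W)] :
    MulAut W →* Module.End (ZMod p) (Additive W) where
  toFun ξ := (MonoidHom.toAdditive ξ.toMonoidHom).toZModLinearMap p
  map_one' := rfl
  map_mul' _ _ := rfl

theorem mulAutToEnd_apply (p : ℕ) (W : Type*) [CommGroup W] [Module (ZMod p) (Additive W)]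
    (ξ : MulAut W) (u : Additive W) : mulAutToEnd p W ξ u = Additive.ofMul (ξ u.toMul) := rfl

theorem primRoot_of_transitive_mul' {p q : ℕ} [hp : Fact p.Prime] [hq' : Fact q.Prime]
    (hpq : p ≠ q) {W : Type*} [CommGroup W] [Module (ZMod p) (Additive W)] [Finite W]
    [Nontrivial W] (ξ : MulAut W) (hq : ξ ^ q = 1) (hX : ξ ≠ 1)
    (htr : ∀ v w : W, v ≠ 1 → w ≠ 1 →
      ∃ (a : MulAut W) (k : ℕ), a v = w ∧ ∀ u, a (ξ u) = (ξ ^ k) (a u))
    (hk : ∀ k : ℕ, ¬ q ∣ k → ∃ a : MulAut W, ∀ u, a (ξ u) = (ξ ^ k) (a u)) :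
    orderOf (p : ZMod q) = q - 1 := by
  refine primRoot_of_transitive hpq (mulAutToEnd p W ξ) (by rw [← map_pow, hq, map_one])
    (fun h => hX (MulEquiv.ext fun u => congrArg (fun f => (f (Additive.ofMul u)).toMul) h))
    (fun v w hv hw => ?_) (fun k hqk => ?_)
  · obtain ⟨a, k, h1, h2⟩ := htr v.toMul w.toMul hv hw
    exact ⟨MulEquiv.toAdditive a, k, h1, fun u => by rw [← map_pow]; exact h2 u.toMul⟩
  · obtain ⟨a, h2⟩ := hk k hqk
    exact ⟨MulEquiv.toAdditive a, fun u => by rw [← map_pow]; exact h2 u.toMul⟩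

theorem primRoot_of_transitive_mul {p q : ℕ} [hp : Fact p.Prime] [hq' : Fact q.Prime]
    (hpq : p ≠ q) {W : Type*} [Group W] (hc : IsMulCommutative W) (hW : ∀ w : W, w ^ p = 1)
    [Finite W] [Nontrivial W] (ξ : MulAut W) (hq : ξ ^ q = 1) (hX : ξ ≠ 1)
    (htr : ∀ v w : W, v ≠ 1 → w ≠ 1 →
      ∃ (a : MulAut W) (k : ℕ), a v = w ∧ ∀ u, a (ξ u) = (ξ ^ k) (a u))
    (hk : ∀ k : ℕ, ¬ q ∣ k → ∃ a : MulAut W, ∀ u, a (ξ u) = (ξ ^ k) (a u)) :
    orderOf (p : ZMod q) = q - 1 :=
  let i : CommGroup W := { mul_comm := hc.is_comm.comm }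
  @primRoot_of_transitive_mul' p q _ _ hpq W i
    (AddCommGroup.zmodModule (n := p) (G := Additive W) (fun w => hW w.toMul)) _ _ ξ hq hX htr hk

theorem exists_mulAut_of_primRoot' {p q : ℕ} [hp : Fact p.Prime] [hq : Fact q.Prime]
    (hpq : p ≠ q) {W : Type*} [CommGroup W] [Module (ZMod p) (Additive W)]
    (ξ : MulAut W) (hξ : ξ ^ q = 1) (hf : ∀ u, ξ u = u → u = 1)
    (hord : orderOf (p : ZMod q) = q - 1) :
    (∀ v w : W, v ≠ 1 → w ≠ 1 → ∃ a : MulAut W, a v = w ∧ ∀ u, a (ξ u) = ξ (a u)) ∧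
      ∀ i : ℕ, ∃ a : MulAut W, ∀ u, a (ξ u) = (ξ ^ p ^ i) (a u) := by
  have hΦ : aeval (mulAutToEnd p W ξ) (cyclotomic q (ZMod p)) = 0 := by
    refine LinearMap.ext fun u => ?_
    have h1 := congrArg (aeval (mulAutToEnd p W ξ)) (cyclotomic_prime_mul_X_sub_one (ZMod p) q)
    rw [mul_comm, map_mul, map_sub, map_sub, map_pow, aeval_X, ← map_pow, hξ, map_one, map_one,
      sub_self] at h1
    have h2 := congrArg (fun f => f u) h1
    simp only [Module.End.mul_apply, LinearMap.sub_apply, Module.End.one_apply,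
      LinearMap.zero_apply, sub_eq_zero] at h2
    exact hf _ h2
  obtain ⟨h1, h2⟩ := exists_addEquiv_of_primRoot hpq _ hΦ hord
  refine ⟨fun v w hv hw => ?_, fun i => ?_⟩
  · obtain ⟨a, h3, h4⟩ := h1 (Additive.ofMul v) (Additive.ofMul w) hv hw
    exact ⟨MulEquiv.toAdditive.symm a, h3, fun u => h4 (Additive.ofMul u)⟩
  · obtain ⟨a, h4⟩ := h2 i
    rw [← map_pow] at h4
    exact ⟨MulEquiv.toAdditive.symm a, fun u => h4 (Additive.ofMul u)⟩

theorem exists_mulAut_of_primRoot {p q : ℕ} [hp : Fact p.Prime] [hq : Fact q.Prime]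
    (hpq : p ≠ q) {W : Type*} [Group W] (hc : IsMulCommutative W) (hW : ∀ w : W, w ^ p = 1)
    (ξ : MulAut W) (hξ : ξ ^ q = 1) (hf : ∀ u, ξ u = u → u = 1)
    (hord : orderOf (p : ZMod q) = q - 1) :
    (∀ v w : W, v ≠ 1 → w ≠ 1 → ∃ a : MulAut W, a v = w ∧ ∀ u, a (ξ u) = ξ (a u)) ∧
      ∀ i : ℕ, ∃ a : MulAut W, ∀ u, a (ξ u) = (ξ ^ p ^ i) (a u) :=
  let i : CommGroup W := { mul_comm := hc.is_comm.comm }
  @exists_mulAut_of_primRoot' p q _ _ hpq W i
    (AddCommGroup.zmodModule (n := p) (G := Additive W) (fun w => hW w.toMul)) ξ hξ hf hord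

/-- Extension of a homomorphism from a normal subgroup with a cyclic complement. -/
theorem exists_hom_extend_of_cyclic_complement {G H : Type*} [Group G] [Group H] {P : Subgroup G}
    [P.Normal] {x : G} {y : H} (hc : P.IsComplement' (Subgroup.zpowers x)) (φ : P →* H)
    (hy : orderOf y ∣ orderOf x) (h : ∀ u : P, φ (MulAut.conjNormal x u) = y * φ u * y⁻¹) :
    ∃ α : G →* H, (∀ u : P, α u = φ u) ∧ α x = y := by
  have hg : ∀ z : Subgroup.zpowers x,
      z ∈ Subgroup.zpowers (⟨x, Subgroup.mem_zpowers x⟩ : Subgroup.zpowers x) := by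
    rintro ⟨_, n, rfl⟩
    exact ⟨n, rfl⟩
  let f : Subgroup.zpowers x →* H := monoidHomOfForallMemZpowers hg (g' := y)
    (by rwa [Subgroup.orderOf_mk])
  have hf : f ⟨x, Subgroup.mem_zpowers x⟩ = y := monoidHomOfForallMemZpowers_apply_gen _ _
  have key : ∀ z : Subgroup.zpowers x, ∀ u : P,
      φ (MulAut.conjNormal (z : G) u) = f z * φ u * (f z)⁻¹ := by
    let S : Subgroup (Subgroup.zpowers x) :=
      { carrier := {z | ∀ u : P, φ (MulAut.conjNormal (z : G) u) = f z * φ u * (f z)⁻¹}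
        one_mem' := fun u => by simp
        mul_mem' := fun {a b} ha hb u => by
          rw [Subgroup.coe_mul, map_mul, MulAut.mul_apply, ha, hb, map_mul]; group
        inv_mem' := fun {a} ha u => by
          have := ha (MulAut.conjNormal ((a⁻¹ : Subgroup.zpowers x) : G) u)
          rw [← MulAut.mul_apply, ← map_mul, Subgroup.coe_inv, mul_inv_cancel, map_one,
            MulAut.one_apply] at this
          rw [this, map_inv, Subgroup.coe_inv]; group }
    intro z
    have h1 : Subgroup.zpowers (⟨x, Subgroup.mem_zpowers x⟩ : Subgroup.zpowers x) ≤ S := by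
      rw [Subgroup.zpowers_le]
      intro u
      rw [hf]; exact h u
    exact h1 (hg z)
  let e := SemidirectProduct.mulEquivSubgroup hc
  let l : (P ⋊[(P.normalizerMonoidHom).comp (Subgroup.inclusion (P.normalizer_eq_top ▸ le_top))]
      Subgroup.zpowers x) →* H := SemidirectProduct.lift φ f fun z => MonoidHom.ext fun u => key z u
  refine ⟨l.comp e.symm.toMonoidHom, fun u => ?_, ?_⟩
  · have : e.symm u = SemidirectProduct.inl u := by
      rw [MulEquiv.symm_apply_eq]; simp [e]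
    simp [this, l]
  · have : e.symm x = SemidirectProduct.inr ⟨x, Subgroup.mem_zpowers x⟩ := by
      rw [MulEquiv.symm_apply_eq]; simp [e]
    simp [this, hf, l]

end Cfsg.Agent.H91
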