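import Mathlib
import Cfsg.Agent.H55.Co3S
import Cfsg.Agent.H55.FkCo3
import Cfsg.Agent.H43.Co3O

/-!
# Automorphisms of the third Conway group and of its central involution centraliser
-/

set_option autoImplicit false
set_option maxRecDepth 100000
set_option linter.style.haveILetI false

namespace Cfsg.Agent.H91.S93cAut

open Subgroup
open scoped commutatorElement

theorem inn_of_equiv {A B : Type*} [Group A] [Group B] (e : A ≃* B)
    (h : ∀ β : MulAut B, ∃ c, β = MulAut.conj c) (α : MulAut A) : ∃ c, α = MulAut.conj c := by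
  obtain ⟨c, hc⟩ := h (e.symm.trans (α.trans e))
  refine ⟨e.symm c, MulEquiv.ext fun a => e.injective ?_⟩
  have := DFunLike.congr_fun hc (e a)
  simpa using this

theorem inn_of_out {T : Type*} [Group T] (h : Nat.card (Cfsg.Out T) = 1) (α : MulAut T) :
    ∃ c, α = MulAut.conj c := by
  have := (Nat.card_eq_one_iff_unique.1 h).1
  have h1 : ((α : MulAut T) : Cfsg.Out T) = 1 := Subsingleton.elim _ _
  obtain ⟨c, hc⟩ := (QuotientGroup.eq_one_iff α).1 h1
  exact ⟨c, hc.symm⟩

theorem inn_of_cover {M S : Type*} [Group M] [Group S] [Finite S] (π : M →* S)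
    (hπ : Function.Surjective π) (hc : center S = ⊥) (hk : ∀ a, π a = 1 → ∀ x, a * x = x * a)
    (hp : commutator M = ⊤) (h : ∀ β : MulAut S, ∃ c, β = MulAut.conj c) (θ : MulAut M) :
    ∃ c, θ = MulAut.conj c := by
  have hk' : ∀ a, (∀ x, a * x = x * a) → π a = 1 := fun a ha => by
    rw [← mem_bot, ← hc, mem_center_iff]
    intro y
    obtain ⟨x, rfl⟩ := hπ y
    rw [← map_mul, ← ha, map_mul]
  let f : S →* S := π.liftOfSurjective hπ ⟨π.comp θ.toMonoidHom, fun a e => hk' _ fun x => by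
    obtain ⟨y, rfl⟩ := θ.surjective x
    change θ a * θ y = θ y * θ a
    rw [← map_mul, hk a e, map_mul]⟩
  have hf : ∀ a, f (π a) = π (θ a) := fun a => π.liftOfRightInverse_comp_apply _ _ _ a
  have sf : Function.Surjective f := fun y => by
    obtain ⟨a, rfl⟩ := hπ y
    exact ⟨π (θ.symm a), by rw [hf, MulEquiv.apply_symm_apply]⟩
  obtain ⟨s, hs⟩ := h (MulEquiv.ofBijective f ⟨Finite.injective_iff_surjective.2 sf, sf⟩)
  obtain ⟨c, rfl⟩ := hπ s
  have e1 : ∀ a, π (θ a) = π (c * a * c⁻¹) := fun a => by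
    have := DFunLike.congr_fun hs (π a)
    rw [map_mul, map_mul, map_inv, ← hf]
    exact this
  have br : ∀ a b z w : M, π z = 1 → π w = 1 → ⁅a * z, b * w⁆ = ⁅a, b⁆ := fun a b z w hz hw => by
    have h1 := hk z hz
    have h2 := hk w⁻¹ (by rw [map_inv, hw, inv_one])
    rw [commutatorElement_def, commutatorElement_def]
    calc a * z * (b * w) * (a * z)⁻¹ * (b * w)⁻¹
        = a * (z * (b * w)) * z⁻¹ * a⁻¹ * w⁻¹ * b⁻¹ := by group
      _ = a * b * (w * (a⁻¹ * w⁻¹)) * b⁻¹ := by rw [h1]; group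
      _ = _ := by rw [← h2]; group
  have key : commutator M ≤ θ.toMonoidHom.eqLocus (MulAut.conj c).toMonoidHom := by
    rw [_root_.commutator_def, commutator_le]
    intro a _ b _
    change θ ⁅a, b⁆ = MulAut.conj c ⁅a, b⁆
    rw [map_commutatorElement, map_commutatorElement,
      ← mul_inv_cancel_left (MulAut.conj c a) (θ a), ← mul_inv_cancel_left (MulAut.conj c b) (θ b)]
    exact br _ _ _ _ (by rw [map_mul, map_inv, e1, MulAut.conj_apply, inv_mul_cancel])
      (by rw [map_mul, map_inv, e1, MulAut.conj_apply, inv_mul_cancel])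
  exact ⟨c, MulEquiv.ext fun a => key (hp ▸ mem_top a)⟩

open Cfsg.Agent.H43 Cfsg.Agent.H55 Cfsg.Agent.H55.C3 Cfsg.Agent.H80.KS

theorem out_Sp : Nat.card (Cfsg.Out Sp6.Sp) = 1 := by
  let e1 : PSp 3 (ZMod 2) ≃* Sp6.Sp :=
    (QuotientGroup.quotientMulEquivOfEq center_Sp).trans QuotientGroup.quotientBot
  have h3 := H28.card_mulAut_of_center center_Sp
  have h4 := S0814.result (F := ZMod 2) 2 1 le_rfl (by rw [ZMod.card]; rfl) 3 (by norm_num)
    (by norm_num)
  rw [← Nat.card_congr (MulAut.congr e1).toEquiv, h4, Nat.card_congr e1.toEquiv, Sp6.card_Sp] at h3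
  norm_num at h3
  omega

theorem autH (θ : MulAut Hs) : ∃ c, θ = MulAut.conj c := by
  obtain ⟨π₀, hπ₀⟩ := exists_sp
  haveI := S2136.simple_Sp
  have hS : H37.FK.NAS Sp6.Sp := ⟨S2136.simple_Sp, fun hc => by
    have h1 : center Sp6.Sp = ⊤ := eq_top_iff.2 fun a _ => mem_center_iff.2 fun b => hc.1.1 b a
    have h2 := Sp6.card_Sp
    rw [← card_top, ← h1, center_Sp, card_bot] at h2
    omega⟩
  have hk0 : ∀ c, π₀ c = 1 → c = 1 ∨ c = tM := by
    have h := card_mul_index π₀.ker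
    rw [index_ker, MonoidHom.range_eq_top.2 hπ₀, card_top, Sp6.card_Sp, h_card2] at h
    have h2 : Nat.card π₀.ker = 2 := by omega
    have ht : tM ∈ π₀.ker := FkCo3.NAS.eq_one hS fun c => by
      obtain ⟨c, rfl⟩ := hπ₀ c
      rw [← map_mul, (tM_comm c).eq, map_mul]
    exact fun c hc => eq_of_card_two h2 ht tM_ne hc
  have hperf := FkCo3.perfect_of π₀ hπ₀ (FkCo3.NAS.comm_top hS) (fun c => (tM_comm c).eq) tM_sq
    aM_sq hk0
  refine inn_of_cover π₀ hπ₀ center_Sp (fun a ha x => ?_) hperf (inn_of_out out_Sp) θ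
  rcases hk0 a ha with rfl | rfl
  · rw [one_mul, mul_one]
  · exact (tM_comm x).eq.symm

theorem autL (θ : MulAut (Subgroup.centralizer ({t3} : Set Γ3))) : ∃ c, θ = MulAut.conj c :=
  inn_of_equiv ((MulEquiv.subgroupCongr cent_t3).trans (subgroupOfEquivOfLe h_le)) autH θ

theorem inn (α : MulAut Γ3) : ∃ c, α = MulAut.conj c :=
  inn_of_equiv Co3M.equiv.symm (inn_of_out Co3O.card_out) α

end Cfsg.Agent.H91.S93cAut
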