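import Mathlib
import Cfsg.Agent.H91.FrobLift

/-!
Products of two elements of order three in a group with a fixed-point-free representation.
-/

set_option autoImplicit false

namespace Cfsg.Agent.H91

theorem norm_cubic_lt_one {a b : ℂ} {N : ℕ} (hN : N ≠ 0) (ha : a ^ N = 1) (hb : b ^ N = 1)
    (h : a + a⁻¹ + (b + b⁻¹) = 1) :
    ‖((a + a⁻¹) ^ 2 - (a + a⁻¹)) * ((a + a⁻¹) ^ 2 - (a + a⁻¹) - 1) *
      ((a + a⁻¹) ^ 2 - (a + a⁻¹) - 2)‖ < 1 := by
  have key : ∀ c : ℂ, c ^ N = 1 → ∃ t : ℝ, c + c⁻¹ = t ∧ t ≤ 2 := by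
    intro c hc
    have h1 : ‖c‖ = 1 := Complex.norm_eq_one_of_pow_eq_one hc hN
    refine ⟨2 * c.re, ?_, ?_⟩
    · rw [Complex.inv_eq_conj h1, Complex.add_conj]
    · have := Complex.re_le_norm c
      linarith
  obtain ⟨t, ht, ht2⟩ := key a ha
  obtain ⟨s, hs, hs2⟩ := key b hb
  rw [ht, hs] at h
  have h1 : t + s = 1 := by exact_mod_cast h
  rw [ht]
  have h2 : ((t : ℂ) ^ 2 - t) * ((t : ℂ) ^ 2 - t - 1) * ((t : ℂ) ^ 2 - t - 2) =
      (((t ^ 2 - t) * (t ^ 2 - t - 1) * (t ^ 2 - t - 2) : ℝ) : ℂ) := by push_cast; ring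
  rw [h2, Complex.norm_real, Real.norm_eq_abs, abs_lt]
  have h3 : -1 / 4 ≤ t ^ 2 - t := by nlinarith [sq_nonneg (t - 1 / 2)]
  have h4 : t ^ 2 - t ≤ 2 := by nlinarith
  generalize t ^ 2 - t = r at h3 h4
  constructor
  · nlinarith [mul_nonneg (sub_nonneg.mpr h3) (sq_nonneg (r - 3 / 2))]
  · nlinarith [mul_nonneg (sub_nonneg.mpr h4) (sq_nonneg (r - 1 / 2))]

theorem cubic_eq_zero_of_roots_of_unity {a b : ℂ} {N : ℕ} (hN : N ≠ 0) (ha : a ^ N = 1)
    (hb : b ^ N = 1) (h : a + a⁻¹ + (b + b⁻¹) = 1) :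
    ((a + a⁻¹) ^ 2 - (a + a⁻¹)) * ((a + a⁻¹) ^ 2 - (a + a⁻¹) - 1) *
      ((a + a⁻¹) ^ 2 - (a + a⁻¹) - 2) = 0 := by
  have hint : ∀ c : ℂ, c ^ N = 1 → IsIntegral ℚ c := fun c hc =>
    IsIntegral.of_pow (Nat.pos_of_ne_zero hN) (hc ▸ isIntegral_one)
  let K := IntermediateField.adjoin ℚ ({a, b} : Set ℂ)
  have : FiniteDimensional ℚ K := IntermediateField.finiteDimensional_adjoin (by
    rintro x (rfl | rfl)
    · exact hint _ ha
    · exact hint _ hb)
  have : NumberField K := {}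
  let a' : K := ⟨a, IntermediateField.subset_adjoin _ _ (by simp)⟩
  let b' : K := ⟨b, IntermediateField.subset_adjoin _ _ (by simp)⟩
  have ha' : a' ^ N = 1 := Subtype.ext ha
  have hb' : b' ^ N = 1 := Subtype.ext hb
  have h' : a' + a'⁻¹ + (b' + b'⁻¹) = 1 := Subtype.ext h
  have h1 : IsIntegral ℤ a' := IsIntegral.of_pow (Nat.pos_of_ne_zero hN) (ha' ▸ isIntegral_one)
  have h2 : IsIntegral ℤ a'⁻¹ := IsIntegral.of_pow (Nat.pos_of_ne_zero hN)
    (by rw [inv_pow, ha', inv_one]; exact isIntegral_one)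
  have h3 := h1.add h2
  have h4 := (h3.pow 2).sub h3
  have h5 := (h4.mul (h4.sub isIntegral_one)).mul (h4.sub (isIntegral_one.add isIntegral_one))
  rw [one_add_one_eq_two] at h5
  by_contra hne
  obtain ⟨σ, hσ⟩ := NumberField.exists_conjugate_one_le_norm (K := K) (α := ⟨_, h5⟩) (by
    intro e
    apply hne
    exact congrArg (fun x : NumberField.RingOfIntegers K => ((x : K) : ℂ)) e)
  have h6 := norm_cubic_lt_one hN (a := σ a') (b := σ b') (by rw [← map_pow, ha', map_one])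
    (by rw [← map_pow, hb', map_one]) (by simpa using congrArg σ h')
  refine absurd hσ (not_le.mpr ?_)
  change ‖σ (((a' + a'⁻¹) ^ 2 - (a' + a'⁻¹)) * ((a' + a'⁻¹) ^ 2 - (a' + a'⁻¹) - 1) *
    ((a' + a'⁻¹) ^ 2 - (a' + a'⁻¹) - 2))‖ < 1
  simpa [map_ofNat] using h6

/-- A fixed-point-free representation in a ring, with the restriction on products of elements of
order three. -/
structure FRep {G A : Type*} [Group G] [Ring A] (ρ : G →* A) : Prop where
  nzd : ∀ g : G, g ≠ 1 → ∀ a : A, (ρ g - 1) * a = 0 → a = 0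
  tri : ∀ x w : G, orderOf x = 3 → orderOf w = 3 →
    ρ (x * w) + ρ (x * w)⁻¹ = 2 ∨ ρ (x * w) + ρ (x * w)⁻¹ = -1 ∨ ρ (x * w) + ρ (x * w)⁻¹ = 0 ∨
    ρ (x * w) + ρ (x * w)⁻¹ = 1 ∨
    (ρ (x * w) + ρ (x * w)⁻¹) * (ρ (x * w) + ρ (x * w)⁻¹) = ρ (x * w) + ρ (x * w)⁻¹ + 1

section
variable {G A : Type*} [Group G] [Ring A] {ρ : G →* A}

theorem sq_add_of_nzd (h : ∀ g : G, g ≠ 1 → ∀ a : A, (ρ g - 1) * a = 0 → a = 0) {x : G}
    (hx1 : x ≠ 1) (hx : x ^ 3 = 1) : ρ x * ρ x + ρ x + 1 = 0 := by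
  refine h x hx1 _ ?_
  have : ρ x ^ 3 = 1 := by rw [← map_pow, hx, map_one]
  calc _ = ρ x ^ 3 - 1 := by noncomm_ring
    _ = 0 := by rw [this, sub_self]

theorem inv_eq_of_nzd (h : ∀ g : G, g ≠ 1 → ∀ a : A, (ρ g - 1) * a = 0 → a = 0) {x : G}
    (hx : orderOf x = 3) : ρ x⁻¹ = -1 - ρ x := by
  have h3 : x ^ 3 = 1 := hx ▸ pow_orderOf_eq_one x
  have h1 := sq_add_of_nzd h (fun e => by rw [e, orderOf_one] at hx; norm_num at hx) h3
  have h2 : x⁻¹ = x * x := by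
    rw [inv_eq_iff_mul_eq_one, ← h3, pow_three]
  rw [h2, map_mul, ← sub_eq_zero, ← h1]
  noncomm_ring

theorem eq_neg_one_of_nzd (h : ∀ g : G, g ≠ 1 → ∀ a : A, (ρ g - 1) * a = 0 → a = 0) {x : G}
    (hx1 : x ≠ 1) (hx : x * x = 1) : ρ x = -1 := by
  rw [← add_eq_zero_iff_eq_neg]
  refine h x hx1 _ ?_
  have : ρ x * ρ x = 1 := by rw [← map_mul, hx, map_one]
  calc _ = ρ x * ρ x - 1 := by noncomm_ring
    _ = 0 := by rw [this, sub_self]

end

theorem frep_of_end {G V : Type*} [Group G] [Finite G] [AddCommGroup V] [Module ℂ V]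
    [FiniteDimensional ℂ V] [Nontrivial V] (ρ : G →* Module.End ℂ V)
    (h : ∀ g : G, g ≠ 1 → ∀ v, ρ g v = v → v = 0) : FRep ρ := by
  have nzd : ∀ g : G, g ≠ 1 → ∀ a : Module.End ℂ V, (ρ g - 1) * a = 0 → a = 0 := by
    intro g hg a ha
    refine LinearMap.ext fun v => h g hg _ ?_
    have := LinearMap.congr_fun ha v
    simpa [sub_eq_zero] using this
  refine ⟨nzd, fun x w hx hw => ?_⟩
  have hN : Nat.card G ≠ 0 := Nat.card_pos.ne'
  have heig : ∀ (g : G) (α : ℂ) (v : V), v ≠ 0 → ρ g v = α • v →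
      α ^ Nat.card G = 1 ∧ (∀ k : ℕ, ρ (g ^ k) v = α ^ k • v) ∧ ρ g⁻¹ v = α⁻¹ • v := by
    intro g α v hv hg
    have h1 : ∀ k : ℕ, ρ (g ^ k) v = α ^ k • v := by
      intro k
      induction k with
      | zero => simp
      | succ k ih => rw [pow_succ', map_mul, Module.End.mul_apply, ih, map_smul, hg, smul_smul,
          pow_succ]
    have h2 : α ^ Nat.card G = 1 := by
      have := h1 (Nat.card G)
      rw [pow_card_eq_one', map_one, Module.End.one_apply] at this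
      exact smul_left_injective ℂ hv (this.symm.trans (one_smul _ _).symm)
    have h3 : α ≠ 0 := fun e => by rw [e, zero_pow hN] at h2; exact zero_ne_one h2
    refine ⟨h2, h1, ?_⟩
    have : ρ g⁻¹ (ρ g v) = v := by
      rw [← Module.End.mul_apply, ← map_mul, inv_mul_cancel, map_one, Module.End.one_apply]
    rw [hg, map_smul] at this
    rw [eq_inv_smul_iff₀ h3, this]
  set g := x * w with hg
  set k := x⁻¹ * w with hk
  have hτ : ρ k + ρ k⁻¹ = 1 - (ρ g + ρ g⁻¹) := by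
    rw [hg, hk, mul_inv_rev, mul_inv_rev, inv_inv]
    simp only [map_mul, inv_eq_of_nzd nzd hx, inv_eq_of_nzd nzd hw]
    noncomm_ring
  obtain ⟨α, hα⟩ := Module.End.exists_eigenvalue (ρ g)
  obtain ⟨v, hv⟩ := hα.exists_hasEigenvector
  obtain ⟨h1, h2, h3⟩ := heig g α v hv.2 hv.apply_eq_smul
  let W := Module.End.eigenspace (ρ k + ρ k⁻¹) (1 - (α + α⁻¹))
  have hvW : v ∈ W := by
    rw [Module.End.mem_eigenspace_iff, hτ]
    simp only [LinearMap.sub_apply, LinearMap.add_apply, Module.End.one_apply, hv.apply_eq_smul, h3]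
    module
  have : Nontrivial W := ⟨⟨⟨v, hvW⟩, 0, fun e => hv.2 (congrArg Subtype.val e)⟩⟩
  have hW : ∀ u ∈ W, ρ k u ∈ W := by
    intro u hu
    rw [Module.End.mem_eigenspace_iff] at hu ⊢
    rw [← map_smul, ← hu, ← Module.End.mul_apply, ← Module.End.mul_apply, add_mul, mul_add,
      ← map_mul, ← map_mul, ← map_mul, inv_mul_cancel, mul_inv_cancel]
  obtain ⟨β, hβ⟩ := Module.End.exists_eigenvalue ((ρ k).restrict hW)
  obtain ⟨u, hu⟩ := hβ.exists_hasEigenvector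
  have hu0 : (u : V) ≠ 0 := fun e => hu.2 (Subtype.ext e)
  have hu1 : ρ k u = β • (u : V) := congrArg Subtype.val hu.apply_eq_smul
  obtain ⟨h4, -, h5⟩ := heig k β u hu0 hu1
  have h6 : β + β⁻¹ = 1 - (α + α⁻¹) := by
    have := Module.End.mem_eigenspace_iff.mp u.2
    rw [LinearMap.add_apply, hu1, h5, ← add_smul] at this
    exact smul_left_injective ℂ hu0 this
  have h7 := cubic_eq_zero_of_roots_of_unity hN h1 h4 (by rw [h6]; ring)
  have hα0 : α ≠ 0 := fun e => by rw [e, zero_pow hN] at h1; exact zero_ne_one h1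
  have hαi : α * α⁻¹ = 1 := mul_inv_cancel₀ hα0
  have hone : ∀ k : ℕ, α ^ k = 1 ↔ g ^ k = 1 := fun k =>
    ⟨fun e => by
      by_contra h8
      exact hv.2 (h _ h8 v (by rw [h2, e, one_smul])), fun e => by
      have := h2 k
      rw [e, map_one, Module.End.one_apply] at this
      exact smul_left_injective ℂ hv.2 (this.symm.trans (one_smul _ _).symm)⟩
  have hgi : ρ g * ρ g⁻¹ = 1 := by rw [← map_mul, mul_inv_cancel, map_one]
  have hgi' : ρ g⁻¹ * ρ g = 1 := by rw [← map_mul, inv_mul_cancel, map_one]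
  have hneg : ∀ m : ℕ, α ^ m = -1 → ρ g ^ m = -1 := by
    intro m hm
    rw [← map_pow]
    refine eq_neg_one_of_nzd nzd (fun e => ?_) ?_
    · rw [(hone m).mpr e] at hm; norm_num at hm
    · rw [← pow_add, ← hone, pow_add, hm]; norm_num
  have hplus : α ^ 2 ≠ 1 → ∀ a, (ρ g + 1) * a = 0 → a = 0 := by
    intro h8 a ha
    refine nzd (g ^ 2) (fun e => h8 ((hone 2).mpr e)) a ?_
    rw [map_pow, show ρ g ^ 2 - 1 = (ρ g - 1) * (ρ g + 1) by noncomm_ring, mul_assoc, ha, mul_zero]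
  have hcancel : ∀ a, ρ g * a = 0 → a = 0 := fun a ha => by
    rw [← one_mul a, ← hgi', mul_assoc, ha, mul_zero]
  have hfac : (α + α⁻¹) * (α + α⁻¹ - 1) * ((α + α⁻¹) ^ 2 - (α + α⁻¹) - 1) * (α + α⁻¹ - 2) *
      (α + α⁻¹ + 1) = 0 := by rw [← h7]; ring
  simp only [mul_eq_zero] at hfac
  rcases hfac with (((h8 | h8) | h8) | h8) | h8
  · right; right; left
    have := hneg 2 (by linear_combination α * h8 - hαi)
    refine hcancel _ ?_
    rw [mul_add, hgi, ← sq, this, neg_add_cancel]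
  · right; right; right; left
    have h9 := hneg 3 (by linear_combination (α + 1) * α * h8 - (α + 1) * hαi)
    have h10 := hplus (fun e => by
      have : (3 : ℂ) = 0 := by
        linear_combination (α + α⁻¹ + 1) * h8 - (1 - α⁻¹ ^ 2) * e - (α * α⁻¹ + 3) * hαi
      norm_num at this) (ρ g * ρ g - ρ g + 1) (by
        rw [show (ρ g + 1) * (ρ g * ρ g - ρ g + 1) = ρ g ^ 3 + 1 by noncomm_ring, h9, neg_add_cancel])
    rw [← sub_eq_zero]
    refine hcancel _ ?_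
    rw [mul_sub, mul_add, hgi, ← h10]
    noncomm_ring
  · right; right; right; right
    have h9 := hneg 5 (by
      linear_combination (α + 1) * α ^ 2 * h8 - (α + 1) * (2 * α ^ 2 + α * α⁻¹ + 1 - α) * hαi)
    have h10 := hplus (fun e => by
      have h11 : α⁻¹ = α := inv_eq_of_mul_eq_one_right (by rw [← sq, e])
      rw [h11] at h8
      have : (5 : ℂ) = 0 := by linear_combination (2 * α + 3) * h8 - (8 * α + 8) * e
      norm_num at this) (ρ g ^ 4 - ρ g ^ 3 + ρ g ^ 2 - ρ g + 1) (by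
        rw [show (ρ g + 1) * (ρ g ^ 4 - ρ g ^ 3 + ρ g ^ 2 - ρ g + 1) = ρ g ^ 5 + 1 by noncomm_ring,
          h9, neg_add_cancel])
    rw [← sub_eq_zero]
    refine hcancel _ (hcancel _ ?_)
    rw [← h10]
    have e1 : ρ g * (ρ g * ((ρ g + ρ g⁻¹) * (ρ g + ρ g⁻¹) - (ρ g + ρ g⁻¹ + 1))) =
        ρ g ^ 4 + ρ g ^ 2 * (ρ g * ρ g⁻¹) + ρ g * (ρ g * ρ g⁻¹) * ρ g +
          ρ g * (ρ g * ρ g⁻¹) * ρ g⁻¹ - ρ g ^ 3 - ρ g * (ρ g * ρ g⁻¹) - ρ g ^ 2 := by noncomm_ring
    rw [e1, hgi, mul_one, mul_one, hgi]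
    noncomm_ring
  · left
    have h9 : α ^ 1 = 1 := by
      have : (α - 1) ^ 2 = 0 := by linear_combination α * h8 - hαi
      rw [pow_one, ← sub_eq_zero]
      exact pow_eq_zero_iff two_ne_zero |>.mp this
    have := (hone 1).mp h9
    rw [pow_one] at this
    rw [this, inv_one, map_one, one_add_one_eq_two]
  · right; left
    have h9 : g ^ 3 = 1 := (hone 3).mp (by linear_combination (α - 1) * α * h8 - (α - 1) * hαi)
    have h10 : g ≠ 1 := fun e => by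
      have h11 := (hone 1).mpr (by rw [e, one_pow])
      rw [pow_one] at h11
      rw [h11] at h8
      norm_num at h8
    rw [inv_eq_of_nzd nzd (orderOf_eq_prime h9 h10)]
    noncomm_ring

theorem HasIntFPF.exists_frep {G : Type*} [Group G] [Finite G] (hG : HasIntFPF G) :
    ∃ (A : Type) (_ : Ring A) (_ : Algebra ℚ A) (_ : Nontrivial A) (ρ : G →* A), FRep ρ := by
  obtain ⟨n, ρ, hn, h⟩ := hG.exists_matrix ℂ (fun r hr => by
    have : (Nat.card G : ℂ) ≠ 0 := Nat.cast_ne_zero.mpr Nat.card_pos.ne'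
    exact (mul_eq_zero.mp hr).resolve_left this)
  have : Nonempty (Fin n) := ⟨⟨0, hn⟩⟩
  exact ⟨Module.End ℂ (Fin n → ℂ), inferInstance, inferInstance, inferInstance,
    (Matrix.toLinAlgEquiv' (R := ℂ) (n := Fin n)).toMonoidHom.comp ρ,
    frep_of_end _ fun g hg v hv => h g hg v hv⟩

end Cfsg.Agent.H91
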