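import Mathlib

/-!
Quaternion coordinates in a `ℚ`-algebra with respect to a pair of anticommuting square roots
of `-1`; the coordinates lie in the (non-commutative) centralizer of the pair.
-/

set_option autoImplicit false

namespace Cfsg.Agent.H91

/-- `noncomm_ring` followed by evaluation of numerals. -/
scoped macro "ncr" : tactic => `(tactic| (noncomm_ring <;> norm_num))

theorem cancel_nat {A : Type*} [Ring A] [Algebra ℚ A] (n : ℕ) [n.AtLeastTwo] {a b : A}
    (h : (OfNat.ofNat n : A) * a = OfNat.ofNat n * b) : a = b := by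
  have h1 : ∀ c : A, (OfNat.ofNat n : A) * c = (OfNat.ofNat n : ℚ) • c := fun c => by
    rw [Algebra.smul_def, map_ofNat]
  rw [h1, h1] at h
  exact smul_right_injective A (OfNat.ofNat_ne_zero n) h

/-- A quaternion basis. -/
structure QB (A : Type*) [Ring A] where
  I : A
  J : A
  hI : I * I = -1
  hJ : J * J = -1
  hJI : J * I = -(I * J)

namespace QB

variable {A : Type*} [Ring A] [Algebra ℚ A] (B : QB A)

/-- The coefficient ring. -/
abbrev E : Subalgebra ℚ A := Subalgebra.centralizer ℚ {B.I, B.J}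

/-- The element with given coordinates. -/
def q (a b c d : B.E) : A := a + b * B.I + c * B.J + d * (B.I * B.J)

theorem I_mul (e : B.E) : B.I * e = e * B.I := e.2 B.I (by simp)

theorem J_mul (e : B.E) : B.J * e = e * B.J := e.2 B.J (by simp)

theorem I_mul' (e : B.E) (x : A) : B.I * (e * x) = e * (B.I * x) := by
  rw [← mul_assoc, I_mul, mul_assoc]

theorem J_mul' (e : B.E) (x : A) : B.J * (e * x) = e * (B.J * x) := by
  rw [← mul_assoc, J_mul, mul_assoc]

omit [Algebra ℚ A] in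
theorem I_I (x : A) : B.I * (B.I * x) = -x := by rw [← mul_assoc, B.hI, neg_one_mul]

omit [Algebra ℚ A] in
theorem J_J (x : A) : B.J * (B.J * x) = -x := by rw [← mul_assoc, B.hJ, neg_one_mul]

omit [Algebra ℚ A] in
theorem J_I (x : A) : B.J * (B.I * x) = -(B.I * (B.J * x)) := by
  rw [← mul_assoc, B.hJI, neg_mul, mul_assoc]

theorem mem_E {a : A} (h1 : B.I * a = a * B.I) (h2 : B.J * a = a * B.J) : a ∈ B.E := by
  rintro _ (rfl | rfl)
  exacts [h1, h2]

theorem q_mul (a b c d a' b' c' d' : B.E) :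
    B.q a b c d * B.q a' b' c' d' = B.q (a * a' - b * b' - c * c' - d * d')
      (a * b' + b * a' + c * d' - d * c') (a * c' - b * d' + c * a' + d * b')
      (a * d' + b * c' - c * b' + d * a') := by
  simp only [q, mul_add, add_mul, sub_mul, mul_assoc, I_mul, J_mul, I_mul', J_mul', I_I, J_J, J_I,
    B.hI, B.hJ, B.hJI, mul_neg, neg_neg, mul_one, Subalgebra.coe_add, Subalgebra.coe_sub,
    Subalgebra.coe_mul]
  abel

theorem q_add (a b c d a' b' c' d' : B.E) :
    B.q a b c d + B.q a' b' c' d' = B.q (a + a') (b + b') (c + c') (d + d') := by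
  simp only [q, add_mul, Subalgebra.coe_add]
  abel

theorem q_neg (a b c d : B.E) : -B.q a b c d = B.q (-a) (-b) (-c) (-d) := by
  simp only [q, neg_mul, Subalgebra.coe_neg]
  abel

theorem q_sub (a b c d a' b' c' d' : B.E) :
    B.q a b c d - B.q a' b' c' d' = B.q (a - a') (b - b') (c - c') (d - d') := by
  simp only [q, sub_mul, Subalgebra.coe_sub]
  abel

theorem coe_eq_q (a : B.E) : (a : A) = B.q a 0 0 0 := by simp [q]

theorem one_eq_q : (1 : A) = B.q 1 0 0 0 := by simp [q]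

theorem ofNat_eq_q (n : ℕ) [n.AtLeastTwo] : (OfNat.ofNat n : A) = B.q (OfNat.ofNat n) 0 0 0 := by
  rw [← coe_eq_q]
  exact (map_ofNat B.E.val n).symm

theorem I_eq_q : B.I = B.q 0 1 0 0 := by simp [q]

theorem J_eq_q : B.J = B.q 0 0 1 0 := by simp [q]

theorem IJ_eq_q : B.I * B.J = B.q 0 0 0 1 := by simp [q]

theorem eq_zero_of_q {a b c d : B.E} (h : B.q a b c d = 0) : a = 0 := by
  have h1 : B.q a b c d - B.I * B.q a b c d * B.I - B.J * B.q a b c d * B.J -
      (B.I * B.J) * B.q a b c d * (B.I * B.J) = B.q (4 * a) 0 0 0 := by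
    rw [IJ_eq_q, I_eq_q, J_eq_q]
    simp only [q_mul, q_sub]
    congr 1 <;> ncr
  rw [h, ← coe_eq_q] at h1
  have h2 : 4 * a = 0 := Subtype.ext (by simpa using h1.symm)
  exact cancel_nat 4 (by rw [h2, mul_zero])

theorem q_eq_zero {a b c d : B.E} (h : B.q a b c d = 0) : a = 0 ∧ b = 0 ∧ c = 0 ∧ d = 0 := by
  have h1 := congrArg (· * B.q 0 1 0 0) h
  have h2 := congrArg (· * B.q 0 0 1 0) h
  have h3 := congrArg (· * B.q 0 0 0 1) h
  simp only [q_mul, zero_mul] at h1 h2 h3
  exact ⟨B.eq_zero_of_q h, by simpa using B.eq_zero_of_q h1, by simpa using B.eq_zero_of_q h2,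
    by simpa using B.eq_zero_of_q h3⟩

theorem q_inj {a b c d a' b' c' d' : B.E} :
    B.q a b c d = B.q a' b' c' d' ↔ a = a' ∧ b = b' ∧ c = c' ∧ d = d' := by
  refine ⟨fun h => ?_, by rintro ⟨rfl, rfl, rfl, rfl⟩; rfl⟩
  rw [← sub_eq_zero, q_sub] at h
  simpa only [sub_eq_zero] using B.q_eq_zero h

theorem avg_mem (p : A) :
    p - B.I * p * B.I - B.J * p * B.J - (B.I * B.J) * p * (B.I * B.J) ∈ B.E := by
  refine B.mem_E ?_ ?_ <;>
  · simp only [mul_sub, sub_mul, mul_assoc, I_I, J_J, J_I, B.hI, B.hJ, B.hJI, mul_neg, neg_neg,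
      mul_one]
    abel

theorem exists_q (p : A) : ∃ a b c d : B.E, p = B.q a b c d := by
  refine ⟨(1 / 4 : ℚ) • ⟨_, B.avg_mem p⟩, (1 / 4 : ℚ) • ⟨_, B.avg_mem (-(p * B.I))⟩,
    (1 / 4 : ℚ) • ⟨_, B.avg_mem (-(p * B.J))⟩, (1 / 4 : ℚ) • ⟨_, B.avg_mem (-(p * (B.I * B.J)))⟩, ?_⟩
  simp only [q, Subalgebra.coe_smul, smul_mul_assoc, ← smul_add]
  rw [eq_comm, one_div, inv_smul_eq_iff₀ (by norm_num)]
  simp only [mul_sub, sub_mul, mul_assoc, I_I, J_J, J_I, B.hI, B.hJ, B.hJI, mul_neg, neg_neg,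
      mul_one, neg_mul]
  module

theorem conj_q {X X' : A} (h1 : X * X' = 1) (hX : ∀ e : B.E, X * e = e * X) (a b c d : B.E) :
    X * B.q a b c d * X' =
      a + b * (X * B.I * X') + c * (X * B.J * X') + d * (X * (B.I * B.J) * X') := by
  simp only [q, mul_add, add_mul, ← mul_assoc, hX]
  rw [mul_assoc (a : A), h1, mul_one]

end QB

end Cfsg.Agent.H91
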