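import Mathlib
import Cfsg.Agent.H91.QuatCalc

/-!
Algebraic lemmas on quaternion coordinates of elements of order three.
-/

set_option autoImplicit false

namespace Cfsg.Agent.H91

/-- The possible values of the anticommutator. -/
def Tri {A : Type*} [Ring A] (β : A) : Prop := β = 6 ∨ β = -6 ∨ β = 2 ∨ β = -2 ∨ β * β = 20

/-- A sign. -/
def Sg {E : Type*} [Ring E] (a : E) : Prop := a = 1 ∨ a = -1

/-- Icosahedral coordinates. -/
def Ico {E : Type*} [Ring E] (a b : E) : Prop :=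
  ∃ φ : E, φ * φ = φ + 1 ∧ (a = φ ∨ a = -φ) ∧ (b = φ - 1 ∨ b = -(φ - 1))

/-- The condition on the four linear forms. -/
def SS {E : Type*} [Ring E] (s x : E) : Prop :=
  (x = 0 ∧ (s = 3 ∨ s = -3 ∨ s = 1 ∨ s = -1)) ∨ (s * s - 3 * x * x = 5 ∧ s * x + x * s = 0)

section
variable {E : Type*} [Ring E] [Algebra ℚ E]

theorem false_of_ofNat [Nontrivial E] (n : ℕ) [n.AtLeastTwo] (h : (OfNat.ofNat n : E) * 1 = 0) :
    False := one_ne_zero (cancel_nat n (h.trans (mul_zero _).symm))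

theorem ico_of_sub {a b : E} (h1 : Sg (a - b)) (h2 : (a + b) * (a + b) = 5) : Ico a b := by
  rcases h1 with h | h
  · obtain rfl : b = a - 1 := by rw [← h]; abel
    exact ⟨a, cancel_nat 4 (by linear_combination (norm := ncr) h2), Or.inl rfl, Or.inl rfl⟩
  · obtain rfl : b = a + 1 := by rw [← sub_eq_zero, ← neg_eq_zero]; linear_combination (norm := ncr) h
    exact ⟨-a, cancel_nat 4 (by linear_combination (norm := ncr) h2), Or.inr (neg_neg a).symm,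
      Or.inr (by abel)⟩

theorem ico_of_add {a b : E} (h1 : Sg (a + b)) (h2 : (a - b) * (a - b) = 5) : Ico a b := by
  obtain ⟨φ, h, h3, h4⟩ := ico_of_sub (a := a) (b := -b) (by rwa [sub_neg_eq_add])
    (by rwa [← sub_eq_add_neg])
  exact ⟨φ, h, h3, h4.symm.imp (fun e => neg_injective e) (fun e => by rw [← e, neg_neg])⟩

theorem pair_aux [Nontrivial E] {s t c d : E} (hs : s * s = 5) (ht : t * t = 5) (hc : Sg c)
    (hd : Sg d) (h : s + t + c + d = 0) : s + t = 0 := by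
  have key : ∀ c : E, Sg c → s + t + c + c = 0 → False := by
    intro c hc h
    obtain rfl : t = -s - 2 * c := by linear_combination (norm := ncr) h
    rcases hc with rfl | rfl
    · have h1 : s = -1 := cancel_nat 4 (by linear_combination (norm := ncr) ht - hs)
      rw [h1] at hs
      exact false_of_ofNat (E := E) 4 (by linear_combination (norm := ncr) -hs)
    · have h1 : s = 1 := cancel_nat 4 (by linear_combination (norm := ncr) hs - ht)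
      rw [h1] at hs
      exact false_of_ofNat (E := E) 4 (by linear_combination (norm := ncr) -hs)
  rcases hc with rfl | rfl <;> rcases hd with rfl | rfl
  · exact (key 1 (Or.inl rfl) h).elim
  · linear_combination (norm := ncr) h
  · linear_combination (norm := ncr) h
  · exact (key (-1) (Or.inr rfl) h).elim

theorem three_aux [Nontrivial E] {s a b c : E} (hs : s = 3 ∨ s = -3) (ha : Sg a) (hb : Sg b)
    (hc : Sg c) (h : s + a + b + c = 0) :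
    (s = 3 ∧ a = -1 ∧ b = -1 ∧ c = -1) ∨ (s = -3 ∧ a = 1 ∧ b = 1 ∧ c = 1) := by
  have := algebraRat.charZero E
  rcases hs with rfl | rfl <;> rcases ha with rfl | rfl <;> rcases hb with rfl | rfl <;>
    rcases hc with rfl | rfl <;> first | (norm_num at h; done) | simp

theorem half {a b : E} (h : a + a = b + b) : a = b :=
  cancel_nat 2 (by rw [two_mul, two_mul, h])

theorem classify_zero [Nontrivial E] {x1 x2 x3 : E} (hP : x1 * x1 + x2 * x2 + x3 * x3 = 3)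
    (h0 : SS (x1 + x2 + x3) 0) (h1 : SS (x1 - x2 - x3) 0) (h2 : SS (-x1 + x2 - x3) 0)
    (h3 : SS (-x1 - x2 + x3) 0) :
    (Sg x1 ∧ Sg x2 ∧ Sg x3) ∨ (x3 = 0 ∧ Ico x1 x2) ∨ (x1 = 0 ∧ Ico x2 x3) ∨
      (x2 = 0 ∧ Ico x3 x1) := by
  have := algebraRat.charZero E
  have key : ∀ s : E, SS s 0 →
      ((s = 3 ∨ s = -3) ∧ s * s = 9) ∨ (Sg s ∧ s * s = 1) ∨ s * s = 5 := by
    rintro s (⟨-, rfl | rfl | rfl | rfl⟩ | ⟨h, -⟩)
    · exact Or.inl ⟨Or.inl rfl, by norm_num⟩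
    · exact Or.inl ⟨Or.inr rfl, by norm_num⟩
    · exact Or.inr (Or.inl ⟨Or.inl rfl, by norm_num⟩)
    · exact Or.inr (Or.inl ⟨Or.inr rfl, by norm_num⟩)
    · exact Or.inr (Or.inr (by simpa using h))
  obtain ⟨s0, e0⟩ : ∃ s, s = x1 + x2 + x3 := ⟨_, rfl⟩
  obtain ⟨s1, e1⟩ : ∃ s, s = x1 - x2 - x3 := ⟨_, rfl⟩
  obtain ⟨s2, e2⟩ : ∃ s, s = -x1 + x2 - x3 := ⟨_, rfl⟩
  obtain ⟨s3, e3⟩ : ∃ s, s = -x1 - x2 + x3 := ⟨_, rfl⟩
  have hq : s0 * s0 + s1 * s1 + s2 * s2 + s3 * s3 = 12 := by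
    rw [e0, e1, e2, e3]; linear_combination (norm := ncr) 4 * hP
  have hs : s0 + s1 + s2 + s3 = 0 := by rw [e0, e1, e2, e3]; abel
  have f1 : x1 + x1 = s0 + s1 := by rw [e0, e1]; abel
  have f2 : x2 + x2 = s0 + s2 := by rw [e0, e2]; abel
  have f3 : x3 + x3 = s0 + s3 := by rw [e0, e3]; abel
  have hsg : ∀ {x s t : E}, x + x = s + t → s + t = 2 ∨ s + t = -2 → Sg x := by
    intro x s t h h'
    exact h'.imp (fun e => half (by rw [h, e]; norm_num)) fun e => half (by rw [h, e]; norm_num)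
  have hz : ∀ {x s t : E}, x + x = s + t → s + t = 0 → x = 0 := fun h h' =>
    half (by rw [h, h', add_zero])
  rw [← e0] at h0
  rw [← e1] at h1
  rw [← e2] at h2
  rw [← e3] at h3
  rcases key _ h0 with ⟨a0, b0⟩ | ⟨a0, b0⟩ | b0 <;> rcases key _ h1 with ⟨a1, b1⟩ | ⟨a1, b1⟩ | b1 <;>
    rcases key _ h2 with ⟨a2, b2⟩ | ⟨a2, b2⟩ | b2 <;>
    rcases key _ h3 with ⟨a3, b3⟩ | ⟨a3, b3⟩ | b3 <;>
    rw [b0, b1, b2, b3] at hq <;> try (norm_num at hq; done)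
  · left
    rcases three_aux a0 a1 a2 a3 hs with ⟨c0, c1, c2, c3⟩ | ⟨c0, c1, c2, c3⟩ <;>
      exact ⟨hsg f1 (by rw [c0, c1]; norm_num), hsg f2 (by rw [c0, c2]; norm_num),
        hsg f3 (by rw [c0, c3]; norm_num)⟩
  · left
    rcases three_aux a1 a0 a2 a3 (by rw [← hs]; abel) with ⟨c1, c0, c2, c3⟩ | ⟨c1, c0, c2, c3⟩ <;>
      exact ⟨hsg f1 (by rw [c0, c1]; norm_num), hsg f2 (by rw [c0, c2]; norm_num),
        hsg f3 (by rw [c0, c3]; norm_num)⟩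
  · left
    rcases three_aux a2 a0 a1 a3 (by rw [← hs]; abel) with ⟨c2, c0, c1, c3⟩ | ⟨c2, c0, c1, c3⟩ <;>
      exact ⟨hsg f1 (by rw [c0, c1]; norm_num), hsg f2 (by rw [c0, c2]; norm_num),
        hsg f3 (by rw [c0, c3]; norm_num)⟩
  · left
    rcases three_aux a3 a0 a1 a2 (by rw [← hs]; abel) with ⟨c3, c0, c1, c2⟩ | ⟨c3, c0, c1, c2⟩ <;>
      exact ⟨hsg f1 (by rw [c0, c1]; norm_num), hsg f2 (by rw [c0, c2]; norm_num),
        hsg f3 (by rw [c0, c3]; norm_num)⟩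
  · have h4 := pair_aux b2 b3 a0 a1 (by rw [← hs]; abel)
    obtain rfl := hz f1 (by linear_combination (norm := ncr) hs - h4)
    exact Or.inr (Or.inr (Or.inl ⟨rfl, ico_of_add (by simpa [e0] using a0)
      (by simpa [e2] using b2)⟩))
  · have h4 := pair_aux b1 b3 a0 a2 (by rw [← hs]; abel)
    obtain rfl := hz f2 (by linear_combination (norm := ncr) hs - h4)
    exact Or.inr (Or.inr (Or.inr ⟨rfl, ico_of_add (by simpa [e0, add_comm] using a0)
      (by rw [← b3, e3]; ncr)⟩))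
  · have h4 := pair_aux b1 b2 a0 a3 (by rw [← hs]; abel)
    obtain rfl := hz f3 (by linear_combination (norm := ncr) hs - h4)
    exact Or.inr (Or.inl ⟨rfl, ico_of_add (by simpa [e0] using a0) (by simpa [e1] using b1)⟩)
  · have h4 := pair_aux b0 b3 a1 a2 (by rw [← hs]; abel)
    obtain rfl := hz f3 h4
    exact Or.inr (Or.inl ⟨rfl, ico_of_sub (by simpa [e1] using a1) (by simpa [e0] using b0)⟩)
  · have h4 := pair_aux b0 b2 a1 a3 (by rw [← hs]; abel)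
    obtain rfl := hz f2 h4
    exact Or.inr (Or.inr (Or.inr ⟨rfl, ico_of_sub (by simpa [e3, neg_add_eq_sub] using a3)
      (by rw [← b0, e0]; ncr)⟩))
  · have h4 := pair_aux b0 b1 a2 a3 hs
    obtain rfl := hz f1 h4
    exact Or.inr (Or.inr (Or.inl ⟨rfl, ico_of_sub (by simpa [e2] using a2)
      (by simpa [e0] using b0)⟩))

theorem classify_bad {x0 x1 x2 x3 : E} (hP : x0 * x0 - x1 * x1 - x2 * x2 - x3 * x3 = -3)
    (hx : x0 ≠ 0) (h0 : SS (x1 + x2 + x3) x0) (h1 : SS (x1 - x2 - x3) x0)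
    (h2 : SS (-x1 + x2 - x3) x0) (h3 : SS (-x1 - x2 + x3) x0) :
    x0 * x0 = -1 ∧ x1 * x1 + x2 * x2 + x3 * x3 = 2 ∧ x1 * x2 + x2 * x1 = 0 ∧
      x1 * x3 + x3 * x1 = 0 ∧ x2 * x3 + x3 * x2 = 0 ∧ x0 * x1 + x1 * x0 = 0 ∧
      x0 * x2 + x2 * x0 = 0 ∧ x0 * x3 + x3 * x0 = 0 := by
  obtain ⟨a0, b0⟩ := h0.resolve_left fun h => hx h.1
  obtain ⟨a1, b1⟩ := h1.resolve_left fun h => hx h.1
  obtain ⟨a2, b2⟩ := h2.resolve_left fun h => hx h.1
  obtain ⟨a3, b3⟩ := h3.resolve_left fun h => hx h.1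
  exact ⟨cancel_nat 8 (by linear_combination (norm := ncr) - a3 - 4 * hP - a0 - a2 - a1),
    cancel_nat 8 (by linear_combination (norm := ncr) - 12 * hP - a3 - a0 - a2 - a1),
    cancel_nat 4 (by linear_combination (norm := ncr) - a2 - a1 + a3 + a0),
    cancel_nat 4 (by linear_combination (norm := ncr) a0 + a2 - a3 - a1),
    cancel_nat 4 (by linear_combination (norm := ncr) a0 + a1 - a3 - a2),
    cancel_nat 2 (by linear_combination (norm := ncr) b1 + b0),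
    cancel_nat 2 (by linear_combination (norm := ncr) b2 + b0),
    cancel_nat 2 (by linear_combination (norm := ncr) - b2 - b1)⟩

theorem tri_idem [Nontrivial E] {m : E} (hm : m * m = 2 * m) (h : Tri (2 - 4 * m)) :
    m = 0 ∨ m = 2 := by
  have := algebraRat.charZero E
  rcases h with h | h | h | h | h
  · obtain rfl : m = -1 := cancel_nat 4 (by linear_combination (norm := ncr) -h)
    norm_num at hm
  · exact Or.inr (cancel_nat 4 (by linear_combination (norm := ncr) -h))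
  · exact Or.inl (cancel_nat 4 (by linear_combination (norm := ncr) -h))
  · obtain rfl : m = 1 := cancel_nat 4 (by linear_combination (norm := ncr) -h)
    norm_num at hm
  · obtain rfl : m = 1 := cancel_nat 16 (by linear_combination (norm := ncr) h - 16 * hm)
    norm_num at hm

end

namespace QB

variable {A : Type*} [Ring A] [Algebra ℚ A] (B : QB A)

theorem tri_q {a b c d : B.E} (h : Tri (B.q a b c d)) :
    (b = 0 ∧ c = 0 ∧ d = 0 ∧ (a = 6 ∨ a = -6 ∨ a = 2 ∨ a = -2)) ∨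
      (a * a - b * b - c * c - d * d = 20 ∧ a * b + b * a + c * d - d * c = 0) := by
  rcases h with h | h | h | h | h
  · rw [B.ofNat_eq_q, q_inj] at h
    tauto
  · rw [B.ofNat_eq_q, q_neg, neg_zero, q_inj] at h
    tauto
  · rw [B.ofNat_eq_q, q_inj] at h
    tauto
  · rw [B.ofNat_eq_q, q_neg, neg_zero, q_inj] at h
    tauto
  · rw [B.ofNat_eq_q, q_mul, q_inj] at h
    tauto

theorem tri_coe {a : B.E} (h : Tri (B.q a 0 0 0)) : Tri a := by
  rcases B.tri_q h with ⟨-, -, -, h⟩ | ⟨h, -⟩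
  · unfold Tri; tauto
  · exact Or.inr (Or.inr (Or.inr (Or.inr (by simpa using h))))

theorem ss_of_tri {x0 x1 x2 x3 e2 e3 : B.E} (h2 : Sg e2) (h3 : Sg e3)
    (h : Tri (B.q x0 x1 x2 x3 * B.q 0 1 e2 e3 + B.q 0 1 e2 e3 * B.q x0 x1 x2 x3)) :
    SS (x1 + e2 * x2 + e3 * x3) x0 := by
  rw [q_mul, q_mul, q_add] at h
  rcases h2 with rfl | rfl <;> rcases h3 with rfl | rfl <;>
  · rcases B.tri_q h with ⟨h1, -, -, h2⟩ | ⟨h1, h2⟩
    · refine Or.inl ⟨cancel_nat 2 (by linear_combination (norm := ncr) h1), ?_⟩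
      rcases h2 with h2 | h2 | h2 | h2
      · exact Or.inr (Or.inl (cancel_nat 2 (by linear_combination (norm := ncr) -h2)))
      · exact Or.inl (cancel_nat 2 (by linear_combination (norm := ncr) -h2))
      · exact Or.inr (Or.inr (Or.inr (cancel_nat 2 (by linear_combination (norm := ncr) -h2))))
      · exact Or.inr (Or.inr (Or.inl (cancel_nat 2 (by linear_combination (norm := ncr) -h2))))
    · exact Or.inr ⟨cancel_nat 4 (by linear_combination (norm := ncr) h1),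
        cancel_nat 4 (by linear_combination (norm := ncr) -h2)⟩

theorem ico_unique [Nontrivial A] {φ ψ : B.E} (hφ : φ * φ = φ + 1) (hψ : ψ * ψ = ψ + 1)
    (h1 : Tri (B.q 0 φ (φ - 1) 0 * B.q 0 ψ (ψ - 1) 0 + B.q 0 ψ (ψ - 1) 0 * B.q 0 φ (φ - 1) 0))
    (h2 : Tri (B.q 0 φ (φ - 1) 0 * B.q 0 ψ (-(ψ - 1)) 0 +
      B.q 0 ψ (-(ψ - 1)) 0 * B.q 0 φ (φ - 1) 0))
    (h3 : Tri (B.q 0 φ (φ - 1) 0 * B.q 0 0 ψ (ψ - 1) + B.q 0 0 ψ (ψ - 1) * B.q 0 φ (φ - 1) 0)) :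
    B.q 0 φ (φ - 1) 0 * B.q 0 ψ (ψ - 1) 0 + B.q 0 ψ (ψ - 1) 0 * B.q 0 φ (φ - 1) 0 = -6 := by
  have e1 : B.q 0 φ (φ - 1) 0 * B.q 0 ψ (ψ - 1) 0 + B.q 0 ψ (ψ - 1) 0 * B.q 0 φ (φ - 1) 0 =
      B.q (-(φ * ψ + ψ * φ) - ((φ - 1) * (ψ - 1) + (ψ - 1) * (φ - 1))) 0 0 0 := by
    rw [q_mul, q_mul, q_add]; congr 1 <;> ncr
  have e2 : B.q 0 φ (φ - 1) 0 * B.q 0 ψ (-(ψ - 1)) 0 + B.q 0 ψ (-(ψ - 1)) 0 * B.q 0 φ (φ - 1) 0 =
      B.q (-2 * (φ + ψ) + 2) 0 0 (-2 * (φ * ψ - ψ * φ)) := by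
    rw [q_mul, q_mul, q_add]; congr 1 <;> ncr
  have e3 : B.q 0 φ (φ - 1) 0 * B.q 0 0 ψ (ψ - 1) + B.q 0 0 ψ (ψ - 1) * B.q 0 φ (φ - 1) 0 =
      B.q (-((φ - 1) * ψ + ψ * (φ - 1))) (φ * ψ - ψ * φ) (-(φ * ψ - ψ * φ)) (φ * ψ - ψ * φ) := by
    rw [q_mul, q_mul, q_add]; congr 1 <;> ncr
  rw [e1] at h1 ⊢
  rw [e2] at h2
  rw [e3] at h3
  have h2' : (-2 * (φ + ψ) + 2) * (-2 * (φ + ψ) + 2) -
      (-2 * (φ * ψ - ψ * φ)) * (-2 * (φ * ψ - ψ * φ)) = 20 := by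
    rcases B.tri_q h2 with ⟨-, -, -, h | h | h | h⟩ | ⟨h, -⟩
    · exact (false_of_ofNat (E := B.E) 12 (by linear_combination (norm := ncr) φ * h * φ - h * ψ * φ - 2 * hψ * φ + 3 * h * φ + 8 * hφ - 2 * φ * h + 2 * h * ψ + 4 * hψ - 6 * h + 2 * hφ * φ)).elim
    · exact (false_of_ofNat (E := B.E) 12 (by linear_combination (norm := ncr) - φ * h * φ + h * ψ * φ + 2 * hψ * φ + 3 * h * φ + 10 * hφ - φ * h + h * ψ + 2 * hψ + 3 * h - 2 * hφ * φ)).elim
    · exact (false_of_ofNat (E := B.E) 4 (by linear_combination (norm := ncr) - φ * h * φ + h * ψ * φ + 2 * hψ * φ - h * φ - 2 * hφ - 2 * hφ * φ + φ * h - h * ψ - 2 * hψ + h)).elim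
    · exact (false_of_ofNat (E := B.E) 4 (by linear_combination (norm := ncr) φ * h * φ - h * ψ * φ - 2 * hψ * φ - h * φ + 2 * hφ * φ - 4 * hφ)).elim
    · simpa using h
  clear h2
  rename' h2' => h2
  have hm2 : -(φ * ψ + ψ * φ) - ((φ - 1) * (ψ - 1) + (ψ - 1) * (φ - 1)) ≠ -2 := fun h =>
    false_of_ofNat (E := B.E) 16 (by linear_combination (norm := ncr) - 2 * h * ψ * φ + h2 - 8 * ψ * hφ * ψ - 8 * φ * hψ * φ - 16 * hφ - 16 * hψ - 2 * h * φ * ψ + 4 * hφ * ψ + 4 * hψ * φ + 2 * h * ψ + 4 * φ * hψ + 2 * h * φ + 4 * ψ * hφ)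
  rcases B.tri_coe h1 with h | h | h | h | h
  · exact (false_of_ofNat (E := B.E) 48 (by linear_combination (norm := ncr) 2 * h * ψ * φ - h2 + 8 * ψ * hφ * ψ + 8 * φ * hψ * φ + 16 * hφ + 16 * hψ + 2 * h * φ * ψ - 4 * hφ * ψ - 4 * hψ * φ - 2 * h * ψ - 4 * φ * hψ - 2 * h * φ - 4 * ψ * hφ - 8 * h)).elim
  · rw [h, B.ofNat_eq_q, q_neg, neg_zero]
  · exfalso
    have hk : (φ * ψ - ψ * φ) * (φ * ψ - ψ * φ) = -4 := cancel_nat 2 (by
      linear_combination (norm := ncr) - h * ψ * φ - 4 * φ * hψ * φ - 6 * hφ + 2 * hψ * φ + h - 4 * ψ * hφ * ψ - h * φ * ψ + 2 * hφ * ψ - 6 * hψ + h * ψ + 2 * φ * hψ + h * φ + 2 * ψ * hφ)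
    have hk0 : φ * ψ - ψ * φ = 0 := by
      rcases B.tri_q h3 with ⟨h4, -⟩ | ⟨-, h3⟩
      · exact h4
      · exact cancel_nat 4 (by linear_combination (norm := ncr) h3 + h * ψ * φ + 2 * φ * hψ * φ + 2 * hφ - h * φ * ψ - 2 * ψ * hφ * ψ + 2 * hφ * ψ - 2 * hψ - 2 * φ * hψ)
    rw [hk0] at hk
    exact false_of_ofNat (E := B.E) 4 (by linear_combination (norm := ncr) hk)
  · exact absurd h hm2
  · exact absurd (cancel_nat 4 (by linear_combination (norm := ncr) - h - h2 + 8 * ψ * hφ * ψ + 8 * φ * hψ * φ + 16 * hφ + 16 * hψ - 4 * hψ * φ - 4 * ψ * hφ - 4 * φ * hψ - 4 * hφ * ψ)) hm2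

end QB

end Cfsg.Agent.H91
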