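import Mathlib
import Cfsg.Agent.H91.Order3Arith
import Cfsg.Agent.H91.QuatAlg
import Cfsg.Agent.H91.SL25

/-!
The elements of order three of a group with a fixed-point-free representation.
-/

set_option autoImplicit false

namespace Cfsg.Agent.H91

open Quaternion

variable {G A : Type*} [Group G] [Ring A] {ρ : G →* A}

/-- The square root of `-3` attached to an element of order three. -/
def PP (ρ : G →* A) (y : G) : A := 2 * ρ y + 1

theorem PP_conj (g y : G) : PP ρ (g * y * g⁻¹) = ρ g * PP ρ y * ρ g⁻¹ := by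
  have : ρ g * ρ g⁻¹ = 1 := by rw [← map_mul, mul_inv_cancel, map_one]
  simp only [PP, map_mul]
  linear_combination (norm := ncr) -this

theorem orderOf_conj' (g y : G) : orderOf (g * y * g⁻¹) = orderOf y :=
  orderOf_injective (MulAut.conj g).toMonoidHom (MulAut.conj g).injective y

theorem Tri.neg {β : A} (h : Tri β) : Tri (-β) := by
  unfold Tri at h ⊢
  rcases h with h | h | h | h | h <;> simp [h]

theorem SS.neg {s x : A} (h : SS s x) : SS (-s) x := by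
  rcases h with ⟨h, h1 | h1 | h1 | h1⟩ | ⟨h1, h2⟩
  · exact Or.inl ⟨h, by simp [h1]⟩
  · exact Or.inl ⟨h, by simp [h1]⟩
  · exact Or.inl ⟨h, by simp [h1]⟩
  · exact Or.inl ⟨h, by simp [h1]⟩
  · exact Or.inr ⟨by rwa [neg_mul_neg], by linear_combination (norm := ncr) -h2⟩

namespace FRep

variable (h : FRep ρ)
include h

theorem inj [Nontrivial A] : Function.Injective ρ := by
  rw [injective_iff_map_eq_one]
  intro g hg
  by_contra h1
  exact one_ne_zero (h.nzd g h1 1 (by rw [hg, sub_self, zero_mul]))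

theorem sq_add {x : G} (hx : orderOf x = 3) : ρ x * ρ x + ρ x + 1 = 0 :=
  sq_add_of_nzd h.nzd (fun e => by rw [e, orderOf_one] at hx; norm_num at hx)
    (hx ▸ pow_orderOf_eq_one x)

theorem P_inv {x : G} (hx : orderOf x = 3) : PP ρ x⁻¹ = -PP ρ x := by
  simp only [PP, inv_eq_of_nzd h.nzd hx]
  ncr

theorem P_sq {x : G} (hx : orderOf x = 3) : PP ρ x * PP ρ x = -3 := by
  simp only [PP]
  linear_combination (norm := ncr) 4 * h.sq_add hx

theorem beta {x w : G} (hx : orderOf x = 3) (hw : orderOf w = 3) :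
    PP ρ x * PP ρ w + PP ρ w * PP ρ x = 4 * (ρ (x * w) + ρ (x * w)⁻¹) - 2 := by
  simp only [PP, mul_inv_rev, map_mul, inv_eq_of_nzd h.nzd hx, inv_eq_of_nzd h.nzd hw]
  rw [← sub_eq_zero]
  ncr

theorem tri_P {x w : G} (hx : orderOf x = 3) (hw : orderOf w = 3) :
    Tri (PP ρ x * PP ρ w + PP ρ w * PP ρ x) := by
  rw [h.beta hx hw]
  rcases h.tri x w hx hw with e | e | e | e | e
  · left; rw [e]; norm_num
  · right; left; rw [e]; norm_num
  · right; right; right; left; rw [e]; norm_num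
  · right; right; left; rw [e]; norm_num
  · right; right; right; right
    linear_combination (norm := ncr) 16 * e

variable [Algebra ℚ A] [Nontrivial A]

theorem P_inj {x y : G} (e : PP ρ x = PP ρ y) : x = y :=
  h.inj (cancel_nat 2 (add_right_cancel e))

theorem eq_of_beta {x w : G} (hx : orderOf x = 3) (hw : orderOf w = 3)
    (e : PP ρ x * PP ρ w + PP ρ w * PP ρ x = -6) : x = w := by
  have h1 := h.beta (x := x⁻¹) (by rwa [orderOf_inv]) hw
  rw [h.P_inv hx] at h1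
  rw [← inv_mul_eq_one]
  generalize x⁻¹ * w = g at h1
  by_contra hg
  have h2 : ρ g + ρ g⁻¹ = 2 := cancel_nat 4 (by linear_combination (norm := ncr) -h1 - e)
  have h3 : ρ g * ρ g⁻¹ = 1 := by rw [← map_mul, mul_inv_cancel, map_one]
  have h4 := h.nzd g hg _ (h.nzd g hg ((ρ g - 1) * ρ g⁻¹) (by
    linear_combination (norm := ncr) h2 + ρ g * h3 - 2 * h3))
  rw [h4, mul_zero] at h3
  exact zero_ne_one h3

theorem exists_beta {x w : G} (hx : orderOf x = 3) (hw : orderOf w = 3)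
    (hn : w ∉ Subgroup.zpowers x) : ∃ x w : G, orderOf x = 3 ∧ orderOf w = 3 ∧
      PP ρ x * PP ρ w + PP ρ w * PP ρ x = -2 := by
  have hx' : orderOf x⁻¹ = 3 := by rwa [orderOf_inv]
  rcases h.tri_P hx hw with e | e | e | e | e
  · have := h.eq_of_beta hx' hw (by rw [h.P_inv hx]; linear_combination (norm := ncr) -e)
    exact absurd (this ▸ inv_mem (Subgroup.mem_zpowers x)) hn
  · exact absurd (h.eq_of_beta hx hw e ▸ Subgroup.mem_zpowers x) hn
  · exact ⟨x⁻¹, w, hx', hw, by rw [h.P_inv hx]; linear_combination (norm := ncr) -e⟩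
  · exact ⟨x, w, hx, hw, e⟩
  · refine ⟨x, w * x * w⁻¹, hx, by rwa [orderOf_conj'], cancel_nat 4 ?_⟩
    have hP := h.P_sq hx
    have hQ := h.P_sq hw
    have h1 : 4 * PP ρ (w * x * w⁻¹) = (PP ρ w - 1) * PP ρ x * (-1 - PP ρ w) := by
      rw [PP_conj, inv_eq_of_nzd h.nzd hw]
      generalize PP ρ x = P
      simp only [PP]
      ncr
    generalize PP ρ x = P at *
    generalize PP ρ w = Q at *
    generalize PP ρ (w * x * w⁻¹) = R at *
    linear_combination (norm := ncr) P * h1 + h1 * P - e +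
      (Q * hP * Q + P * hQ * P - hP - Q * hP + hP * Q - 3 * hQ)

end FRep

/-- A binary tetrahedral basis. -/
structure TB (ρ : G →* A) where
  i : G
  j : G
  x : G
  hi : ρ i * ρ i = -1
  hj : ρ j * ρ j = -1
  hji : ρ j * ρ i = -(ρ i * ρ j)
  hx : orderOf x = 3
  hP : PP ρ x = ρ i + ρ j + ρ i * ρ j

theorem FRep.nonempty_TB [Algebra ℚ A] [Nontrivial A] (h : FRep ρ) {x w : G} (hx : orderOf x = 3)
    (hw : orderOf w = 3) (hn : w ∉ Subgroup.zpowers x) : Nonempty (TB ρ) := by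
  obtain ⟨x, w, hx, hw, e⟩ := h.exists_beta hx hw hn
  have hX := h.sq_add hx
  have hW := h.sq_add hw
  have h1 : ρ x * ρ w + ρ w * ρ x + ρ x + ρ w + 1 = 0 := cancel_nat 4 (by
    simp only [PP] at e
    linear_combination (norm := ncr) e)
  refine ⟨⟨w * x, x * w, x⁻¹, ?_, ?_, ?_, by rwa [orderOf_inv], ?_⟩⟩
  · rw [map_mul]
    linear_combination (norm := ncr) h1 * ρ w * ρ x - ρ x * hW * ρ x + hX - hW * ρ x
  · rw [map_mul]
    linear_combination (norm := ncr) h1 * ρ x * ρ w - ρ w * hX * ρ w - hX * ρ w + hW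
  · rw [map_mul, map_mul]
    linear_combination (norm := ncr) ρ x * hW * ρ x + ρ w * hX * ρ w - h1 * ρ x + ρ w * hX -
      h1 * ρ w + ρ x * hW
  · rw [h.P_inv hx, map_mul, map_mul, PP]
    linear_combination (norm := ncr) -ρ w * hX * ρ w + h1 * ρ w - ρ x * hW - h1

namespace TB

variable (T : TB ρ)

/-- The quaternion basis. -/
def B : QB A := ⟨ρ T.i, ρ T.j, T.hi, T.hj, T.hji⟩

theorem i_inv : ρ T.i⁻¹ = -ρ T.i := by
  have : ρ T.i⁻¹ * ρ T.i = 1 := by rw [← map_mul, inv_mul_cancel, map_one]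
  linear_combination (norm := ncr) ρ T.i⁻¹ * T.hi - this * ρ T.i

theorem j_inv : ρ T.j⁻¹ = -ρ T.j := by
  have : ρ T.j⁻¹ * ρ T.j = 1 := by rw [← map_mul, inv_mul_cancel, map_one]
  linear_combination (norm := ncr) ρ T.j⁻¹ * T.hj - this * ρ T.j

variable [Algebra ℚ A]

theorem rho_i : ρ T.i = T.B.q 0 1 0 0 := T.B.I_eq_q

theorem rho_j : ρ T.j = T.B.q 0 0 1 0 := T.B.J_eq_q

theorem P_x : PP ρ T.x = T.B.q 0 1 1 1 := by
  rw [T.hP]
  simp [QB.q, B]

theorem conj_i {y : G} {a b c d : T.B.E} (e : PP ρ y = T.B.q a b c d) :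
    PP ρ (T.i * y * T.i⁻¹) = T.B.q a b (-c) (-d) := by
  rw [PP_conj, e, i_inv, rho_i, QB.q_neg, QB.q_mul, QB.q_mul]
  congr 1 <;> ncr

theorem conj_j {y : G} {a b c d : T.B.E} (e : PP ρ y = T.B.q a b c d) :
    PP ρ (T.j * y * T.j⁻¹) = T.B.q a (-b) c (-d) := by
  rw [PP_conj, e, j_inv, rho_j, QB.q_neg, QB.q_mul, QB.q_mul]
  congr 1 <;> ncr

theorem conj_x (h : FRep ρ) {y : G} {a b c d : T.B.E} (e : PP ρ y = T.B.q a b c d) :
    PP ρ (T.x * y * T.x⁻¹) = T.B.q a c d b := by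
  refine cancel_nat 4 ?_
  have h1 : 4 * PP ρ (T.x * y * T.x⁻¹) = (PP ρ T.x - 1) * PP ρ y * (-1 - PP ρ T.x) := by
    rw [PP_conj, inv_eq_of_nzd h.nzd T.hx]
    generalize PP ρ y = P
    simp only [PP]
    ncr
  rw [h1, e, P_x, T.B.one_eq_q, T.B.ofNat_eq_q, QB.q_neg, QB.q_sub, QB.q_sub, QB.q_mul, QB.q_mul,
    QB.q_mul]
  congr 1 <;> ncr

variable [Nontrivial A]

theorem not_bad_aux (h : FRep ρ) {y : G} {a b : T.B.E} (e : PP ρ y = T.B.q a b 0 0)
    (hy : orderOf y = 3) (ha : a * a = -1) (hb : b * b = 2) (hab : a * b + b * a = 0) : False := by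
  have h1 := T.conj_j e
  have h2 : 4 * ρ (y⁻¹ * (T.j * y * T.j⁻¹) * T.i) = T.B.q (-2 * (b + a * b)) 0 0 0 := by
    have : 4 * ρ (y⁻¹ * (T.j * y * T.j⁻¹) * T.i) =
        (-1 - PP ρ y) * (PP ρ (T.j * y * T.j⁻¹) - 1) * ρ T.i := by
      rw [map_mul, map_mul, inv_eq_of_nzd h.nzd hy]
      generalize T.j * y * T.j⁻¹ = y'
      simp only [PP]
      ncr
    rw [this, h1, e, rho_i, T.B.one_eq_q, QB.q_neg, QB.q_sub, QB.q_sub, QB.q_mul, QB.q_mul]
    congr 1
    · linear_combination (norm := ncr) hab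
    · linear_combination (norm := ncr) -ha - hb
    · ncr
    · ncr
  generalize y⁻¹ * (T.j * y * T.j⁻¹) * T.i = g at h2
  have h3 : g * g = 1 := by
    refine h.inj (cancel_nat 16 ?_)
    have : 16 * ρ (g * g) = (4 * ρ g) * (4 * ρ g) := by rw [map_mul]; ncr
    rw [this, h2, map_one, mul_one, QB.q_mul, T.B.ofNat_eq_q]
    congr 1
    · linear_combination (norm := ncr) 4 * hab * a * b - 4 * b * ha * b + 8 * hb + 4 * hab * b
    all_goals ncr
  have h4 : ρ g = 1 ∨ ρ g = -1 := by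
    by_cases hg : g = 1
    · exact Or.inl (by rw [hg, map_one])
    · exact Or.inr (eq_neg_one_of_nzd h.nzd hg h3)
  rcases h4 with h4 | h4
  · rw [h4, mul_one, T.B.ofNat_eq_q, QB.q_inj] at h2
    have h5 := h2.1
    exact false_of_ofNat (E := T.B.E) 8 (by
      linear_combination (norm := ncr) -a * h5 * a + 2 * ha * b * a + 2 * hab * a - 2 * b * ha -
        2 * hab + h5 + 4 * ha)
  · rw [h4, mul_neg, mul_one, T.B.ofNat_eq_q, QB.q_neg, QB.q_inj] at h2
    have h5 := h2.1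
    exact false_of_ofNat (E := T.B.E) 8 (by
      linear_combination (norm := ncr) a * h5 * a - 2 * ha * b * a - 2 * hab * a + 2 * b * ha +
        2 * hab - h5 + 4 * ha)

theorem not_bad (h : FRep ρ) {y : G} {x0 x1 x2 x3 : T.B.E} (e : PP ρ y = T.B.q x0 x1 x2 x3)
    (hy : orderOf y = 3) (h0 : x0 * x0 = -1) (hs : x1 * x1 + x2 * x2 + x3 * x3 = 2)
    (h12 : x1 * x2 + x2 * x1 = 0) (h13 : x1 * x3 + x3 * x1 = 0) (h23 : x2 * x3 + x3 * x2 = 0)
    (h01 : x0 * x1 + x1 * x0 = 0) (h02 : x0 * x2 + x2 * x0 = 0) (h03 : x0 * x3 + x3 * x0 = 0) :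
    False := by
  have key : ∀ {y : G} {x0 x1 x2 x3 : T.B.E}, PP ρ y = T.B.q x0 x1 x2 x3 → orderOf y = 3 →
      x0 * x0 = -1 → x1 * x1 + x2 * x2 + x3 * x3 = 2 → x1 * x2 + x2 * x1 = 0 →
      x1 * x3 + x3 * x1 = 0 → x2 * x3 + x3 * x2 = 0 → x0 * x1 + x1 * x0 = 0 →
      x0 * x2 + x2 * x0 = 0 → x0 * x3 + x3 * x0 = 0 → x1 * x1 = 0 := by
    intro y x0 x1 x2 x3 e hy h0 hs h12 h13 h23 h01 h02 h03
    have hsq := h.P_sq hy
    rw [e, QB.q_mul, T.B.ofNat_eq_q, QB.q_neg, QB.q_inj] at hsq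
    obtain ⟨-, a1, a2, a3⟩ := hsq
    have b23 : x2 * x3 = 0 := cancel_nat 2 (by linear_combination (norm := ncr) a1 + h23 - h01)
    have b13 : x1 * x3 = 0 := cancel_nat 2 (by linear_combination (norm := ncr) -a2 + h13 + h02)
    have b12 : x1 * x2 = 0 := cancel_nat 2 (by linear_combination (norm := ncr) a3 + h12 - h03)
    have ht := h.tri_P hy (w := T.i * y * T.i⁻¹) (by rwa [orderOf_conj'])
    have h1 : PP ρ y * PP ρ (T.i * y * T.i⁻¹) + PP ρ (T.i * y * T.i⁻¹) * PP ρ y =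
        T.B.q (2 - 4 * (x1 * x1)) 0 0 0 := by
      rw [T.conj_i e, e, QB.q_mul, QB.q_mul, QB.q_add]
      congr 1
      · linear_combination (norm := ncr) 2 * h0 + 2 * hs
      · linear_combination (norm := ncr) 2 * h01 + 2 * h23 - 4 * b23
      · ncr
      · ncr
    rw [h1] at ht
    refine (tri_idem (by
      linear_combination (norm := ncr) x1 * x1 * hs - x1 * b12 * x2 - x1 * b13 * x3)
      (T.B.tri_coe ht)).resolve_right fun h2 => ?_
    obtain rfl : x2 = 0 := cancel_nat 2 (by linear_combination (norm := ncr) x1 * b12 - h2 * x2)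
    obtain rfl : x3 = 0 := cancel_nat 2 (by linear_combination (norm := ncr) x1 * b13 - h2 * x3)
    exact T.not_bad_aux h e hy h0 h2 h01
  have e1 := T.conj_x h e
  have hy1 : orderOf (T.x * y * T.x⁻¹) = 3 := by rwa [orderOf_conj']
  have c1 := key e hy h0 hs h12 h13 h23 h01 h02 h03
  have c2 := key e1 hy1 h0 (by rw [← hs]; abel) h23 (by rw [← h12]; abel) (by rw [← h13]; abel)
    h02 h03 h01
  have c3 := key (T.conj_x h e1) (by rwa [orderOf_conj']) h0 (by rw [← hs]; abel)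
    (by rw [← h13]; abel) (by rw [← h23]; abel) h12 h03 h01 h02
  exact false_of_ofNat (E := T.B.E) 2 (by linear_combination (norm := ncr) c1 + c2 + c3 - hs)

/-- The binary tetrahedral subgroup. -/
def tet : Subgroup G := Subgroup.closure {T.i, T.j, T.x}

omit [Algebra ℚ A] [Nontrivial A] in
theorem i_mem : T.i ∈ T.tet := Subgroup.subset_closure (by simp)

omit [Algebra ℚ A] [Nontrivial A] in
theorem j_mem : T.j ∈ T.tet := Subgroup.subset_closure (by simp)

omit [Algebra ℚ A] [Nontrivial A] in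
theorem x_mem : T.x ∈ T.tet := Subgroup.subset_closure (by simp)

omit [Nontrivial A] in
theorem exists_conj_sign {y : G} {a b c d b' c' : T.B.E} (e : PP ρ y = T.B.q a b' c' d)
    (hb : b' = b ∨ b' = -b) (hc : c' = c ∨ c' = -c) :
    ∃ g ∈ T.tet, PP ρ (g * y * g⁻¹) = T.B.q a b c d ∨ PP ρ (g * y * g⁻¹) = T.B.q a b c (-d) := by
  rcases hb with rfl | rfl <;> rcases hc with rfl | rfl
  · exact ⟨1, one_mem _, Or.inl (by simpa using e)⟩
  · exact ⟨T.i, T.i_mem, Or.inr (by simpa using T.conj_i e)⟩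
  · exact ⟨T.j, T.j_mem, Or.inr (by simpa using T.conj_j e)⟩
  · exact ⟨T.i * T.j, mul_mem T.i_mem T.j_mem, Or.inl (by
      simpa [mul_assoc] using T.conj_i (T.conj_j e))⟩

theorem classify (h : FRep ρ) {y : G} (hy : orderOf y = 3) :
    y ∈ T.tet ∨ ∃ g ∈ T.tet, ∃ φ : T.B.E, φ * φ = φ + 1 ∧
      PP ρ (g * y * g⁻¹) = T.B.q 0 φ (φ - 1) 0 := by
  obtain ⟨x0, x1, x2, x3, e⟩ := T.B.exists_q (PP ρ y)
  have hsq := h.P_sq hy
  rw [e, QB.q_mul, T.B.ofNat_eq_q, QB.q_neg, QB.q_inj] at hsq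
  have hP := hsq.1
  have p1 : Sg (1 : T.B.E) := Or.inl rfl
  have m1 : Sg (-1 : T.B.E) := Or.inr rfl
  have t0 := h.tri_P hy T.hx
  have t1 := h.tri_P hy (w := T.i * T.x * T.i⁻¹) (by rw [orderOf_conj', T.hx])
  have t2 := (h.tri_P hy (w := T.j * T.x * T.j⁻¹) (by rw [orderOf_conj', T.hx])).neg
  have t3 := (h.tri_P hy (w := T.i * (T.j * T.x * T.j⁻¹) * T.i⁻¹)
    (by rw [orderOf_conj', orderOf_conj', T.hx])).neg
  rw [e, T.P_x] at t0
  rw [e, T.conj_i T.P_x] at t1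
  rw [e, T.conj_j T.P_x, neg_add, ← mul_neg, ← neg_mul, QB.q_neg] at t2
  rw [e, T.conj_i (T.conj_j T.P_x), neg_add, ← mul_neg, ← neg_mul, QB.q_neg] at t3
  simp only [neg_neg, neg_zero] at t2 t3
  have s0 : SS (x1 + x2 + x3) x0 := by simpa using T.B.ss_of_tri p1 p1 t0
  have s1 : SS (x1 - x2 - x3) x0 := by simpa [sub_eq_add_neg] using T.B.ss_of_tri m1 m1 t1
  have s2 : SS (-x1 + x2 - x3) x0 := by
    convert (T.B.ss_of_tri m1 p1 t2).neg using 1
    ncr
  have s3 : SS (-x1 - x2 + x3) x0 := by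
    convert (T.B.ss_of_tri p1 m1 t3).neg using 1
    ncr
  obtain rfl : x0 = 0 := by
    by_contra hx
    obtain ⟨a, b, c, d, f, g, k, l⟩ := classify_bad hP hx s0 s1 s2 s3
    exact T.not_bad h e hy a b c d f g k l
  have ico : ∀ {y : G} {a b : T.B.E}, PP ρ y = T.B.q 0 a b 0 → Ico a b →
      ∃ g ∈ T.tet, ∃ φ : T.B.E, φ * φ = φ + 1 ∧ PP ρ (g * y * g⁻¹) = T.B.q 0 φ (φ - 1) 0 := by
    rintro y a b e ⟨φ, h1, h2, h3⟩
    obtain ⟨g, hg, h4⟩ := T.exists_conj_sign e h2 h3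
    exact ⟨g, hg, φ, h1, by simpa using h4⟩
  rcases classify_zero (by linear_combination (norm := ncr) -hP) s0 s1 s2 s3 with
    ⟨a1, a2, a3⟩ | ⟨rfl, a⟩ | ⟨rfl, a⟩ | ⟨rfl, a⟩
  · left
    obtain ⟨g, hg, h4⟩ := T.exists_conj_sign e a1 a2
    have h5 : PP ρ (g * y * g⁻¹) = T.B.q 0 1 1 1 ∨ PP ρ (g * y * g⁻¹) = T.B.q 0 1 1 (-1) := by
      rcases a3 with rfl | rfl
      · exact h4
      · simpa using h4.symm
    have h6 : g * y * g⁻¹ ∈ T.tet := by
      rcases h5 with h5 | h5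
      · rw [h.P_inj (h5.trans T.P_x.symm)]
        exact T.x_mem
      · have h7 := T.conj_i (T.conj_j ((h.P_inv T.hx).trans (by rw [T.P_x, QB.q_neg])))
        simp only [neg_neg, neg_zero] at h7
        rw [h.P_inj (h5.trans h7.symm)]
        exact mul_mem (mul_mem T.i_mem (mul_mem (mul_mem T.j_mem (inv_mem T.x_mem))
          (inv_mem T.j_mem))) (inv_mem T.i_mem)
    simpa [mul_assoc] using mul_mem (mul_mem (inv_mem hg) h6) hg
  · exact Or.inr (ico e a)
  · obtain ⟨g, hg, φ, h1, h2⟩ := ico (T.conj_x h e) a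
    exact Or.inr ⟨g * T.x, mul_mem hg T.x_mem, φ, h1, by simpa [mul_assoc] using h2⟩
  · obtain ⟨g, hg, φ, h1, h2⟩ := ico (T.conj_x h (T.conj_x h e)) a
    exact Or.inr ⟨g * T.x * T.x, mul_mem (mul_mem hg T.x_mem) T.x_mem, φ, h1,
      by simpa [mul_assoc] using h2⟩

theorem ico_eq (h : FRep ρ) {y w : G} (hy : orderOf y = 3) (hw : orderOf w = 3) {φ ψ : T.B.E}
    (hφ : φ * φ = φ + 1) (hψ : ψ * ψ = ψ + 1) (ey : PP ρ y = T.B.q 0 φ (φ - 1) 0)
    (ew : PP ρ w = T.B.q 0 ψ (ψ - 1) 0) : y = w := by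
  have t1 := h.tri_P hy hw
  have t2 := h.tri_P hy (w := T.i * w * T.i⁻¹) (by rwa [orderOf_conj'])
  have t3 := h.tri_P hy (w := T.x * (T.x * w * T.x⁻¹) * T.x⁻¹)
    (by rwa [orderOf_conj', orderOf_conj'])
  rw [T.conj_i ew, neg_zero, ey] at t2
  rw [T.conj_x h (T.conj_x h ew), ey] at t3
  refine h.eq_of_beta hy hw ?_
  rw [ey, ew] at t1 ⊢
  exact T.B.ico_unique hφ hψ t1 t2 t3

/-- The model of the icosians. -/
abbrev Model : Type := ℍ[QuadraticAlgebra ℚ 1 1]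

/-- The embedding of the model. -/
noncomputable def iota {φ : T.B.E} (hφ : φ * φ = φ + 1) : Model →+* A :=
  let f := QuadraticAlgebra.lift (R := ℚ) (a := 1) (b := 1) ⟨φ, by simpa [add_comm] using hφ⟩
  { toFun := fun z => T.B.q (f z.re) (f z.imI) (f z.imJ) (f z.imK)
    map_one' := by simp [T.B.one_eq_q]
    map_zero' := by simp [QB.q]
    map_mul' := fun z w => by simp [QB.q_mul]
    map_add' := fun z w => by simp [QB.q_add] }

/-- Model elements. -/
def mI : Model := ⟨0, 1, 0, 0⟩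

/-- Model elements. -/
def mJ : Model := ⟨0, 0, 1, 0⟩

/-- Model elements. -/
def mX : Model := ⟨⟨-1 / 2, 0⟩, ⟨1 / 2, 0⟩, ⟨1 / 2, 0⟩, ⟨1 / 2, 0⟩⟩

/-- Model elements. -/
def mY : Model := ⟨⟨-1 / 2, 0⟩, ⟨0, 1 / 2⟩, ⟨-1 / 2, 1 / 2⟩, 0⟩

theorem model_J : mY * mI * mY * mY * mI * mY * mI * mY * mY * mI * mY = mJ := by
  ext <;> decide +kernel

theorem model_X : mY * mI * mY * mI * mY * mY * mI * mI = mX := by
  ext <;> decide +kernel

theorem model_five : (mY * mY * (mI * mI * mI)) ^ 5 = 1 := by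
  ext <;> decide +kernel

theorem model_PX : 2 * mX + 1 = ⟨0, 1, 1, 1⟩ := by
  ext <;> decide +kernel

theorem model_PY : 2 * mY + 1 = ⟨0, ⟨0, 1⟩, ⟨-1, 1⟩, 0⟩ := by
  ext <;> decide +kernel

theorem exists_sl25 (h : FRep ρ) {y : G} (hy : orderOf y = 3) {φ : T.B.E} (hφ : φ * φ = φ + 1)
    (e : PP ρ y = T.B.q 0 φ (φ - 1) 0) :
    ∃ f : SL25 →* G, Function.Injective f ∧ y ∈ f.range ∧ T.tet ≤ f.range := by
  have hI : T.iota hφ mI = ρ T.i := by
    simp [iota, mI, rho_i, QuadraticAlgebra.re_one, QuadraticAlgebra.im_one]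
  have hJ : T.iota hφ mJ = ρ T.j := by
    simp [iota, mJ, rho_j, QuadraticAlgebra.re_one, QuadraticAlgebra.im_one]
  have hX : T.iota hφ mX = ρ T.x := by
    have := congrArg (T.iota hφ) model_PX
    rw [map_add, map_mul, map_one, map_ofNat] at this
    refine cancel_nat 2 (add_right_cancel (this.trans (Eq.trans ?_ T.P_x.symm)))
    simp [iota, QuadraticAlgebra.re_one, QuadraticAlgebra.im_one]
  have hY : T.iota hφ mY = ρ y := by
    have := congrArg (T.iota hφ) model_PY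
    rw [map_add, map_mul, map_one, map_ofNat] at this
    refine cancel_nat 2 (add_right_cancel (this.trans (Eq.trans ?_ e.symm)))
    simp [iota, QuadraticAlgebra.lift, sub_eq_neg_add]
  have h3 : y ^ 3 = 1 := hy ▸ pow_orderOf_eq_one y
  have h4 : y * (y * y * (T.i * T.i * T.i)) = T.i ^ 3 := by
    rw [← mul_assoc y, ← pow_three, h3, one_mul, pow_three']
  have h5 : ρ ((T.i ^ 3) ^ 2) = -1 := by
    rw [← pow_mul, show 3 * 2 = 2 * 3 from rfl, pow_mul, map_pow, sq, map_mul, T.hi]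
    norm_num
  obtain ⟨f, hf, f1, f2⟩ := exists_hom_sl25 (x := y) (y := y * y * (T.i * T.i * T.i)) h3
    (h.inj (by simpa [hI, hY] using congrArg (T.iota hφ) model_five))
    (h.inj (by rw [h4, show 4 = 2 * 2 from rfl, pow_mul, map_pow, h5, map_one]; norm_num))
    (h.inj (by rw [h4, map_mul, map_mul, h5]; simp))
    (fun e => by
      rw [h4] at e
      rw [e, map_one] at h5
      exact false_of_ofNat (E := A) 2 (by linear_combination (norm := ncr) h5))
  have hy' : y ∈ f.range := ⟨_, f1⟩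
  have hi : T.i ∈ f.range := by
    have h6 : T.i ^ 3 ∈ f.range := h4 ▸ mul_mem hy' ⟨_, f2⟩
    have h7 : (T.i ^ 3) ^ 3 = T.i := h.inj (by
      rw [← pow_mul, show 3 * 3 = 2 * 4 + 1 from rfl, pow_succ, pow_mul, map_mul, map_pow, sq,
        map_mul, T.hi]
      norm_num)
    exact h7 ▸ pow_mem h6 3
  refine ⟨f, hf, hy', (Subgroup.closure_le _).mpr ?_⟩
  rintro _ (rfl | rfl | rfl)
  · exact hi
  · have : y * T.i * y * y * T.i * y * T.i * y * y * T.i * y = T.j :=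
      h.inj (by simpa [hI, hY, hJ] using congrArg (T.iota hφ) model_J)
    rw [← this]
    repeat' first | exact hi | exact hy' | apply mul_mem
  · have : y * T.i * y * T.i * y * y * T.i * T.i = T.x :=
      h.inj (by simpa [hI, hY, hX] using congrArg (T.iota hφ) model_X)
    rw [← this]
    repeat' first | exact hi | exact hy' | apply mul_mem

theorem tet_or_sl25 (h : FRep ρ) : (∀ y : G, orderOf y = 3 → y ∈ T.tet) ∨
    ∃ f : SL25 →* G, Function.Injective f ∧ ∀ y : G, orderOf y = 3 → y ∈ f.range := by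
  by_cases h1 : ∀ y : G, orderOf y = 3 → y ∈ T.tet
  · exact Or.inl h1
  push Not at h1
  obtain ⟨y, hy, hn⟩ := h1
  obtain ⟨g, -, φ, hφ, e⟩ := (T.classify h hy).resolve_left hn
  have hy' : orderOf (g * y * g⁻¹) = 3 := by rwa [orderOf_conj']
  obtain ⟨f, hf, f1, f2⟩ := T.exists_sl25 h hy' hφ e
  refine Or.inr ⟨f, hf, fun w hw => ?_⟩
  rcases T.classify h hw with h2 | ⟨k, hk, ψ, hψ, e'⟩
  · exact f2 h2
  · rw [T.ico_eq h hy' (by rwa [orderOf_conj']) hφ hψ e e'] at f1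
    simpa [mul_assoc] using mul_mem (mul_mem (inv_mem (f2 hk)) f1) (f2 hk)

end TB

end Cfsg.Agent.H91
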