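import Mathlib
import Cfsg.Agent.H91.Order3
import Cfsg.Agent.H91.FrobElem
import Cfsg.Agent.H55.Basic
import Cfsg.Agent.H4.Schmidt
import Cfsg.Agent.S0088
import Cfsg.Agent.S0106

/-!
Zassenhaus' theorem: a non-solvable Frobenius complement has a normal subgroup `SL(2,5)` with
solvable quotient.
-/

set_option autoImplicit false

namespace Cfsg.Agent.H91

universe u

theorem mem_normalizer_closure {G : Type*} [Group G] [Finite G] {s : Set G} {g : G}
    (h : ∀ a ∈ s, g * a * g⁻¹ ∈ Subgroup.closure s) :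
    g ∈ Subgroup.normalizer (Subgroup.closure s : Set G) := by
  refine Subgroup.mem_normalizer_fintype fun n hn => ?_
  have : (Subgroup.closure s).map (MulAut.conj g).toMonoidHom ≤ Subgroup.closure s := by
    rw [MonoidHom.map_closure, Subgroup.closure_le]
    rintro _ ⟨a, ha, rfl⟩
    exact h a ha
  exact this ⟨n, hn, rfl⟩

theorem isSolvable_zpowers {G : Type*} [Group G] (x : G) : Group.IsSolvable (Subgroup.zpowers x) :=
  Group.isSolvable_of_comm fun a b => (Subgroup.zpowers_isMulCommutative x).is_comm.comm a b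

theorem HasIntFPF.isZGroup {G : Type*} [Group G] [Finite G] (hG : HasIntFPF G)
    (h2 : ∀ P : Sylow 2 G, IsCyclic P) : IsZGroup G := by
  refine ⟨fun p hp P => ?_⟩
  have := Fact.mk hp
  by_cases h : p = 2
  · subst h; exact h2 P
  · exact hG.isCyclic_of_odd h P.isPGroup'

theorem TB.isSolvable_tet {G A : Type*} [Group G] [Finite G] [Ring A] [Algebra ℚ A] [Nontrivial A]
    {ρ : G →* A} (T : TB ρ) (h : FRep ρ) : Group.IsSolvable T.tet := by
  have e1 : T.j * T.i * T.j⁻¹ = T.i⁻¹ := h.inj (by
    rw [map_mul, map_mul, T.i_inv, T.j_inv, T.rho_i, T.rho_j, QB.q_neg, QB.q_neg, QB.q_mul,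
      QB.q_mul]
    congr 1 <;> ncr)
  have key : ∀ {g : G} {a b c d : T.B.E}, ρ g = T.B.q a b c d →
      ρ (T.x * g * T.x⁻¹) = T.B.q a c d b := by
    intro g a b c d e
    have h1 : PP ρ g = T.B.q (2 * a + 1) (2 * b) (2 * c) (2 * d) := by
      rw [PP, e, T.B.ofNat_eq_q, T.B.one_eq_q, QB.q_mul, QB.q_add]
      congr 1 <;> ncr
    refine cancel_nat 2 (add_right_cancel ((T.conj_x h h1).trans ?_))
    rw [T.B.ofNat_eq_q, T.B.one_eq_q, QB.q_mul, QB.q_add]
    congr 1 <;> ncr
  have e2 : T.x * T.i * T.x⁻¹ = T.i * T.j := h.inj (by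
    rw [key T.rho_i, map_mul]
    exact T.B.IJ_eq_q.symm)
  have e3 : T.x * T.j * T.x⁻¹ = T.i := h.inj (by rw [key T.rho_j, T.rho_i])
  have hi : T.i ∈ Subgroup.closure {T.i, T.j} := Subgroup.subset_closure (by simp)
  have hj : T.j ∈ Subgroup.closure {T.i, T.j} := Subgroup.subset_closure (by simp)
  have h1 : Group.IsSolvable (Subgroup.closure {T.i, T.j}) := by
    rw [Set.insert_eq, Subgroup.closure_union, ← Subgroup.zpowers_eq_closure,
      ← Subgroup.zpowers_eq_closure]
    refine H55.isSolvable_sup (isSolvable_zpowers _) (isSolvable_zpowers _) ?_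
    rw [Subgroup.zpowers_le, Subgroup.zpowers_eq_closure]
    refine mem_normalizer_closure ?_
    rintro _ rfl
    rw [e1]
    exact inv_mem (Subgroup.subset_closure rfl)
  have h2 : T.tet = Subgroup.closure {T.i, T.j} ⊔ Subgroup.zpowers T.x := by
    rw [Subgroup.zpowers_eq_closure, ← Subgroup.closure_union, TB.tet, Set.insert_union,
      Set.singleton_union]
  rw [h2]
  refine H55.isSolvable_sup h1 (isSolvable_zpowers _) ?_
  rw [Subgroup.zpowers_le]
  refine mem_normalizer_closure ?_
  rintro _ (rfl | rfl)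
  · rw [e2]; exact mul_mem hi hj
  · rw [e3]; exact hi

theorem HasIntFPF.isSolvable_of_unique_three (G : Type u) [Group G] [Finite G] (hG : HasIntFPF G)
    (h3 : ∀ x y : G, orderOf x = 3 → orderOf y = 3 → y ∈ Subgroup.zpowers x) :
    Group.IsSolvable G := by
  induction hn : Nat.card G using Nat.strong_induction_on generalizing G with
  | _ n ih =>
  rcases subsingleton_or_nontrivial G with hs | hs
  · infer_instance
  by_cases hc : commutator G = ⊤
  swap
  · have h1 : Group.IsSolvable (commutator G) := by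
      refine ih _ ?_ _ (hG.subgroup _) (fun x y hx hy => ?_) rfl
      · exact hn ▸ H7.card_lt_of_ne_top hc
      · obtain ⟨k, hk⟩ := h3 x y (by rwa [Subgroup.orderOf_coe]) (by rwa [Subgroup.orderOf_coe])
        exact ⟨k, Subtype.ext (by simpa using hk)⟩
    exact (Group.isSolvable_iff_subgroup_quotient (commutator G)).mpr
      ⟨h1, inferInstanceAs (Group.IsSolvable (Abelianization G))⟩
  exfalso
  have : Group.IsPerfect G := ⟨hc⟩
  have : Fact (Nat.Prime 3) := ⟨Nat.prime_three⟩
  by_cases hd : 3 ∣ Nat.card G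
  · obtain ⟨x, hx⟩ := exists_prime_orderOf_dvd_card' 3 hd
    have hN : (Subgroup.zpowers x).Normal := ⟨by
      rintro _ ⟨k, rfl⟩ g
      rw [← conj_zpow]
      exact zpow_mem (h3 x _ hx (by rwa [orderOf_conj'])) k⟩
    have hcomm : IsMulCommutative (MulAut.conjNormal (H := Subgroup.zpowers x)).range := by
      let e := IsCyclic.mulAutMulEquiv (Subgroup.zpowers x)
      exact ⟨⟨fun a b => Subtype.ext (e.injective (by simp [mul_comm]))⟩⟩
    have hsub : Subsingleton (MulAut.conjNormal (H := Subgroup.zpowers x)).range := by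
      have := Group.IsPerfect.range (MulAut.conjNormal (G := G) (H := Subgroup.zpowers x))
      infer_instance
    have hxc : x ∈ Subgroup.center G := Subgroup.mem_center_iff.mpr fun g => by
      have h1 : MulAut.conjNormal (H := Subgroup.zpowers x) g = 1 :=
        congrArg Subtype.val (Subsingleton.elim (⟨_, g, rfl⟩ :
          (MulAut.conjNormal (H := Subgroup.zpowers x)).range) 1)
      have h2 := congrArg (fun φ : MulAut (Subgroup.zpowers x) =>
        (φ ⟨x, Subgroup.mem_zpowers x⟩ : G)) h1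
      exact mul_inv_eq_iff_eq_mul.mp (by simpa using h2)
    obtain ⟨P, hP⟩ := (IsPGroup.of_card (n := 1) (p := 3) (G := Subgroup.zpowers x)
      (by rw [Nat.card_zpowers, hx, pow_one])).exists_le_sylow
    have := hG.isCyclic_of_odd (by norm_num) P.isPGroup'
    have h1 := S0088.result (P : Subgroup G) inferInstance P.card_coprime_index
    have h2 : x ∈ (P : Subgroup G) ⊓ commutator G ⊓ Subgroup.center G :=
      ⟨⟨hP (Subgroup.mem_zpowers x), hc ▸ Subgroup.mem_top x⟩, hxc⟩
    rw [h1, Subgroup.mem_bot] at h2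
    rw [h2, orderOf_one] at hx
    norm_num at hx
  · by_cases h2 : ∀ P : Sylow 2 G, IsCyclic P
    · have := hG.isZGroup h2
      exact (IsZGroup.commutator_lt (G := G)).ne hc
    push Not at h2
    obtain ⟨P, hP⟩ := h2
    obtain ⟨-, m, ⟨e⟩⟩ := ((hG.subgroup P).isCyclic_or_quaternion P.isPGroup').resolve_left hP
    have hm : 1 ≤ m := by
      rcases m with _ | m
      · have : IsCyclic (QuaternionGroup (2 ^ 0)) := QuaternionGroup.quaternionGroup_one_isCyclic
        exact absurd (isCyclic_of_injective e.toMonoidHom e.injective) hP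
      · omega
    rcases S0106.result P m hm ⟨e⟩ with ⟨Q, N, hN, hQ⟩ | ⟨H, K, hK, ⟨e'⟩⟩
    · have h4 : IsPGroup 2 (G ⧸ N) := by
        obtain ⟨k, hk⟩ := Q.isPGroup'.exists_card_eq
        exact IsPGroup.of_card (hQ.symm.index_eq_card.trans hk)
      have := h4.isNilpotent
      rcases subsingleton_or_nontrivial (G ⧸ N) with h5 | h5
      · have h6 : Nat.card Q = 1 := hQ.symm.index_eq_card.symm.trans (Nat.card_unique (α := G ⧸ N))
        rw [Nat.card_congr (Sylow.equiv Q P).toEquiv] at h6
        have := (Nat.card_eq_one_iff_unique.mp h6).1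
        exact hP inferInstance
      · exact Group.IsPerfect.not_isNilpotent (G ⧸ N) inferInstance
    · apply hd
      have h4 : Nat.card (Matrix.SpecialLinearGroup (Fin 2) (ZMod 3)) = 24 := by
        rw [Nat.card_eq_fintype_card]; decide +kernel
      refine Dvd.dvd.trans ?_ ((Subgroup.card_quotient_dvd_card (K.subgroupOf H)).trans
        H.card_subgroup_dvd_card)
      rw [Nat.card_congr e'.toEquiv, h4]
      norm_num

/-- Zassenhaus' theorem. -/
theorem HasIntFPF.isSolvable_or_sl25 {G : Type*} [Group G] [Finite G] (hG : HasIntFPF G) :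
    Group.IsSolvable G ∨ ∃ f : SL25 →* G, Function.Injective f ∧ ∃ _ : f.range.Normal,
      Group.IsSolvable (G ⧸ f.range) := by
  by_cases h3 : ∀ x y : G, orderOf x = 3 → orderOf y = 3 → y ∈ Subgroup.zpowers x
  · exact Or.inl (hG.isSolvable_of_unique_three G h3)
  push Not at h3
  obtain ⟨x, w, hx, hw, hn⟩ := h3
  obtain ⟨A, _, _, _, ρ, h⟩ := hG.exists_frep
  obtain ⟨T⟩ := h.nonempty_TB hx hw hn
  have : Fact (Nat.Prime 3) := ⟨Nat.prime_three⟩
  let S := Subgroup.normalClosure {y : G | orderOf y = 3}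
  have hS : ∀ H : Subgroup G, (∀ y, orderOf y = 3 → y ∈ H) → S ≤ H := fun H hH =>
    (Subgroup.closure_le _).mpr fun g hg => by
      obtain ⟨a, ha, hc⟩ := Group.mem_conjugatesOfSet_iff.mp hg
      obtain ⟨c, rfl⟩ := isConj_iff.mp hc
      exact hH _ (by rwa [orderOf_conj'])
  have hxS : x ∈ S := Subgroup.subset_normalClosure hx
  let N := Subgroup.normalizer (Subgroup.zpowers x : Set G)
  have hN : Group.IsSolvable N := by
    have key : ∀ y : N, orderOf y = 3 → (y : G) ∈ Subgroup.zpowers x := fun y hy => by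
      rw [← Subgroup.orderOf_coe] at hy
      exact hG.mem_zpowers_of_commute Nat.prime_three hy hx
        (hG.commute_of_prime_order (hy ▸ Nat.prime_three) y.2)
    refine (hG.subgroup N).isSolvable_of_unique_three N fun y z hy hz =>
      (hG.subgroup N).mem_zpowers_of_commute Nat.prime_three hz hy ?_
    obtain ⟨k, hk⟩ := key y hy
    obtain ⟨l, hl⟩ := key z hz
    refine Subtype.ext ?_
    simp only [Subgroup.coe_mul, ← hk, ← hl]
    exact zpow_mul_comm _ _ _
  have hsup : S ⊔ N = ⊤ := by
    obtain ⟨P, hP⟩ := (IsPGroup.of_card (n := 1) (p := 3) (G := Subgroup.zpowers (⟨x, hxS⟩ : S))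
      (by rw [Nat.card_zpowers, ← Subgroup.orderOf_coe, hx, pow_one])).exists_le_sylow
    have h1 := hG.isCyclic_of_odd (by norm_num) (P.isPGroup'.map S.subtype)
    have hxP : x ∈ (P : Subgroup S).map S.subtype := ⟨_, hP (Subgroup.mem_zpowers _), rfl⟩
    rw [eq_top_iff, ← P.normalizer_sup_eq_top, sup_comm]
    refine sup_le_sup_left (fun g hg => ?_) _
    change g ∈ Subgroup.normalizer _
    rw [Subgroup.zpowers_eq_closure]
    refine mem_normalizer_closure ?_
    rintro _ rfl
    rw [← Subgroup.zpowers_eq_closure]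
    refine hG.mem_zpowers_of_commute Nat.prime_three (by rwa [orderOf_conj']) hx ?_
    exact congrArg Subtype.val (h1.isMulCommutative.is_comm.comm
      ⟨_, (Subgroup.mem_normalizer_iff.mp hg _).mp hxP⟩ ⟨_, hxP⟩)
  rcases T.tet_or_sl25 h with h1 | ⟨f, hf, h1⟩
  · have := T.isSolvable_tet h
    exact Or.inl (H4.isSolvable_of_normal_sup_eq_top hsup
      (Group.isSolvable_of_isSolvable_injective (Subgroup.inclusion_injective (hS _ h1))) hN)
  · have h2 : f.range = S := by
      refine le_antisymm ?_ (hS _ h1)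
      rcases normal_sl25 (S.comap f) with h2 | h2
      · rintro _ ⟨g, rfl⟩
        exact (h2 ▸ Subgroup.mem_top g : g ∈ S.comap f)
      · have h3 : slX ∈ S.comap f := Subgroup.subset_normalClosure (by
          rw [Set.mem_ofPred_eq, orderOf_injective f hf]
          exact orderOf_eq_prime slX_pow slX_ne_one)
        exact absurd (mem_center_sl25.mp (h2 h3)) (by decide)
    have : f.range.Normal := h2 ▸ inferInstance
    refine Or.inr ⟨f, hf, this, Group.isSolvable_of_surjective
      (f := (QuotientGroup.mk' f.range).comp N.subtype) fun q => ?_⟩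
    obtain ⟨g, rfl⟩ := QuotientGroup.mk_surjective q
    obtain ⟨n, hn, s, hs, rfl⟩ := Subgroup.mem_sup_of_normal_right.mp
      (show g ∈ N ⊔ S by rw [sup_comm, hsup]; trivial)
    exact ⟨⟨n, hn⟩, (QuotientGroup.mk_mul_of_mem n (h2 ▸ hs)).symm⟩

end Cfsg.Agent.H91
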