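import Mathlib
import Cfsg.Agent.H91.Zassenhaus
import Cfsg.Agent.H61.NoIndexTwo
import Cfsg.Agent.H9.Dihedral
import Cfsg.Agent.H3.Fitting

/-!
The structure of Frobenius complements.
-/

set_option autoImplicit false

namespace Cfsg.Agent.H91

open Cfsg

/-- An element of order four of `SL(2,5)`. -/
def slI : SL25 := ⟨!![2, 0; 0, 3], by decide⟩

/-- An element of order four of `SL(2,5)`. -/
def slJ : SL25 := ⟨!![0, 1; -1, 0], by decide⟩

/-- An element of order three of `SL(2,5)` normalizing the quaternion group. -/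
def slT : SL25 := ⟨!![3, 4; 3, 1], by decide⟩

theorem orderOf_slI : orderOf slI = 4 := orderOf_eq_prime_pow (p := 2) (n := 1) (by decide) (by decide)

theorem slI_mul_slJ_ne : slI * slJ ≠ slJ * slI := by decide

theorem card_sylow_two_sl25 : Nat.card (Sylow 2 SL25) = 5 := by
  obtain ⟨e⟩ := H9.closure_equiv_quaternion (n := 2) slI slJ orderOf_slI (by decide) (by decide)
    (fun ⟨k, hk⟩ => slI_mul_slJ_ne (by rw [← hk]; exact ((Commute.refl slI).zpow_right k).eq))
  have h8 : Nat.card (Subgroup.closure {slI, slJ}) = 8 := by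
    rw [Nat.card_congr e.toEquiv, H9.nat_card_quaternion]
  have hf : (Nat.card SL25).factorization 2 = 3 := by
    rw [card_sl25, show 120 = 2 ^ 3 * 15 from rfl, Nat.factorization_mul (by norm_num) (by norm_num),
      Finsupp.add_apply, Nat.Prime.factorization_pow Nat.prime_two,
      Nat.factorization_eq_zero_of_not_dvd (by norm_num)]
    simp
  let P : Sylow 2 SL25 := Sylow.ofCard _ (by rw [h8, hf]; rfl)
  have hi : slI ∈ Subgroup.closure {slI, slJ} := Subgroup.subset_closure (by simp)
  have hj : slJ ∈ Subgroup.closure {slI, slJ} := Subgroup.subset_closure (by simp)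
  have hx : slT ∈ Subgroup.normalizer (P : Set SL25) := mem_normalizer_closure (by
    rintro _ (rfl | rfl)
    · rw [show slT * slI * slT⁻¹ = slI * slJ by decide]; exact mul_mem hi hj
    · rw [show slT * slJ * slT⁻¹ = slI by decide]; exact hi)
  have : Fact (Nat.Prime 3) := ⟨Nat.prime_three⟩
  have h3 : 3 ∣ Nat.card (Subgroup.normalizer (P : Set SL25)) := by
    rw [← orderOf_eq_prime (x := slT) (p := 3) (by decide) (by decide)]
    exact Subgroup.orderOf_dvd_natCard _ hx
  have h8' : 8 ∣ Nat.card (Subgroup.normalizer (P : Set SL25)) :=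
    h8 ▸ Subgroup.card_dvd_of_le (Subgroup.le_normalizer (H := (P : Subgroup SL25)))
  obtain ⟨m, hm⟩ := Nat.Coprime.mul_dvd_of_dvd_of_dvd (by norm_num) h3 h8'
  have h1 := (Subgroup.normalizer (P : Set SL25)).card_mul_index
  rw [hm, card_sl25] at h1
  rw [P.card_eq_index_normalizer]
  have h2 : (Subgroup.normalizer (P : Set SL25)).index ∣ 5 := Dvd.intro_left m (by linarith)
  refine ((Nat.dvd_prime (by norm_num)).mp h2).resolve_left fun h => ?_
  have hn : (P : Subgroup SL25).Normal :=
    Subgroup.normalizer_eq_top_iff.mp (Subgroup.index_eq_one.mp h)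
  rcases normal_sl25 P with h4 | h4
  · have : Nat.card (P : Subgroup SL25) = 8 := h8
    rw [h4, Subgroup.card_top, card_sl25] at this
    norm_num at this
  · exact absurd (mem_center_sl25.mp (h4 hi)) (by decide)

theorem card_center_sl25 : Nat.card (Subgroup.center SL25) = 2 := by
  have : Subgroup.center SL25 = Subgroup.zpowers (-1) := by
    refine le_antisymm (fun g hg => ?_) (Subgroup.zpowers_le.mpr (mem_center_sl25.mpr (Or.inr rfl)))
    rcases mem_center_sl25.mp hg with rfl | rfl
    exacts [one_mem _, Subgroup.mem_zpowers _]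
  rw [this, Nat.card_zpowers]
  exact orderOf_eq_prime (by simp) sl25_neg_one_ne

theorem exists_hom_perm_five {G : Type*} [Group G] (f : SL25 →* G) (hf : Function.Injective f)
    [f.range.Normal] : ∃ φ : G →* Equiv.Perm (Fin 5),
      (φ.comp f).range = alternatingGroup (Fin 5) ∧ ∀ n ∈ φ.ker, ∀ s, n * f s = f s * n := by
  let e : SL25 ≃* f.range := MonoidHom.ofInjective hf
  let ψ : G →* MulAut SL25 := (MulAut.congr e).symm.toMonoidHom.comp MulAut.conjNormal
  have hψ : ∀ g s, f (ψ g s) = g * f s * g⁻¹ := fun g s =>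
    congrArg Subtype.val (e.apply_symm_apply (MulAut.conjNormal g (e s)))
  have hψ' : ∀ s, ψ (f s) = MulAut.conj s := fun s =>
    MulEquiv.ext fun t => hf (by rw [hψ]; simp)
  let e5 : Sylow 2 SL25 ≃ Fin 5 := Finite.equivFinOfCardEq card_sylow_two_sl25
  let φ : G →* Equiv.Perm (Fin 5) := e5.permCongrHom.toMonoidHom.comp
    ((MulAction.toPermHom (MulAut SL25) (Sylow 2 SL25)).comp ψ)
  have hk : (φ.comp f).ker = Subgroup.center SL25 := by
    refine le_antisymm ((normal_sl25 _).resolve_left fun h => ?_) fun s hs => ?_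
    · have h1 : ∀ (s : SL25) (P : Sylow 2 SL25), s • P = P := fun s P => by
        have h2 : φ (f s) = 1 := (h ▸ Subgroup.mem_top s : s ∈ (φ.comp f).ker)
        have h3 := e5.permCongrHom.injective (h2.trans (map_one _).symm)
        have h4 := congrArg (fun σ : Equiv.Perm (Sylow 2 SL25) => σ P) h3
        simpa [hψ', Sylow.smul_def] using h4
      have : Subsingleton (Sylow 2 SL25) := ⟨fun P Q => by
        obtain ⟨s, rfl⟩ := MulAction.exists_smul_eq SL25 P Q
        exact (h1 s P).symm⟩
      have h2 := card_sylow_two_sl25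
      rw [Nat.card_of_subsingleton (default : Sylow 2 SL25)] at h2
      norm_num at h2
    · have h1 : ψ (f s) = 1 := by
        rw [hψ']
        exact MulEquiv.ext fun t => mul_inv_eq_iff_eq_mul.mpr (Subgroup.mem_center_iff.mp hs t).symm
      change e5.permCongrHom (MulAction.toPermHom (MulAut SL25) (Sylow 2 SL25) (ψ (f s))) = 1
      rw [h1, map_one, map_one]
  refine ⟨φ, Equiv.Perm.eq_alternatingGroup_of_index_eq_two ?_, fun n hn => ?_⟩
  · have h1 := (φ.comp f).range.card_mul_index
    have h2 := (φ.comp f).ker.card_mul_index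
    rw [Subgroup.index_ker, hk, card_center_sl25, card_sl25] at h2
    rw [Nat.card_perm, Nat.card_eq_fintype_card (α := Fin 5), Fintype.card_fin,
      show Nat.card (φ.comp f).range = 60 by omega] at h1
    simp only [Nat.factorial] at h1
    omega
  · have h1 : ∀ s, ψ n s = s ∨ ψ n s = -s := fun s => by
      have h2 : ψ n s * s⁻¹ ∈ (φ.comp f).ker := by
        rw [MonoidHom.mem_ker, MonoidHom.comp_apply, map_mul, hψ]
        simp [MonoidHom.mem_ker.mp hn]
      rw [hk, mem_center_sl25, mul_inv_eq_one, mul_inv_eq_iff_eq_mul, neg_mul, one_mul] at h2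
      exact h2
    have hX : ψ n slX = slX := (h1 _).resolve_right fun h => by
      have := congrArg (ψ n) slX_pow
      rw [map_pow, h, map_one] at this
      exact absurd this (by decide)
    have hY : ψ n slY = slY := (h1 _).resolve_right fun h => by
      have := congrArg (ψ n) slY_pow
      rw [map_pow, h, map_one] at this
      exact absurd this (by decide)
    have h2 : (ψ n).toMonoidHom = MonoidHom.id _ := MonoidHom.eq_of_eqOn_dense closure_slXY (by
      rintro _ (rfl | rfl)
      exacts [hX, hY])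
    intro s
    have h3 : ψ n s = s := DFunLike.congr_fun h2 s
    rw [← mul_inv_eq_iff_eq_mul, ← hψ, h3]

section
variable {G : Type*} [Group G] [Finite G]

theorem HasIntFPF.not_four_dvd (hG : HasIntFPF G) {i j c : G} (hi : orderOf i = 4)
    (hij : i * j ≠ j * i) (hci : Commute c i) (hcj : Commute c j) : ¬ 4 ∣ orderOf c := by
  intro h
  have h1 : orderOf (c ^ (orderOf c / 4)) = 4 := orderOf_pow_orderOf_div (orderOf_pos c).ne' h
  have hci' := hci.pow_left (orderOf c / 4)
  have hcj' := hcj.pow_left (orderOf c / 4)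
  generalize c ^ (orderOf c / 4) = d at h1 hci' hcj'
  have h2 : ∀ g : G, orderOf g = 4 → orderOf (g ^ 2) = 2 := fun g hg => by
    rw [orderOf_pow' _ two_ne_zero, hg]; rfl
  have h3 : d ^ 2 = i ^ 2 := hG.involution_unique (h2 i hi) (h2 d h1)
  have h4 : (d * i) ^ 2 = 1 := by
    rw [hci'.mul_pow, h3, ← pow_add, show 2 + 2 = orderOf i from hi.symm, pow_orderOf_eq_one]
  have h5 : Commute (d * i) j := by
    by_cases h6 : d * i = 1
    · rw [h6]; exact Commute.one_left j
    · rw [hG.involution_unique (h2 d h1) (orderOf_eq_prime h4 h6)]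
      exact hcj'.pow_left 2
  have h6 := hcj'.inv_left.mul_left h5
  rw [inv_mul_cancel_left] at h6
  exact hij h6

theorem HasIntFPF.isZGroup_of_not_four_dvd (hG : HasIntFPF G) (h : ∀ c : G, ¬ 4 ∣ orderOf c) :
    IsZGroup G := by
  refine hG.isZGroup fun P => ((hG.subgroup P).isCyclic_or_quaternion P.isPGroup').resolve_right ?_
  rintro ⟨-, n, ⟨e⟩⟩
  apply h (e.symm (QuaternionGroup.xa 0))
  rw [Subgroup.orderOf_coe, MulEquiv.orderOf_eq, QuaternionGroup.orderOf_xa]

theorem HasIntFPF.isZGroup_of_commute (hG : HasIntFPF G) {i j : G} (hi : orderOf i = 4)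
    (hij : i * j ≠ j * i) {N : Subgroup G} (h : ∀ n ∈ N, Commute n i ∧ Commute n j) :
    IsZGroup N :=
  (hG.subgroup N).isZGroup_of_not_four_dvd fun c => by
    rw [← Subgroup.orderOf_coe]
    exact hG.not_four_dvd hi hij (h c c.2).1 (h c c.2).2

theorem HasIntFPF.nonsolvable (hG : HasIntFPF G) (hns : ¬ Group.IsSolvable G) :
    ∃ (f : SL25 →* G) (φ : G →* Equiv.Perm (Fin 5)), Function.Injective f ∧
      (φ.comp f).range = alternatingGroup (Fin 5) ∧ (∀ n ∈ φ.ker, ∀ s, n * f s = f s * n) ∧
      IsZGroup φ.ker := by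
  obtain ⟨f, hf, _, -⟩ := hG.isSolvable_or_sl25.resolve_left hns
  obtain ⟨φ, h1, h2⟩ := exists_hom_perm_five f hf
  refine ⟨f, φ, hf, h1, h2, hG.isZGroup_of_commute (i := f slI) (j := f slJ)
    (by rw [orderOf_injective f hf, orderOf_slI]) (fun e => slI_mul_slJ_ne (hf ?_))
    fun n hn => ⟨h2 n hn _, h2 n hn _⟩⟩
  rwa [map_mul, map_mul]

theorem injective_restrict_of_coprime {H : Type*} [Group H] (π : G →* H) {p : ℕ}
    (hk : (Nat.card π.ker).Coprime p) {P : Subgroup G} (hP : IsPGroup p P) :
    Function.Injective (π.comp P.subtype) := by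
  rw [injective_iff_map_eq_one]
  intro a ha
  have : (a : G) ∈ P ⊓ π.ker := ⟨a.2, ha⟩
  rw [H3.inf_eq_bot_of_isPGroup_of_coprime hP hk] at this
  exact Subtype.ext this

theorem HasIntFPF.of_coprime_ker (hG : HasIntFPF G) {H : Type*} [Group H] {π : G →* H}
    (hπ : Function.Surjective π) {p : ℕ} [Fact p.Prime] (hk : (Nat.card π.ker).Coprime p)
    {R : Subgroup H} (hR : IsPGroup p R) : HasIntFPF R := by
  obtain ⟨Q, hQ⟩ := hR.exists_le_sylow
  obtain ⟨P, rfl⟩ := Sylow.mapSurjective_surjective hπ p Q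
  have h1 := injective_restrict_of_coprime π hk P.isPGroup'
  have h2 : R ≤ (π.comp (P : Subgroup G).subtype).range := by
    rwa [MonoidHom.range_comp, Subgroup.range_subtype]
  exact (hG.subgroup P).of_injective ((MonoidHom.ofInjective h1).symm.toMonoidHom.comp
    (Subgroup.inclusion h2))
    ((MonoidHom.ofInjective h1).symm.injective.comp (Subgroup.inclusion_injective h2))

theorem HasIntFPF.isZGroup_comap (hG : HasIntFPF G) {H : Type*} [Group H] (π : G →* H)
    (hk : (Nat.card π.ker).Coprime 2) {C : Subgroup H} (hC : IsCyclic C) :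
    IsZGroup (C.comap π) := by
  refine (hG.subgroup _).isZGroup fun P => ?_
  have h1 := injective_restrict_of_coprime π hk (P.isPGroup'.map (C.comap π).subtype)
  let g : (P : Subgroup (C.comap π)) →* C :=
    ((π.comp (C.comap π).subtype).comp (P : Subgroup (C.comap π)).subtype).codRestrict C
      fun x => x.1.2
  refine isCyclic_of_injective g ((injective_iff_map_eq_one _).mpr fun a ha => ?_)
  have h2 := (injective_iff_map_eq_one _).mp h1 ⟨a, a, a.2, rfl⟩ (congrArg Subtype.val ha)
  have h3 : ((a : C.comap π) : G) = 1 := congrArg Subtype.val h2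
  exact Subtype.ext (Subtype.ext h3)

end

/-- The projection of a generalized quaternion group onto the four-group. -/
def quatToV4 {m : ℕ} (h : 2 ∣ m) : QuaternionGroup m →* DihedralGroup 2 :=
  MonoidHom.mk' (fun x => match x with
    | QuaternionGroup.a i => DihedralGroup.r (ZMod.castHom (dvd_mul_right 2 m) (ZMod 2) i)
    | QuaternionGroup.xa i => DihedralGroup.sr (ZMod.castHom (dvd_mul_right 2 m) (ZMod 2) i)) (by
    have h1 : (m : ZMod 2) = 0 := (ZMod.natCast_eq_zero_iff m 2).mpr h
    rintro (i | i) (j | j)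
    · simp only [QuaternionGroup.a_mul_a, DihedralGroup.r_mul_r, map_add]
    · simp only [QuaternionGroup.a_mul_xa, DihedralGroup.r_mul_sr, map_sub]
    · simp only [QuaternionGroup.xa_mul_a, DihedralGroup.sr_mul_r, map_add]
    · simp only [QuaternionGroup.xa_mul_xa, DihedralGroup.sr_mul_sr, map_sub, map_add, map_natCast,
        h1, zero_add])

theorem quatToV4_surjective {m : ℕ} (h : 2 ∣ m) : Function.Surjective (quatToV4 h) := by
  rintro (i | i) <;> obtain ⟨i, rfl⟩ := ZMod.castHom_surjective (dvd_mul_right 2 m) i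
  · exact ⟨QuaternionGroup.a i, rfl⟩
  · exact ⟨QuaternionGroup.xa i, rfl⟩

theorem isCyclic_ker_quatToV4 {m : ℕ} [NeZero m] (h : 2 ∣ m) : IsCyclic (quatToV4 h).ker := by
  refine Subgroup.isCyclic_of_le (H' := Subgroup.zpowers (QuaternionGroup.a 1)) ?_
  rintro (i | i) hi
  · exact ⟨i.val, by simp only [zpow_natCast, QuaternionGroup.a_one_pow, ZMod.natCast_zmod_val]⟩
  · cases hi

theorem card_center_quaternion_two : Nat.card (Subgroup.center (QuaternionGroup 2)) = 2 := by
  have : Subgroup.center (QuaternionGroup 2) = Subgroup.zpowers (QuaternionGroup.a 2) := by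
    refine le_antisymm (fun g hg => ?_) (Subgroup.zpowers_le.mpr
      (Subgroup.mem_center_iff.mpr (by decide)))
    have h1 : g = 1 ∨ g = QuaternionGroup.a 2 := by
      rw [Subgroup.mem_center_iff] at hg
      revert g
      decide
    rcases h1 with rfl | rfl
    exacts [one_mem _, Subgroup.mem_zpowers _]
  rw [this, Nat.card_zpowers]
  exact orderOf_eq_prime (by decide) (by decide)

theorem HasIntFPF.solvable_aux {G H : Type*} [Group G] [Finite G] [Group H] (hG : HasIntFPF G)
    (π : G →* H) (hπ : Function.Surjective π) (hk : (Nat.card π.ker).Coprime 2) (Q : Subgroup H)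
    [Q.Normal] (hQ : IsPGroup 2 Q) (hC : Subgroup.centralizer (Q : Set H) ≤ Q) : IsZGroup G ∨
      (∃ φ : G →* DihedralGroup 2, Function.Surjective φ ∧ IsZGroup φ.ker) ∨
      ∃ φ : G →* Equiv.Perm (Fin 4), alternatingGroup (Fin 4) ≤ φ.range ∧ IsZGroup φ.ker := by
  have : Finite H := Finite.of_surjective π hπ
  by_cases h2 : IsPGroup 2 H
  · have hH : HasIntFPF H := (hG.of_coprime_ker hπ hk (h2.to_subgroup ⊤)).of_injective
      (Subgroup.topEquiv (G := H)).symm.toMonoidHom Subgroup.topEquiv.symm.injective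
    by_cases hc : IsCyclic H
    · have := hG.isZGroup_comap π hk (C := ⊤) inferInstance
      exact Or.inl (IsZGroup.of_injective (G' := (⊤ : Subgroup H).comap π)
        (f := (MonoidHom.id G).codRestrict _ fun _ => Subgroup.mem_top _)
        fun a b h => congrArg Subtype.val h)
    obtain ⟨-, n, ⟨e⟩⟩ := (hH.isCyclic_or_quaternion h2).resolve_left hc
    rcases n with _ | n
    · have : IsCyclic (QuaternionGroup (2 ^ 0)) := QuaternionGroup.quaternionGroup_one_isCyclic
      exact absurd (isCyclic_of_injective e.toMonoidHom e.injective) hc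
    have hd : 2 ∣ 2 ^ (n + 1) := dvd_pow_self 2 n.succ_ne_zero
    refine Or.inr (Or.inl ⟨((quatToV4 hd).comp e.toMonoidHom).comp π,
      ((quatToV4_surjective hd).comp e.surjective).comp hπ, hG.isZGroup_comap π hk
        (C := ((quatToV4 hd).comp e.toMonoidHom).ker) ?_⟩)
    have := isCyclic_ker_quatToV4 hd
    exact isCyclic_of_injective (G' := (quatToV4 hd).ker)
      ((e.toMonoidHom.comp (Subgroup.subtype _)).codRestrict _ fun x => x.2)
      fun a b h => Subtype.ext (e.injective (congrArg Subtype.val h))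
  let ψ : H →* MulAut Q := MulAut.conjNormal
  have hψ : ∀ h, ψ h = 1 ↔ h ∈ Subgroup.centralizer (Q : Set H) := fun h =>
    ⟨fun e q hq => (mul_inv_eq_iff_eq_mul.mp (congrArg Subtype.val
      (DFunLike.congr_fun e ⟨q, hq⟩ :))).symm,
      fun e => MulEquiv.ext fun q => Subtype.ext (mul_inv_eq_iff_eq_mul.mpr (e q q.2).symm)⟩
  have hker : ψ.ker ≤ Q := fun h hh => hC ((hψ h).mp hh)
  have hp : IsPGroup 2 ψ.ker := hQ.to_le hker
  have key : ¬ IsPGroup 2 ψ.range := fun h => h2 <| by
    have h3 := h.comap_of_ker_isPGroup ψ hp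
    rw [MonoidHom.comap_range_self] at h3
    exact h3.of_equiv Subgroup.topEquiv
  obtain ⟨⟨e⟩, ⟨e'⟩⟩ := (H61.aut_of_cyclic_or_quaternion hQ
    (((hG.of_coprime_ker hπ hk hQ).isCyclic_or_quaternion hQ).imp_right fun h => h.2)).resolve_left
    fun h => key (h.to_subgroup _)
  refine Or.inr (Or.inr ⟨(e'.toMonoidHom.comp ψ).comp π,
    Equiv.Perm.alternatingGroup_le_of_index_le_two ?_, ?_⟩)
  · rw [MonoidHom.range_comp, MonoidHom.range_eq_top.mpr hπ, ← MonoidHom.range_eq_map,
      MonoidHom.range_comp, MulEquiv.toMonoidHom_eq_coe, Subgroup.index_map_equiv]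
    have h3 := ψ.range.card_mul_index
    rw [Nat.card_congr e'.toEquiv, Nat.card_perm, Nat.card_eq_fintype_card (α := Fin 4),
      Fintype.card_fin, show Nat.factorial 4 = 24 from rfl] at h3
    have h4 : 4 ∣ Nat.card ψ.range := by
      have h5 : (ψ.comp Q.subtype).ker = Subgroup.center Q := by
        ext q
        rw [MonoidHom.mem_ker, MonoidHom.comp_apply, hψ, Subgroup.mem_center_iff]
        exact ⟨fun h r => Subtype.ext (h r r.2), fun h r hr => congrArg Subtype.val (h ⟨r, hr⟩)⟩
      have h6 := (ψ.comp Q.subtype).ker.card_mul_index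
      rw [Subgroup.index_ker, h5, Nat.card_congr (Subgroup.centerCongr e).toEquiv,
        card_center_quaternion_two, Nat.card_congr e.toEquiv, H9.nat_card_quaternion] at h6
      rw [show 4 = Nat.card (ψ.comp Q.subtype).range by omega]
      exact Subgroup.card_dvd_of_le (by rintro _ ⟨q, rfl⟩; exact ⟨q, rfl⟩)
    have h5 : 3 ∣ Nat.card ψ.range := by
      by_contra h5
      have h6 : Nat.card ψ.range ∣ 2 ^ 3 := Nat.Coprime.dvd_of_dvd_mul_left
        ((Nat.Prime.coprime_iff_not_dvd Nat.prime_three).mpr h5).symm (Dvd.intro _ h3)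
      obtain ⟨k, -, hk⟩ := (Nat.dvd_prime_pow Nat.prime_two).mp h6
      exact key (IsPGroup.of_card hk)
    obtain ⟨m, hm⟩ := Nat.Coprime.mul_dvd_of_dvd_of_dvd (by norm_num) h4 h5
    rw [hm] at h3
    have : 0 < m := Nat.pos_of_ne_zero (by rintro rfl; simp at h3)
    nlinarith
  · have h3 : ((e'.toMonoidHom.comp ψ).comp π).ker = ψ.ker.comap π := by
      ext g
      simp
    rw [h3]
    have : IsMulCommutative ψ.ker := ⟨⟨fun a b => Subtype.ext ((hψ b).mp b.2 a (hker a.2))⟩⟩
    exact hG.isZGroup_comap π hk (hG.of_coprime_ker hπ hk hp).isCyclic_of_comm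

theorem HasIntFPF.solvable {G : Type*} [Group G] [Finite G] [Group.IsSolvable G]
    (hG : HasIntFPF G) : IsZGroup G ∨
      (∃ φ : G →* DihedralGroup 2, Function.Surjective φ ∧ IsZGroup φ.ker) ∨
      ∃ φ : G →* Equiv.Perm (Fin 4), alternatingGroup (Fin 4) ≤ φ.range ∧ IsZGroup φ.ker :=
  hG.solvable_aux (QuotientGroup.mk' (pPrimeCore 2 G)) (QuotientGroup.mk'_surjective _)
    (by rw [QuotientGroup.ker_mk']; exact H3.pPrimeCore_coprime 2 G) _ (H3.pCore_isPGroup 2 _)
    (H3.centralizer_pCore_le (H3.pPrimeCore_quotient_pPrimeCore 2 G))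

end Cfsg.Agent.H91
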