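import Mathlib
import Cfsg.Agent.S0035
import Cfsg.Agent.S0042
import Cfsg.Agent.H91.FrobElem

/-!
The standard facts on a Frobenius group with given kernel, in one package.
-/

set_option autoImplicit false

namespace Cfsg.Agent.H91

open Cfsg

variable {L : Type*} [Group L] [Finite L] {C N : Subgroup L}

theorem frob_isComplement' (hC : IsFrobeniusComplement C) (hN : frobeniusKernel C = N) :
    N.IsComplement' C := by
  obtain ⟨K, hK, -, hc⟩ := S0035.result C hC
  rwa [show N = K from SetLike.coe_injective (hN.symm.trans hK.symm)]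

theorem frob_normal (hC : IsFrobeniusComplement C) (hN : frobeniusKernel C = N) : N.Normal := by
  obtain ⟨K, hK, hc, -⟩ := S0035.result C hC
  rwa [show N = K from SetLike.coe_injective (hN.symm.trans hK.symm)]

theorem frob_isNilpotent (hC : IsFrobeniusComplement C) (hN : frobeniusKernel C = N) :
    Group.IsNilpotent N := by
  obtain ⟨K, hK, -, hc⟩ := S0042.result C hC
  rwa [show N = K from SetLike.coe_injective (hN.symm.trans hK.symm)]

theorem frob_coprime (hC : IsFrobeniusComplement C) (hN : frobeniusKernel C = N) :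
    (Nat.card N).Coprime (Nat.card C) := by
  have := H5.frob_coprime_card_index hC
  rw [(frob_isComplement' hC hN).index_eq_card] at this
  exact this.symm

theorem frob_ne_bot (hC : IsFrobeniusComplement C) (hN : frobeniusKernel C = N) : N ≠ ⊥ := by
  rintro rfl
  exact hC.2.1 (Subgroup.isComplement'_bot_left.mp (frob_isComplement' hC hN))

/-- The centralizer of a non-identity element of the kernel lies in the kernel. -/
theorem frob_mem_of_commute_kernel (hC : IsFrobeniusComplement C) (hN : frobeniusKernel C = N)
    {x g : L} (hx : x ∈ N) (hx1 : x ≠ 1) (h : Commute g x) : g ∈ N := by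
  by_contra hg
  rw [← SetLike.mem_coe, ← hN, H5.mem_frobeniusKernel_iff] at hg
  push Not at hg
  obtain ⟨hg1, c, hc⟩ := hg
  have h1 : c⁻¹ * x * c ∈ C := H5.frob_mem_of_commute hC hc
    (fun e => hg1 ((MulAut.conj c).symm.injective (e.trans (map_one _).symm)))
    (h.symm.map (MulAut.conj c).symm)
  have h2 : c⁻¹ * x * c ∈ N := (frob_normal hC hN).conj_mem' x hx c
  have h3 := Subgroup.disjoint_def.mp (frob_isComplement' hC hN).disjoint h2 h1
  exact hx1 ((MulAut.conj c).symm.injective (h3.trans (map_one _).symm))

theorem exists_orderOf_eq_of_dvd {G : Type*} [Group G] [Finite G] {g : G} {n : ℕ}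
    (h : n ∣ orderOf g) : ∃ x ∈ Subgroup.zpowers g, orderOf x = n :=
  ⟨g ^ (orderOf g / n), Subgroup.npow_mem_zpowers _ _,
    orderOf_pow_orderOf_div (orderOf_pos g).ne' h⟩

end Cfsg.Agent.H91
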