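import Cfsg.Agent.H91.FrobB
import Cfsg.Agent.H53.FMDefs
import Cfsg.Agent.S0042
import Cfsg.Agent.H5.Frobenius
import Cfsg.Agent.H51.PSeries

/-!
Frobenius groups of automorphisms with fixed-point-free kernel: Fitting subgroup, `p`-length and
Fitting height of the fixed points of the complement.
-/

set_option autoImplicit false
set_option linter.style.haveILetI false

namespace Cfsg.Agent.H91.FB

open Subgroup Cfsg.Agent.H4.Ext Cfsg.Agent.H92
open scoped IsMulCommutative Pointwise commutatorElement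

universe u

theorem comap_piCore_quot {X Y : Type*} [Group X] [Finite X] [Group Y] (π : Set ℕ) {f : X →* Y}
    (hf : Function.Surjective f) {U : Subgroup X} [U.Normal] (hU : f.ker = U) :
    (piCore π (X ⧸ U)).comap (QuotientGroup.mk' U) = (piCore π Y).comap f := by
  subst hU
  rw [← H3.comap_piCore_eq (f := (QuotientGroup.quotientKerEquivOfSurjective f hf : _ →* Y))
    (QuotientGroup.quotientKerEquivOfSurjective f hf).surjective
    (H3.pi_card_ker_of_injective (QuotientGroup.quotientKerEquivOfSurjective f hf).injective),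
    comap_comap]
  rfl

theorem upper_succ (p : ℕ) (hp : p.Prime) (G : Type*) [Group G] [Finite G] (n : ℕ) :
    (upperPSeries p G (n + 1)).1 = (piCore (if Even n then {p}ᶜ else {p})
      (G ⧸ (upperPSeries p G n).1)).comap (QuotientGroup.mk' _) := by
  split_ifs with h
  · rw [H51.upperPSeries_succ_even p G h, H67.pPrimeCore_eq_piCore hp]
  · rw [H51.upperPSeries_succ_odd p G h, H67.pCore_eq_piCore hp]

/-- A chain of normal subgroups with nilpotent factors. -/
def Chain (n : ℕ) (G : Type*) [Group G] : Prop :=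
  ∃ F : Fin (n + 1) → Subgroup G, F 0 = ⊥ ∧ F (Fin.last n) = ⊤ ∧ Monotone F ∧
    (∀ i, (F i).Normal) ∧ ∀ i : Fin n, ∃ k : ℕ, (F i.succ).lowerCentralSeries k ≤ F i.castSucc

theorem lcs_comap_le {X Y : Type*} [Group X] [Group Y] (f : X →* Y) (S : Subgroup Y) (k : ℕ) :
    (S.comap f).lowerCentralSeries k ≤ (S.lowerCentralSeries k).comap f := by
  rw [← map_le_iff_le_comap, map_lowerCentralSeries]
  induction k with
  | zero => exact map_comap_le f S
  | succ k ih => exact commutator_mono ih (map_comap_le f S)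

theorem Chain.subgroup {n : ℕ} {G : Type*} [Group G] (h : Chain n G) (C : Subgroup G) :
    Chain n C := by
  obtain ⟨F, h0, h1, h2, h3, h4⟩ := h
  refine ⟨fun i => (F i).comap C.subtype, by simp only [h0]; exact bot_subgroupOf C,
    by simp only [h1]; rfl,
    fun i j hij => comap_mono (h2 hij), fun i => (h3 i).comap _, fun i => ?_⟩
  obtain ⟨k, hk⟩ := h4 i
  exact ⟨k, (lcs_comap_le _ _ k).trans (comap_mono hk)⟩

theorem Chain.tail {n : ℕ} {X Y : Type*} [Group X] [Group Y] (h : Chain (n + 1) X) {f : X →* Y}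
    (hf : Function.Surjective f) (hk : fittingSubgroup X ≤ f.ker) : Chain n Y := by
  obtain ⟨F, h0, h1, h2, h3, h4⟩ := h
  refine ⟨fun i => (F i.succ).map f, ?_, ?_, fun i j hij => map_mono (h2 (by simpa using hij)),
    fun i => (h3 _).map f hf, fun i => ?_⟩
  · obtain ⟨k, hk'⟩ := h4 0
    rw [Fin.castSucc_zero, h0, le_bot_iff] at hk'
    haveI := h3 (Fin.succ 0)
    rw [Subgroup.map_eq_bot_iff]
    exact (H3.le_fitting ((isNilpotent_iff_lowerCentralSeries _).2 ⟨k, hk'⟩)).trans hk
  · simp only [Fin.succ_last, h1, map_top_of_surjective f hf]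
  · obtain ⟨k, hk'⟩ := h4 i.succ
    refine ⟨k, ?_⟩
    rw [← map_lowerCentralSeries]
    exact map_mono hk'

theorem Chain.cons {n : ℕ} {G : Type*} [Group G] {N : Subgroup G} [N.Normal]
    (hN : Group.IsNilpotent N) (h : Chain n (G ⧸ N)) : Chain (n + 1) G := by
  obtain ⟨F, h0, h1, h2, h3, h4⟩ := h
  refine ⟨Fin.cons ⊥ fun i => (F i).comap (QuotientGroup.mk' N), rfl, ?_, ?_, fun i => ?_,
    fun i => ?_⟩
  · rw [← Fin.succ_last, Fin.cons_succ, h1, comap_top]
  · rw [Fin.monotone_iff_le_succ]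
    intro i
    induction i using Fin.cases with
    | zero => exact bot_le
    | succ i => exact comap_mono (h2 (Fin.castSucc_le_succ i))
  · induction i using Fin.cases with
    | zero => exact normal_bot
    | succ i => exact (h3 i).comap _
  · induction i using Fin.cases with
    | zero =>
      obtain ⟨k, hk⟩ := (isNilpotent_iff_lowerCentralSeries _).1 hN
      refine ⟨k, ?_⟩
      rw [Fin.cons_succ, h0, MonoidHom.comap_bot, QuotientGroup.ker_mk', hk]
      exact bot_le
    | succ i =>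
      obtain ⟨k, hk⟩ := h4 i
      exact ⟨k, (lcs_comap_le _ _ k).trans (comap_mono hk)⟩

section Solv

variable {A : Type*} [Group A] [Finite A] {F H : Subgroup A} [F.Normal]

theorem fitting_fix (hF : Group.IsNilpotent F) (hs : SRPair F H) (K : Type u) [Group K] [Finite K]
    (φ : A →* MulAut K) (hK : Group.IsSolvable K) (h : fixB φ F = ⊥) :
    fittingSubgroup (fixB φ H) = (fittingSubgroup K).subgroupOf _ := by
  refine le_antisymm ?_ (H3.fitting_subgroupOf_le _)
  rw [H3.fitting_eq_iSup_pCore, iSup_le_iff]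
  intro p
  haveI : Fact (p : ℕ).Prime := ⟨p.2⟩
  rw [H67.pCore_eq_piCore p.2, piCore_fix hF hs _ K φ hK h, ← H67.pCore_eq_piCore p.2]
  exact comap_mono H3.pCore_le_fitting

theorem upper_fix (hF : Group.IsNilpotent F) (hs : SRPair F H) {p : ℕ} (hp : p.Prime) (K : Type u)
    [Group K] [Finite K] (φ : A →* MulAut K) (hK : Group.IsSolvable K) (h : fixB φ F = ⊥) (n : ℕ) :
    Inv φ (upperPSeries p K n).1 ∧
      (upperPSeries p (fixB φ H) n).1 = (upperPSeries p K n).1.subgroupOf _ := by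
  induction n with
  | zero => exact ⟨fun a x hx => by rw [mem_bot.1 hx, map_one]; exact one_mem _,
      (bot_subgroupOf _).symm⟩
  | succ n ih =>
    obtain ⟨h1, h2⟩ := ih
    rw [upper_succ p hp, upper_succ p hp]
    haveI := H3.piCore_characteristic (if Even n then {p}ᶜ else {p}) (K ⧸ (upperPSeries p K n).1)
    refine ⟨inv_comap_mk φ h1 (inv_of_characteristic _ _), ?_⟩
    rw [comap_piCore_quot _ (cover_quo hF hs hK h h1) ((ker_resQ h1 H).trans h2.symm),
      piCore_fix hF hs _ _ _ inferInstance (fpf_quo hF hs hK h h1)]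
    rfl

theorem eq_top_of_fix_le (hF : Group.IsNilpotent F) (hs : SRPair F H) {K : Type u} [Group K]
    [Finite K] {φ : A →* MulAut K} (hK : Group.IsSolvable K) (h : fixB φ F = ⊥) {N : Subgroup K}
    [N.Normal] (hN : Inv φ N) (hle : fixB φ H ≤ N) : N = ⊤ := by
  have h1 := eq_bot_of_fix hF hs inferInstance (fpf_quo hF hs hK h hN) (by
    rw [eq_bot_iff]
    intro x hx
    obtain ⟨y, hy⟩ := cover_quo hF hs hK h hN ⟨x, hx⟩
    have : ((y : K) : K ⧸ N) = x := congrArg Subtype.val hy
    rw [← this]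
    exact (QuotientGroup.eq_one_iff _).2 (hle y.2))
  rw [eq_top_iff]
  intro g _
  have : (g : K ⧸ N) ∈ (⊤ : Subgroup (K ⧸ N)) := mem_top _
  rw [h1] at this
  exact (QuotientGroup.eq_one_iff _).1 this

theorem pLength_fix (hF : Group.IsNilpotent F) (hs : SRPair F H) {p : ℕ} (hp : p.Prime)
    (K : Type u) [Group K] [Finite K] (φ : A →* MulAut K) (hK : Group.IsSolvable K)
    (h : fixB φ F = ⊥) (k : ℕ) : PLengthLE p k K ↔ PLengthLE p k (fixB φ H) := by
  obtain ⟨h1, h2⟩ := upper_fix hF hs hp K φ hK h (2 * k + 1)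
  change _ = ⊤ ↔ _ = ⊤
  rw [h2, subgroupOf_eq_top]
  exact ⟨fun e => e ▸ le_top, eq_top_of_fix_le hF hs hK h h1⟩

theorem chain_fix (hF : Group.IsNilpotent F) (hs : SRPair F H) (n : ℕ) (K : Type u) [Group K]
    [Finite K] (φ : A →* MulAut K) (hK : Group.IsSolvable K) (h : fixB φ F = ⊥) :
    Chain n K ↔ Chain n (fixB φ H) := by
  refine ⟨fun h1 => h1.subgroup _, fun h1 => ?_⟩
  induction n generalizing K with
  | zero =>
    obtain ⟨E, h0, h2, -⟩ := h1
    have h3 : (⊤ : Subgroup (fixB φ H)) = ⊥ := h2.symm.trans h0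
    have h4 := eq_bot_of_fix hF hs hK h (by
      rw [← range_subtype (fixB φ H), MonoidHom.range_eq_map, h3, Subgroup.map_bot])
    exact ⟨fun _ => ⊥, rfl, h4.symm, monotone_const, fun _ => normal_bot, fun i => i.elim0⟩
  | succ n ih =>
    haveI := H3.fitting_characteristic K
    have hN := inv_of_characteristic φ (fittingSubgroup K)
    refine Chain.cons (H3.fitting_isNilpotent K)
      (ih _ _ inferInstance (fpf_quo hF hs hK h hN) (h1.tail (cover_quo hF hs hK h hN) ?_))
    rw [ker_resQ, fitting_fix hF hs K φ hK h]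

end Solv

section Rows

variable {G : Type u} {A : Type*} [Group G] [Finite G] [Group A] [Finite A]
  [MulDistribMulAction A G] {Fk Hc : Subgroup A} [Fk.Normal]

theorem setup (hN : H53.FM.NilStmt.{u}) (hHc : IsFrobeniusComplement Hc)
    (hker : frobeniusKernel Hc = (Fk : Set A)) (hCF : ∀ g : G, (∀ f ∈ Fk, f • g = g) → g = 1) :
    Group.IsNilpotent Fk ∧ SRPair Fk Hc ∧ Group.IsSolvable G ∧
      fixB (MulDistribMulAction.toMulAut A G) Fk = ⊥ := by
  obtain ⟨N, hN1, -, hNnil⟩ := Cfsg.Agent.S0042.result Hc hHc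
  have hNF : N = Fk := SetLike.coe_injective (hN1.trans hker)
  subst hNF
  refine ⟨hNnil, ⟨fun h _ f hf => Subgroup.Normal.conj_mem inferInstance f hf h,
    fun h hh f hf e => ?_⟩, ?_, eq_bot_iff.2 fun g hg => hCF g hg⟩
  · by_contra hne
    push Not at hne
    have hc : Commute f h := by
      rw [mul_inv_eq_iff_eq_mul] at e
      exact e.symm
    have hfH := H5.frob_mem_of_commute hHc hh hne.1 hc
    exact hne.2 (H5.eq_one_of_mem_of_mem_frobeniusKernel hfH (hN1 ▸ hf))
  · exact hN G (N.map (MulDistribMulAction.toMulAut A G)) (H3.isNilpotent_map hNnil _)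
      fun g hg => hCF g fun f hf => hg ⟨_, f, hf, rfl⟩

omit [Finite G] [Finite A] in
theorem eq_fixB {C : Subgroup G} (hC : ∀ g : G, g ∈ C ↔ ∀ h ∈ Hc, h • g = g) :
    C = fixB (MulDistribMulAction.toMulAut A G) Hc := Subgroup.ext hC

variable (hN : H53.FM.NilStmt.{u}) (hHc : IsFrobeniusComplement Hc)
  (hker : frobeniusKernel Hc = (Fk : Set A)) (hCF : ∀ g : G, (∀ f ∈ Fk, f • g = g) → g = 1)
  (C : Subgroup G) (hC : ∀ g : G, g ∈ C ↔ ∀ h ∈ Hc, h • g = g)
include hN hHc hker hCF hC

theorem row4390 (π : Set ℕ) : piCore π ↥C = (piCore π G).subgroupOf C := by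
  obtain ⟨h1, h2, h3, h4⟩ := setup hN hHc hker hCF
  rw [eq_fixB hC]
  exact piCore_fix h1 h2 π G _ h3 h4

theorem row4389 : fittingSubgroup ↥C = (fittingSubgroup G).subgroupOf C := by
  obtain ⟨h1, h2, h3, h4⟩ := setup hN hHc hker hCF
  rw [eq_fixB hC]
  exact fitting_fix h1 h2 G _ h3 h4

theorem row4391 (p : ℕ) [hp : Fact p.Prime] (k : ℕ) : PLengthLE p k G ↔ PLengthLE p k ↥C := by
  obtain ⟨h1, h2, h3, h4⟩ := setup hN hHc hker hCF
  rw [eq_fixB hC]
  exact pLength_fix h1 h2 hp.out G _ h3 h4 k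

theorem row4362 (n : ℕ) : Chain n G ↔ Chain n ↥C := by
  obtain ⟨h1, h2, h3, h4⟩ := setup hN hHc hker hCF
  rw [eq_fixB hC]
  exact chain_fix h1 h2 n G _ h3 h4

end Rows

end Cfsg.Agent.H91.FB
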