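import Cfsg.Agent.H92.FrobAut

/-!
Frobenius groups of automorphisms with fixed-point-free kernel: the module lemma.
If `F H` acts on `V Q` with `C_Q(F) = 1`, then an element of `C_Q(H)` centralizing `C_V(H)`
centralizes `V`.
-/

set_option autoImplicit false
set_option linter.style.haveILetI false

namespace Cfsg.Agent.H91.FB

open Subgroup Cfsg.Agent.H4.Ext Cfsg.Agent.H92
open scoped IsMulCommutative Pointwise commutatorElement

section Pair

variable {A : Type*} [Group A] [Finite A] {F H : Subgroup A}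

theorem comm_surj (hs : SRPair F H) {h : A} (hh : h ∈ H) (h1 : h ≠ 1) {S : Subgroup A}
    (hS : S ≤ F) (hn : ∀ s ∈ S, h * s * h⁻¹ ∈ S) {x : A} (hx : x ∈ S) :
    ∃ s ∈ S, s⁻¹ * (h * s * h⁻¹) = x := by
  let e : S → S := fun s => ⟨(s : A)⁻¹ * (h * s * h⁻¹), mul_mem (inv_mem s.2) (hn s s.2)⟩
  have he : Function.Injective e := by
    intro s t hst
    have e1 : (s : A)⁻¹ * (h * s * h⁻¹) = (t : A)⁻¹ * (h * t * h⁻¹) := congrArg Subtype.val hst
    have e2 : h * ((t : A) * (s : A)⁻¹) * h⁻¹ = t * (s : A)⁻¹ := by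
      calc h * ((t : A) * (s : A)⁻¹) * h⁻¹
          = t * ((t : A)⁻¹ * (h * t * h⁻¹)) * (h * (s : A)⁻¹ * h⁻¹) := by group
        _ = t * (s : A)⁻¹ := by rw [← e1]; group
    rcases hs.free h hh _ (hS (mul_mem t.2 (inv_mem s.2))) e2 with e3 | e3
    · exact absurd e3 h1
    · exact Subtype.ext (mul_inv_eq_one.mp e3).symm
  obtain ⟨s, hs'⟩ := Finite.injective_iff_surjective.mp he ⟨x, hx⟩
  exact ⟨s, s.2, congrArg Subtype.val hs'⟩

theorem coprime_card [F.Normal] (hs : SRPair F H) : (Nat.card H).Coprime (Nat.card F) := by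
  rw [H67.coprime_iff_no_common_prime]
  intro p hp h1 h2
  haveI : Fact p.Prime := ⟨hp⟩
  obtain ⟨h, hh, ho⟩ := H67.exists_orderOf_eq_prime hp h1
  have hz : IsPGroup p (zpowers h) := by
    rw [IsPGroup.iff_card]; exact ⟨1, by rw [Nat.card_zpowers, ho, pow_one]⟩
  have h3 := card_modEq_fixB (MulAut.conj : A →* MulAut A) hz (C := F)
    (fun a f hf => Normal.conj_mem inferInstance f hf a)
  have h4 : F ⊓ fixB (MulAut.conj : A →* MulAut A) (zpowers h) = ⊥ := by
    rw [eq_bot_iff]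
    intro f hf
    rcases hs.free h hh f hf.1 (hf.2 h (mem_zpowers h)) with e | e
    · rw [e, orderOf_one] at ho
      exact absurd ho hp.one_lt.ne
    · exact e
  rw [h4, card_bot] at h3
  exact hp.one_lt.ne' (Nat.dvd_one.mp ((h3.dvd_iff dvd_rfl).mp h2))

variable {X : Type*} [MulAction A X]

theorem fix_unique (hs : SRPair F H) {h : A} (hh : h ∈ H) (h1 : h ≠ 1) {x : X} (hx : h • x = x)
    {f : A} (hf : f ∈ F) (hfx : h • f • x = f • x) : f • x = x := by
  have hx' : h⁻¹ • x = x := by rw [inv_smul_eq_iff, hx]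
  obtain ⟨s, hs1, e⟩ := comm_surj hs hh h1 (S := F ⊓ MulAction.stabilizer A x) inf_le_left
    (fun s hs1 => mem_inf.2 ⟨hs.norm h hh s hs1.1, by
      have : s • x = x := hs1.2
      rw [MulAction.mem_stabilizer_iff, mul_smul, mul_smul, hx', this, hx]⟩)
    (x := f⁻¹ * (h * f * h⁻¹)) (mem_inf.2 ⟨mul_mem (inv_mem hf) (hs.norm h hh f hf), by
      rw [MulAction.mem_stabilizer_iff, mul_smul, mul_smul, mul_smul, hx', hfx, inv_smul_smul]⟩)
  have e2 : h * (f * s⁻¹) * h⁻¹ = f * s⁻¹ := by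
    calc h * (f * s⁻¹) * h⁻¹ = f * (f⁻¹ * (h * f * h⁻¹)) * (h * s⁻¹ * h⁻¹) := by group
      _ = f * s⁻¹ := by rw [← e]; group
  rcases hs.free h hh _ (mul_mem hf (inv_mem hs1.1)) e2 with e3 | e3
  · exact absurd e3 h1
  · rw [mul_inv_eq_one.mp e3]; exact hs1.2

theorem orbit_unique [hFn : F.Normal] (hF : Group.IsNilpotent F) (hs : SRPair F H) {x : X}
    {h h' f : A} (hh : h ∈ H) (h1 : h ≠ 1) (hx : h • x = x) (hh' : h' ∈ H) (h1' : h' ≠ 1)
    (hf : f ∈ F) (hfx : h' • f • x = f • x) : f • x = x := by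
  let T : Subgroup A :=
    { carrier := {a | a ∈ H ∧ ∃ g ∈ F, a • x = g • x}
      one_mem' := ⟨one_mem _, 1, one_mem _, rfl⟩
      mul_mem' := by
        rintro a b ⟨ha, g, hg, e⟩ ⟨hb, k, hk, e'⟩
        refine ⟨mul_mem ha hb, a * k * a⁻¹ * g, mul_mem (hFn.conj_mem k hk a) hg, ?_⟩
        rw [mul_smul, e', mul_smul, ← e, mul_smul, mul_smul, inv_smul_smul]
      inv_mem' := by
        rintro a ⟨ha, g, hg, e⟩
        refine ⟨inv_mem ha, a⁻¹ * g⁻¹ * a⁻¹⁻¹, hFn.conj_mem _ (inv_mem hg) _, ?_⟩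
        rw [inv_inv, mul_smul, mul_smul, e, inv_smul_smul] }
  have hTH : T ≤ H := fun a ha => ha.1
  obtain ⟨k, hk⟩ := exists_fixed_in_orbit (A := T) (K := F) (X := X)
    ((MulAut.conjNormal (H := F)).comp T.subtype)
    (fun a k y => by
      change (a : A) • (k : A) • y = ((a : A) * k * (a : A)⁻¹) • (a : A) • y
      rw [mul_smul, mul_smul, inv_smul_smul])
    ((coprime_card hs).coprime_dvd_left (card_dvd_of_le hTH)) (Or.inr inferInstance) (x := x)
    (fun a => by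
      obtain ⟨g, hg, e⟩ := a.2.2
      exact ⟨⟨g, hg⟩, e⟩)
  have hT : h ∈ T := ⟨hh, 1, one_mem _, by rw [hx, one_smul]⟩
  have hT' : h' ∈ T := by
    refine ⟨hh', h' * f⁻¹ * h'⁻¹ * f, mul_mem (hFn.conj_mem _ (inv_mem hf) _) hf, ?_⟩
    rw [mul_smul, ← hfx, mul_smul, mul_smul, inv_smul_smul, inv_smul_smul]
  have e1 : (k : A) • x = x := fix_unique hs hh h1 hx k.2 (hk ⟨h, hT⟩)
  have e2 : h' • (k : A) • x = (k : A) • x := hk ⟨h', hT'⟩
  rw [e1] at e2
  exact fix_unique hs hh' h1' e2 hf hfx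

end Pair

theorem mem_of_orbit {Γ U : Type*} [Group Γ] [Finite Γ] [CommGroup U] (γ : Γ →* MulAut U)
    (hf : ∀ u, (∀ g, γ g u = u) → u = 1) (M : Subgroup U) {z : U}
    (h : ∀ g, γ g z = z ∨ γ g z ∈ M) : z ∈ M := by
  classical
  letI := Fintype.ofFinite Γ
  let O : Finset U := Finset.univ.image fun g : Γ => γ g z
  have hO : ∀ x, x ∈ O ↔ ∃ g, γ g z = x := by
    intro x; simp [O]
  have h1 : ∏ x ∈ O, x = 1 := by
    refine hf _ fun b => ?_
    rw [map_prod]
    refine Finset.prod_bijective (γ b) (γ b).bijective (fun x => ?_) (fun _ _ => rfl)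
    rw [hO, hO]
    constructor
    · rintro ⟨c, rfl⟩
      exact ⟨b * c, by simp⟩
    · rintro ⟨c, e⟩
      exact ⟨b⁻¹ * c, by simp [e]⟩
  rw [← Finset.mul_prod_erase O _ ((hO z).2 ⟨1, by simp⟩)] at h1
  rw [eq_inv_of_mul_eq_one_left h1]
  refine inv_mem (M.prod_mem fun x hx => ?_)
  obtain ⟨hx1, hx2⟩ := Finset.mem_erase.mp hx
  obtain ⟨g, rfl⟩ := (hO x).1 hx2
  exact (h g).resolve_left hx1

section Key

variable {A Q V : Type*} [Group A] [Finite A] [Group Q] [Finite Q] [CommGroup V] [Finite V]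
  {α : A →* MulAut V} {β : A →* MulAut Q} {ρ : Q →* MulAut V} {F H : Subgroup A}

omit [Finite V] in
theorem nm_normal (ρ : Q →* MulAut V) (B : Subgroup Q) [hB : B.Normal] (g : Q) (v : V) :
    ρ g (nm ρ B v) = nm ρ B (ρ g v) := by
  letI := Fintype.ofFinite B
  rw [nm_apply, nm_apply, map_prod]
  refine Fintype.prod_equiv (MulAut.conjNormal g : MulAut B).toEquiv _ _ fun b => ?_
  change ρ g (ρ b v) = ρ (g * b * g⁻¹) (ρ g v)
  simp

/-- The fixed points of a single element. -/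
def fx (ρ : Q →* MulAut V) (c : Q) : Subgroup V :=
  (ρ c).toMonoidHom.eqLocus (MonoidHom.id V)

omit [Finite Q] [Finite V] in
theorem mem_fx {c : Q} {v : V} : v ∈ fx ρ c ↔ ρ c v = v := Iff.rfl

/-- `c` moves a fixed point of the normal subgroup `K`. -/
def Good (ρ : Q →* MulAut V) (c : Q) (K : Subgroup Q) : Prop :=
  K.Normal ∧ ¬ fixB ρ K ≤ fx ρ c

/-- `K` is good of largest order. -/
def Best (ρ : Q →* MulAut V) (c : Q) (K : Subgroup Q) : Prop :=
  Good ρ c K ∧ ∀ K', Good ρ c K' → Nat.card K' ≤ Nat.card K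

/-- The stabilizer of a subgroup. -/
def stb (β : A →* MulAut Q) (Y : Subgroup Q) : Subgroup A where
  carrier := {a | ∀ y, y ∈ Y ↔ β a y ∈ Y}
  one_mem' := by simp
  mul_mem' := fun {a b} ha hb y => by
    rw [map_mul, MulAut.mul_apply, ← ha, ← hb]
  inv_mem' := fun {a} ha y => by
    rw [ha (β a⁻¹ y)]; simp

variable {c : Q} {K : Subgroup Q}

omit [Finite V] in
theorem Best.le_fx (hK : Best ρ c K) {K' : Subgroup Q} [K'.Normal] (h : ¬ K' ≤ K) :
    fixB ρ K ⊓ fixB ρ K' ≤ fx ρ c := by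
  by_contra hne
  haveI := hK.1.1
  have := hK.2 (K ⊔ K') ⟨inferInstance, by rwa [fixB_sup]⟩
  exact h (le_sup_right.trans (eq_of_le_of_card_ge le_sup_left this).ge)

omit [Finite A] [Finite Q] in
theorem mem_smul {a : A} {x : Q} : x ∈ β a • K ↔ β a⁻¹ x ∈ K := by
  rw [mem_pointwise_smul_iff_inv_smul_mem, map_inv]; rfl

omit [Finite A] [Finite Q] in
theorem normal_smul [hK : K.Normal] (a : A) : (β a • K).Normal :=
  hK.map (MulDistribMulAction.toMonoidEnd _ _ (β a)) (β a).surjective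

omit [Finite A] [Finite Q] in
theorem card_smul (a : A) : Nat.card (β a • K : Subgroup Q) = Nat.card K :=
  card_map_of_injective (β a).injective

omit [Finite A] [Finite Q] [Finite V] in
theorem smul_mem_fixB (hcomp : ∀ a u v, α a (ρ u v) = ρ (β a u) (α a v)) (a : A) {w : V}
    (hw : w ∈ fixB ρ K) : α a w ∈ fixB ρ (β a • K) := by
  intro y hy
  have h2 : β a (β a⁻¹ y) = y := by simp
  rw [← h2, ← hcomp, hw _ (mem_smul.1 hy)]

theorem Best.exists_stab (hcomp : ∀ a u v, α a (ρ u v) = ρ (β a u) (α a v))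
    (hcop : (Nat.card Q).Coprime (Nat.card V)) (hcV : fixB α H ≤ fx ρ c) (hK : Best ρ c K) :
    ∃ h ∈ H, h ≠ 1 ∧ β h • K = K := by
  classical
  by_contra hne
  push Not at hne
  haveI := hK.1.1
  apply hK.1.2
  intro w hw
  letI := Fintype.ofFinite H
  have h1 : nm ρ K (nm α H w) ∈ fx ρ c := by
    have : ρ c (nm α H w) = nm α H w := hcV fun h hh => nm_fixed α hh w
    rw [mem_fx, nm_normal, this]
  rw [nm_apply α, map_prod, ← Finset.mul_prod_erase _ _ (Finset.mem_univ (1 : H))] at h1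
  have h2 : ∏ x ∈ Finset.univ.erase (1 : H), nm ρ K (α x w) ∈ fx ρ c := by
    refine prod_mem fun h hh => ?_
    have hh1 : (h : A) ≠ 1 := fun e => (Finset.mem_erase.mp hh).1 (Subtype.ext e)
    haveI := normal_smul (β := β) (K := K) h
    refine hK.le_fx (K' := β h • K)
      (fun hle => hne h h.2 hh1 (eq_of_le_of_card_ge hle (card_smul _).ge))
      (mem_inf.2 ⟨fun k hk => nm_fixed ρ hk _, fun k hk => ?_⟩)
    rw [nm_normal, smul_mem_fixB hcomp h hw k hk]
  have h3 := (mul_mem_cancel_right h2).1 h1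
  rw [OneMemClass.coe_one, map_one, MulAut.one_apply, nm_of_fixed ρ hw] at h3
  exact mem_of_pow_mem (hcop.coprime_dvd_left (card_subgroup_dvd_card K)) h3

omit [Finite V] in
theorem Best.ker_eq (hK : Best ρ c K) [K.Normal] :
    (resAut ρ (fixB ρ K) (inv_fixB ρ K)).ker = K := by
  have h1 : K ≤ (resAut ρ (fixB ρ K) (inv_fixB ρ K)).ker := fun k hk => by
    rw [MonoidHom.mem_ker]
    ext w
    exact w.2 k hk
  refine (eq_of_le_of_card_ge h1 (hK.2 _ ⟨inferInstance, fun hle => hK.1.2 fun w hw => hle ?_⟩)).symm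
  intro x hx
  rw [MonoidHom.mem_ker] at hx
  have := congrArg (fun σ : MulAut (fixB ρ K) => (σ ⟨w, hw⟩ : V)) hx
  exact this

theorem Best.isCyclic (hcop : (Nat.card Q).Coprime (Nat.card V)) (hK : Best ρ c K) [K.Normal] :
    IsCyclic (center (Q ⧸ K)) := by
  by_contra hnc
  let σ := resAut ρ (fixB ρ K) (inv_fixB ρ K)
  let τ : Q ⧸ K →* MulAut (fixB ρ K) := QuotientGroup.lift K σ hK.ker_eq.ge
  have h1 := le_of_fixed_le (τ.comp (center (Q ⧸ K)).subtype) hnc (H := ⊤)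
    (M := (fx ρ c).subgroupOf (fixB ρ K)) (inv_top _)
    ((hcop.coprime_dvd_left ((card_subgroup_dvd_card _).trans (card_quotient_dvd_card K))).coprime_dvd_right
      ((card_subgroup_dvd_card _).trans (card_subgroup_dvd_card _)))
    (fun a ha w _ hw => by
      haveI : (zpowers (a : Q ⧸ K)).Normal := H3.normal_of_le_center (zpowers_le.2 a.2)
      refine hK.le_fx (K' := (zpowers (a : Q ⧸ K)).comap (QuotientGroup.mk' K)) (fun hle => ha ?_)
        (mem_inf.2 ⟨w.2, fun x hx => ?_⟩)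
      · obtain ⟨z, hz⟩ := QuotientGroup.mk'_surjective K a
        apply Subtype.ext
        rw [← hz]
        exact (QuotientGroup.eq_one_iff z).2 (hle (by rw [mem_comap, hz]; exact mem_zpowers _))
      · have h2 : zpowers (a : Q ⧸ K) ≤ (MulAction.stabilizer (MulAut (fixB ρ K)) w).comap τ :=
          zpowers_le.2 hw
        exact congrArg Subtype.val (h2 hx))
  exact hK.1.2 fun w hw => h1 (mem_top (⟨w, hw⟩ : fixB ρ K))

theorem Best.mem_smul_of_ne [F.Normal] (hF : Group.IsNilpotent F) (hs : SRPair F H)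
    (hcomp : ∀ a u v, α a (ρ u v) = ρ (β a u) (α a v))
    (hcop : (Nat.card Q).Coprime (Nat.card V)) (hcV : fixB α H ≤ fx ρ c) (hK : Best ρ c K)
    {f : A} (hf : f ∈ F) (hne : β f • K ≠ K) : β f⁻¹ c ∈ K := by
  haveI := hK.1.1
  letI : MulAction A (Subgroup Q) := MulAction.compHom _ β
  by_cases hg : Good ρ c (β f • K)
  · obtain ⟨h, hh, h1, e⟩ := hK.exists_stab hcomp hcop hcV
    obtain ⟨h', hh', h1', e'⟩ := Best.exists_stab (K := β f • K) hcomp hcop hcV
      ⟨hg, fun K' hK' => (hK.2 K' hK').trans (card_smul f).ge⟩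
    exact absurd (orbit_unique (X := Subgroup Q) hF hs hh h1 e hh' h1' hf e') hne
  · have h1 : fixB ρ (β f • K) ≤ fx ρ c := by
      by_contra h
      exact hg ⟨normal_smul f, h⟩
    rw [← hK.ker_eq, MonoidHom.mem_ker]
    ext w
    have h2 : ρ c (α f w) = α f w := h1 (smul_mem_fixB hcomp f w.2)
    apply (α f).injective
    change α f (ρ (β f⁻¹ c) w) = α f w
    rw [hcomp, ← h2]
    simp [h2]

omit [Finite Q] in
theorem cent_of_isCyclic (hs : SRPair F H) [K.Normal] (hc : IsCyclic (center (Q ⧸ K))) {h : A}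
    (hh : h ∈ H) (h1 : h ≠ 1) (hK : h ∈ stb β K) {f : A} (hf : f ∈ F ⊓ stb β K) {z : Q}
    (hz : ∀ g : Q, ⁅g, z⁆ ∈ K) : z⁻¹ * β f z ∈ K := by
  obtain ⟨s, hs1, rfl⟩ := comm_surj hs hh h1 (S := F ⊓ stb β K) inf_le_left
    (fun s hs1 => mem_inf.2 ⟨hs.norm h hh s hs1.1, mul_mem (mul_mem hK hs1.2) (inv_mem hK)⟩) hf
  have hI : Inv (β.comp (stb β K).subtype) K := fun a x hx => (a.2 x).1 hx
  let τ := resAut (quoAut _ K hI) (center (Q ⧸ K)) (inv_of_characteristic _ _)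
  have hcomm : ∀ x y : MulAut (center (Q ⧸ K)), x * y = y * x := fun x y =>
    (IsCyclic.mulAutMulEquiv (center (Q ⧸ K))).injective (by rw [map_mul, map_mul, mul_comm])
  have h2 : τ ⟨_, hf.2⟩ = 1 := by
    have : (⟨_, hf.2⟩ : stb β K) = (⟨s, hs1.2⟩ : stb β K)⁻¹ *
        ((⟨h, hK⟩ : stb β K) * ⟨s, hs1.2⟩ * (⟨h, hK⟩ : stb β K)⁻¹) := rfl
    rw [this, map_mul, map_mul, map_mul, hcomm (τ ⟨h, hK⟩), map_inv, map_inv]
    group
  have hzc : (z : Q ⧸ K) ∈ center (Q ⧸ K) := by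
    rw [mem_center_iff]
    intro g
    obtain ⟨g, rfl⟩ := QuotientGroup.mk'_surjective K g
    rw [← commutatorElement_eq_one_iff_mul_comm]
    exact (QuotientGroup.eq_one_iff _).2 (hz g)
  have h3 := congrArg (fun σ : MulAut (center (Q ⧸ K)) => (σ ⟨z, hzc⟩ : Q ⧸ K)) h2
  exact QuotientGroup.eq.mp h3.symm

/-- The module lemma. -/
theorem key [F.Normal] (hF : Group.IsNilpotent F) (hs : SRPair F H)
    (hcomp : ∀ a u v, α a (ρ u v) = ρ (β a u) (α a v)) {q : ℕ} [Fact q.Prime] (hQ : IsPGroup q Q)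
    (hcop : (Nat.card Q).Coprime (Nat.card V)) (hfix : fixB β F = ⊥)
    (hcV : ∀ v ∈ fixB α H, ρ c v = v) (v : V) : ρ c v = v := by
  by_contra hv
  obtain ⟨K, hK1, hK2⟩ := Set.Finite.exists_maximalFor (fun K : Subgroup Q => Nat.card K)
    {K | Good ρ c K} (Set.toFinite _)
    ⟨⊥, inferInstance, fun h => hv (h fun b hb => by rw [mem_bot.1 hb]; simp)⟩
  have hK : Best ρ c K := ⟨hK1, fun K' hK' => by
    by_contra h
    exact h (hK2 hK' (not_le.1 h).le)⟩
  haveI hKn := hK1.1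
  have hst : ∀ a, a ∈ stb β K ↔ β a • K = K := fun a => by
    refine ⟨fun ha => ?_, fun ha x => ?_⟩
    · ext x
      rw [mem_smul]
      exact ((inv_mem ha) x).symm
    · conv_rhs => rw [← ha, mem_smul]
      simp
  let L : Subgroup Q :=
    { carrier := {x | ∀ f ∈ F, f ∉ stb β K → β f x ∈ K}
      one_mem' := fun f _ _ => by simp
      mul_mem' := fun {x y} hx hy f hf hf' => by
        rw [map_mul]; exact mul_mem (hx f hf hf') (hy f hf hf')
      inv_mem' := fun {x} hx f hf hf' => by rw [map_inv]; exact inv_mem (hx f hf hf') }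
  haveI : L.Normal := ⟨fun x hx g f hf hf' => by
    rw [map_mul, map_mul, map_inv]; exact hKn.conj_mem _ (hx f hf hf') _⟩
  have hLs : ∀ f ∈ F ⊓ stb β K, ∀ x ∈ L, β f x ∈ L := fun f hf x hx g hg hg' => by
    rw [← MulAut.mul_apply, ← map_mul]
    exact hx _ (mul_mem hg hf.1) fun h => hg' (((stb β K).mul_mem_cancel_right hf.2).1 h)
  have hcL : c ∈ L := fun f hf hf' => by
    have := hK.mem_smul_of_ne hF hs hcomp hcop hcV (inv_mem hf)
      (fun e => hf' (inv_mem_iff.1 ((hst _).2 e)))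
    rwa [inv_inv] at this
  have hcK : c ∉ K := fun h => hK1.2 fun w hw => hw c h
  have hD : Inv (β.comp F.subtype) (L ⊓ K) := by
    have h1 : ∀ x, x ∈ L ⊓ K ↔ ∀ f ∈ F, β f x ∈ K := fun x => by
      refine ⟨fun hx f hf => ?_, fun hx => mem_inf.2 ⟨fun f hf _ => hx f hf, by
        simpa using hx 1 (one_mem _)⟩⟩
      by_cases h : f ∈ stb β K
      · exact (h x).1 hx.2
      · exact hx.1 f hf h
    intro f x hx
    rw [h1] at hx ⊢
    intro g hg
    have := hx (g * f) (mul_mem hg f.2)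
    rwa [map_mul] at this
  haveI := hQ.isNilpotent
  obtain ⟨z, hzL, hzD, hz⟩ := H3.exists_central_mod (N := L ⊓ K) (C := L)
    fun h => hcK (h hcL).2
  obtain ⟨h, hh, h1, e⟩ := hK.exists_stab hcomp hcop hcV
  have hzc : (z : Q ⧸ (L ⊓ K)) ∈ center (Q ⧸ (L ⊓ K)) := by
    rw [mem_center_iff]
    intro g
    obtain ⟨g, rfl⟩ := QuotientGroup.mk'_surjective _ g
    rw [← commutatorElement_eq_one_iff_mul_comm]
    exact (QuotientGroup.eq_one_iff _).2 (hz g)
  haveI : Group.IsNilpotent (⊤ : Subgroup F) := inferInstance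
  have hq := fpf_quoAut (φ := β.comp F.subtype) (F := ⊤) inferInstance hD (hQ.to_subgroup _) (by
    rw [eq_bot_iff, ← hfix]
    exact fun x hx f hf => hx ⟨f, hf⟩ (mem_top _))
  have h2 := mem_of_orbit (resAut (quoAut _ _ hD) (center _) (inv_of_characteristic _ _))
    (fun u hu => by
      apply Subtype.ext
      have : (u : Q ⧸ (L ⊓ K)) ∈ fixB (quoAut _ _ hD) ⊤ :=
        fun g _ => congrArg Subtype.val (hu g)
      rwa [hq] at this)
    ((K.map (QuotientGroup.mk' (L ⊓ K))).subgroupOf (center _)) (z := ⟨z, hzc⟩)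
    (fun f => by
      by_cases hf : (f : A) ∈ stb β K
      · left
        apply Subtype.ext
        refine (QuotientGroup.eq.mpr (mem_inf.2 ⟨?_, ?_⟩)).symm
        · exact mul_mem (inv_mem hzL) (hLs f ⟨f.2, hf⟩ z hzL)
        · exact cent_of_isCyclic hs (hK.isCyclic hcop) hh h1 ((hst h).2 e) ⟨f.2, hf⟩
            fun g => (hz g).2
      · right
        exact ⟨β f z, hzL f f.2 hf, rfl⟩)
  obtain ⟨k, hk, e'⟩ := h2
  have h3 : k⁻¹ * z ∈ L ⊓ K := QuotientGroup.eq.mp e'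
  exact hzD (mem_inf.2 ⟨hzL, (mul_mem_cancel_left (inv_mem hk)).1 h3.2⟩)

end Key

end Cfsg.Agent.H91.FB
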