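import Mathlib
import Cfsg.Agent.H78.G40A

/-! Elementary abelian Sylow subgroups with distinguished four-groups. -/

set_option autoImplicit false
set_option linter.unusedSectionVars false

namespace Cfsg.Agent.H91.G40Prk

open Subgroup Cfsg.Agent.H83 Cfsg.Agent.H78.G40

universe u

local notation "C[" A "]" => Subgroup.centralizer (SetLike.coe A)
local notation "N[" A "]" => Subgroup.normalizer (SetLike.coe A)

variable {G : Type u} [Group G] [Finite G]

theorem four {V : Subgroup G} (h : Nat.card V = 4) {a b g : G} (ha : a ∈ V) (hb : b ∈ V)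
    (a1 : a ≠ 1) (b1 : b ≠ 1) (ab : a ≠ b) (ga : Commute a g) (gb : Commute b g) : g ∈ C[V] := by
  have h1 : Nat.card ↥(V ⊓ Cz g) ∣ 4 := h ▸ card_dvd_of_le inf_le_left
  have h2 : 3 ≤ Nat.card ↥(V ⊓ Cz g) := by
    rw [← Set.ncard_eq_three.2 ⟨1, a, b, a1.symm, b1.symm, ab, rfl⟩]
    refine Set.ncard_le_ncard (t := ((V ⊓ Cz g : Subgroup G) : Set G)) ?_
    rintro x (rfl | rfl | rfl)
    · exact one_mem _
    · exact ⟨ha, mem_centralizer_singleton_iff.2 ga⟩
    · exact ⟨hb, mem_centralizer_singleton_iff.2 gb⟩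
  have h3 : V ⊓ Cz g = V := eq_of_le_of_card_ge inf_le_left (by
    have := Nat.le_of_dvd (by norm_num) h1
    rw [h]
    by_contra hc
    rw [show Nat.card ↥(V ⊓ Cz g) = 3 by omega] at h1
    norm_num at h1)
  intro x hx
  exact mem_centralizer_singleton_iff.1 (h3.ge hx).2

theorem sq_cent {V : Subgroup G} (h : Nat.card V = 4) {q g : G} (hq : q ∈ V) (q1 : q ≠ 1)
    (gq : Commute q g) (hg : g ∈ N[V]) : g * g ∈ C[V] := by
  have hV : (V : Set G).ncard = 4 := h
  obtain ⟨b, hb, hn⟩ : ∃ b ∈ V, b ∉ ({1, q} : Set G) := by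
    by_contra! hc
    have := Set.ncard_le_ncard (show (V : Set G) ⊆ {1, q} from hc)
    rw [hV, Set.ncard_pair q1.symm] at this
    omega
  have b1 : b ≠ 1 := fun e => hn (Or.inl e)
  have bq : b ≠ q := fun e => hn (Or.inr e)
  have gqg : g * q * g⁻¹ = q := by rw [← gq.eq, mul_inv_cancel_right]
  have inj : ∀ x y : G, g * x * g⁻¹ = g * y * g⁻¹ → x = y := fun x y e => by simpa using e
  have n1 : ∀ x : G, x ≠ 1 → g * x * g⁻¹ ≠ 1 := fun x hx e => hx (inj _ _ (by rw [e]; simp))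
  have nq : ∀ x : G, x ≠ q → g * x * g⁻¹ ≠ q := fun x hx e => hx (inj _ _ (by rw [e, gqg]))
  have mV : ∀ x ∈ V, g * x * g⁻¹ ∈ V := fun x hx => (mem_normalizer_iff.1 hg x).1 hx
  refine four h hq hb q1 b1 bq.symm (gq.mul_right gq) ?_
  by_cases e : g * b * g⁻¹ = b
  · have : Commute b g := (mul_inv_eq_iff_eq_mul.1 e).symm
    exact this.mul_right this
  · have hs : ({1, q, b, g * b * g⁻¹} : Set G) = V := by
      refine Set.eq_of_subset_of_ncard_le ?_ ?_
      · rintro x (rfl | rfl | rfl | rfl)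
        exacts [one_mem _, hq, hb, mV b hb]
      · rw [hV, Set.ncard_insert_of_notMem (by
          simp only [Set.mem_insert_iff, Set.mem_singleton_iff, not_or]
          exact ⟨q1.symm, b1.symm, (n1 b b1).symm⟩),
          Set.ncard_eq_three.2 ⟨q, b, _, bq.symm, (nq b bq).symm, Ne.symm e, rfl⟩]
    have hm : g * (g * b * g⁻¹) * g⁻¹ ∈ ({1, q, b, g * b * g⁻¹} : Set G) := hs ▸ mV _ (mV b hb)
    rcases hm with e' | e' | e' | e'
    · exact absurd e' (n1 _ (n1 b b1))
    · exact absurd e' (nq _ (nq b bq))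
    · calc b * (g * g) = g * (g * b * g⁻¹) * g⁻¹ * (g * g) := by rw [e']
        _ = g * g * b := by group
    · exact absurd (inj _ _ e') e

theorem odd_pow {A N : Subgroup G} (h : IsSylowIn 2 A N) {n : G} (hn : n ∈ N) (ha : n ∈ N[A]) :
    ∃ k, n ^ (2 * k + 1) ∈ A := by
  obtain ⟨k, m, ⟨l, rfl⟩, e⟩ := Nat.exists_eq_two_pow_mul_odd (orderOf_pos n).ne'
  refine ⟨l, h.mem_of_norm (pow_mem hn _) (k := k) ?_ (pow_mem ha _)⟩
  rw [← pow_mul, mul_comm, ← e, pow_orderOf_eq_one]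

variable {ι : Type} [DecidableEq ι] {N A U : Subgroup G} {S : Finset ι} {Q : ι → Subgroup G}
  {κ : ι → G} {τ : G}

/-- the product of the four-groups -/
abbrev W (Q : ι → Subgroup G) (T : Finset ι) : Subgroup G := ⨆ i ∈ T, Q i

theorem W_le {T : Finset ι} {K : Subgroup G} (h : ∀ i ∈ T, Q i ≤ K) : W Q T ≤ K := iSup₂_le h

theorem le_W {T : Finset ι} {i : ι} (h : i ∈ T) : Q i ≤ W Q T := le_iSup₂_of_le i h le_rfl

theorem W_conj {T : Finset ι} {g : G} (h : ∀ i ∈ T, g ∈ N[Q i]) {d : G} (hd : d ∈ W Q T) :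
    g * d * g⁻¹ ∈ W Q T :=
  W_le (K := (W Q T).comap (MulAut.conj g).toMonoidHom)
    (fun i hi x hx => le_W hi ((mem_normalizer_iff.1 (h i hi) x).1 hx)) hd

theorem W_empty {x : G} (h : x ∈ W Q ∅) : x = 1 := by simpa [W] using h

variable (D : PrD N A U S Q κ τ)
include D

theorem cm {x y : G} (hx : x ∈ A) (hy : y ∈ A) : Commute x y :=
  calc x * y = (x * y)⁻¹ := eq_inv_of_mul_eq_one_left (D.el _ (mul_mem hx hy))
    _ = y * x := by
      rw [mul_inv_rev, ← eq_inv_of_mul_eq_one_left (D.el x hx),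
        ← eq_inv_of_mul_eq_one_left (D.el y hy)]

theorem WA {T : Finset ι} (hT : T ⊆ S) : W Q T ≤ A := W_le fun i hi => D.QA i (hT hi)

theorem Wk {T : Finset ι} (hT : T ⊆ S) {i : ι} (hi : i ∈ S) (hn : i ∉ T) {d : G}
    (hd : d ∈ W Q T) : Commute d (κ i) :=
  mem_centralizer_singleton_iff.1 (W_le (K := Cz (κ i)) (fun j hj x hx =>
    mem_centralizer_singleton_iff.2 (D.κc i hi j (hT hj) (fun e => hn (e ▸ hj)) x hx)) hd)

theorem dec {T : Finset ι} (hT : T ⊆ S) {i : ι} (hi : i ∈ S) {c : G} (hc : c ∈ W Q (insert i T)) :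
    ∃ q ∈ Q i, ∃ d ∈ W Q T, q * d = c := by
  rw [W, Finset.iSup_insert] at hc
  exact (mem_sup_right_norm (le_norm_of_le_cent fun x hx y hy =>
    (cm D (WA D hT hy) (D.QA i hi hx)).eq)).1 hc

theorem comp {i : ι} (hi : i ∈ S) {c : G} (hc : c ∈ W Q S) :
    ∃ q ∈ Q i, ∃ d ∈ W Q (S.erase i), q * d = c :=
  dec D (S.erase_subset i) hi (by rwa [Finset.insert_erase hi])

theorem fix {T : Finset ι} (hT : T ⊆ S) {i : ι} (hi : i ∈ S) (hn : i ∉ T) {q d g : G}
    (hq : q ∈ Q i) (hd : d ∈ W Q T) (hg : ∀ j ∈ S, g ∈ N[Q j]) (h : Commute (q * d) g) :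
    Commute q g := by
  have e : q⁻¹ * (g * q * g⁻¹) = d * (g * d * g⁻¹)⁻¹ :=
    calc q⁻¹ * (g * q * g⁻¹) = q⁻¹ * (g * (q * d)) * d⁻¹ * g⁻¹ := by group
      _ = d * (g * d * g⁻¹)⁻¹ := by rw [← h.eq]; group
  have := D.κ3 i hi _ (mul_mem (inv_mem hq) ((mem_normalizer_iff.1 (hg i hi) q).1 hq)) (by
    rw [e]
    exact (Wk D hT hi hn (mul_mem hd (inv_mem (W_conj (fun j hj => hg j (hT hj)) hd)))).symm)
  exact mul_inv_eq_iff_eq_mul.1 (inv_mul_eq_one.1 this).symm |>.symm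

theorem zer {T : Finset ι} (hT : T ⊆ S) {x : G} (hx : x ∈ W Q T)
    (h : ∀ j ∈ T, Commute x (κ j)) : x = 1 := by
  induction T using Finset.induction_on generalizing x with
  | empty => exact W_empty hx
  | insert i T hn ih =>
    have hT' := (Finset.subset_insert i T).trans hT
    have hi := hT (Finset.mem_insert_self i T)
    obtain ⟨q, hq, d, hd, rfl⟩ := dec D hT' hi hx
    have : Commute q (κ i) := by
      simpa using (h i (Finset.mem_insert_self i T)).mul_left (Wk D hT' hi hn hd).inv_left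
    rw [D.κ3 i hi q hq this.symm, one_mul] at h ⊢
    exact ih hT' hd fun j hj => h j (Finset.mem_insert_of_mem hj)

theorem ex_fix {i : ι} (hi : i ∈ S) :
    ∃ x ∈ Q i, τ * x * τ * x⁻¹ ∈ Q i ∧ τ * x * τ * x⁻¹ ≠ 1 ∧ Commute (τ * x * τ * x⁻¹) τ := by
  have ti : τ⁻¹ = τ := inv_eq_of_mul_eq_one_right D.ττ
  obtain ⟨x, hx, hn⟩ : ∃ x ∈ Q i, x * τ ≠ τ * x := by
    by_contra! h
    exact (D.τQ i hi).2 h
  have m : τ * x * τ * x⁻¹ ∈ Q i :=
    mul_mem (by simpa [ti] using (mem_normalizer_iff.1 (D.τQ i hi).1 x).1 hx) (inv_mem hx)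
  refine ⟨x, hx, m, fun e => hn ?_, ?_⟩
  · calc x * τ = τ * x * τ * x⁻¹ * x * τ := by rw [e, one_mul]
      _ = τ * x * (τ * τ) := by group
      _ = τ * x := by rw [D.ττ, mul_one]
  · have e := eq_inv_of_mul_eq_one_left (D.el _ (D.QA i hi m))
    calc τ * x * τ * x⁻¹ * τ = (τ * x * τ * x⁻¹)⁻¹ * τ := by rw [← e]
      _ = τ * τ * x * τ⁻¹ * x⁻¹ * (τ⁻¹ * τ) := by rw [D.ττ]; group
      _ = τ * (τ * x * τ * x⁻¹) := by rw [inv_mul_cancel, ti]; group

theorem fix_eq {i : ι} (hi : i ∈ S) {a b : G} (ha : a ∈ Q i) (hb : b ∈ Q i) (a1 : a ≠ 1)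
    (b1 : b ≠ 1) (ga : Commute a τ) (gb : Commute b τ) : a = b := by
  by_contra h
  exact (D.τQ i hi).2 (four (D.c4 i hi) ha hb a1 b1 h ga gb)

theorem st {T : Finset ι} (hT : T ⊆ S) {c : G} (hc : c ∈ W Q T) (h : Commute c τ) :
    ∃ x ∈ W Q T, c = τ * x * τ * x⁻¹ := by
  induction T using Finset.induction_on generalizing c with
  | empty => exact ⟨1, one_mem _, by rw [W_empty hc, mul_one, D.ττ, inv_one, mul_one]⟩
  | insert i T hn ih =>
    have hT' := (Finset.subset_insert i T).trans hT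
    have hi := hT (Finset.mem_insert_self i T)
    obtain ⟨q, hq, d, hd, rfl⟩ := dec D hT' hi hc
    have h1 := fix D hT' hi hn hq hd (fun j hj => (D.τQ j hj).1) h
    obtain ⟨y, hy, e2⟩ := ih hT' hd (by simpa using h1.inv_left.mul_left h)
    obtain ⟨x, hx, e1⟩ : ∃ x ∈ Q i, q = τ * x * τ * x⁻¹ := by
      by_cases q1 : q = 1
      · exact ⟨1, one_mem _, by rw [q1, mul_one, D.ττ, inv_one, mul_one]⟩
      · obtain ⟨x, hx, m, n1, cx⟩ := ex_fix D hi
        exact ⟨x, hx, fix_eq D hi hq m q1 n1 h1 cx⟩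
    have hy' : y ∈ W Q (insert i T) := W_le (fun j hj => le_W (Finset.mem_insert_of_mem hj)) hy
    refine ⟨x * y, mul_mem (le_W (Finset.mem_insert_self i T) hx) hy', ?_⟩
    have c1 := (cm D (WA D hT' hd) (inv_mem (D.QA i hi hx))).eq
    calc q * d = τ * x * τ * (x⁻¹ * d) := by rw [e1]; group
      _ = τ * x * (τ * τ) * y * τ * y⁻¹ * x⁻¹ := by rw [← c1, e2]; group
      _ = τ * (x * y) * τ * (x * y)⁻¹ := by rw [D.ττ]; group

theorem uniq {c c' : G} (hc : c ∈ W Q S) (hc' : c' ∈ W Q S) (h : Commute c τ) (h' : Commute c' τ)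
    (f : ∀ j ∈ S, c ∉ W Q (S.erase j)) (f' : ∀ j ∈ S, c' ∉ W Q (S.erase j)) : c = c' := by
  have : c * c' = 1 := zer D subset_rfl (mul_mem hc hc') fun j hj => by
    obtain ⟨q, hq, d, hd, rfl⟩ := comp D hj hc
    obtain ⟨q', hq', d', hd', rfl⟩ := comp D hj hc'
    have hτ : ∀ j ∈ S, τ ∈ N[Q j] := fun j hj => (D.τQ j hj).1
    obtain rfl : q = q' := fix_eq D hj hq hq' (fun e => f j hj (by rwa [e, one_mul]))
      (fun e => f' j hj (by rwa [e, one_mul]))
      (fix D (S.erase_subset j) hj (S.notMem_erase j) hq hd hτ h)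
      (fix D (S.erase_subset j) hj (S.notMem_erase j) hq' hd' hτ h')
    have e : q * d * (q * d') = d * d' := by
      rw [(cm D (D.QA j hj hq) (WA D (S.erase_subset j) hd)).eq, mul_assoc, ← mul_assoc q,
        D.el q (D.QA j hj hq), one_mul]
    rw [e]
    exact Wk D (S.erase_subset j) hj (S.notMem_erase j) (mul_mem hd hd')
  rw [eq_inv_of_mul_eq_one_left this, ← eq_inv_of_mul_eq_one_left (D.el _ (WA D subset_rfl hc'))]

theorem key (ih : ∀ (N U : Subgroup G) (T : Finset ι), T.card < S.card → PrD N A U T Q κ τ →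
      ∀ i ∈ T, N ≤ N[Q i]) {c y : G} (hc : c ∈ W Q S) (c1 : c ≠ 1) (ct : Commute c τ) (hy : y ∈ N)
    (yy : y * y = 1) (cy : Commute c y) {j : ι} (hj : j ∈ S) (hw : c ∈ W Q (S.erase j)) :
    y ∈ C[Q j] := by
  classical
  let T := S.filter fun j => c ∈ W Q (S.erase j)
  have hT : T ⊆ S := Finset.filter_subset _ _
  have ck : ∀ i ∈ T, Commute c (κ i) := fun i hi =>
    Wk D (S.erase_subset i) (hT hi) (S.notMem_erase i) (Finset.mem_filter.1 hi).2
  have lt : T.card < S.card := Finset.card_lt_card ⟨hT, fun h =>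
    c1 (zer D subset_rfl hc fun i hi => ck i (h hi))⟩
  have cA := WA D subset_rfl hc
  have D' : PrD (N ⊓ Cz c) A (U ⊔ W Q (S \ T)) T Q κ τ :=
    { syl := D.syl.mono (le_inf D.syl.le fun x hx =>
        mem_centralizer_singleton_iff.2 (cm D hx cA).eq) inf_le_left
      el := D.el
      UA := sup_le D.UA (WA D Finset.sdiff_subset)
      QA := fun i hi => D.QA i (hT hi)
      c4 := fun i hi => D.c4 i (hT hi)
      gen := D.gen.trans (sup_le (le_sup_left.trans le_sup_left) (W_le fun i hi => by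
        by_cases h : i ∈ T
        · exact (le_W h).trans le_sup_right
        · exact ((le_W (Finset.mem_sdiff.2 ⟨hi, h⟩)).trans le_sup_right).trans le_sup_left))
      nQ := fun n hn ha i hi => D.nQ n hn.1 ha i (hT hi)
      cU := fun n hn ha => by
        have : U ⊔ W Q (S \ T) ≤ Cz n := sup_le (fun x hx =>
          mem_centralizer_singleton_iff.2 (D.cU n hn.1 ha x hx)) (W_le fun i hi x hx => by
            obtain ⟨hi, hn'⟩ := Finset.mem_sdiff.1 hi
            obtain ⟨q, hq, d, hd, e⟩ := comp D hi hc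
            have h1 : Commute q n := fix D (S.erase_subset i) hi (S.notMem_erase i) hq hd
              (D.nQ n hn.1 ha) (by rw [e]; exact (mem_centralizer_singleton_iff.1 hn.2).symm)
            have h2 : Commute x (n * n) := sq_cent (D.c4 i hi) hq (fun e' => hn'
              (Finset.mem_filter.2 ⟨hi, by rwa [← e, e', one_mul]⟩)) h1 (D.nQ n hn.1 ha i hi) x hx
            obtain ⟨k, hk⟩ := odd_pow D.syl hn.1 ha
            have h3 := (h2.pow_right k).inv_right.mul_right (cm D (D.QA i hi hx) hk)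
            rw [pow_succ, pow_mul, sq, inv_mul_cancel_left] at h3
            exact mem_centralizer_singleton_iff.2 h3)
        exact fun x hx => mem_centralizer_singleton_iff.1 (this hx)
      κN := fun i hi => ⟨D.κN i (hT hi), mem_centralizer_singleton_iff.2 (ck i hi).symm⟩
      κA := fun i hi => D.κA i (hT hi)
      κ3 := fun i hi => D.κ3 i (hT hi)
      κc := fun i hi k hk => D.κc i (hT hi) k (hT hk)
      ττ := D.ττ
      τN := mem_normalizer_fintype fun n hn => ⟨(mem_normalizer_iff.1 D.τN n).1 hn.1,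
        mem_centralizer_singleton_iff.2 (by
          have h1 : Commute c n := (mem_centralizer_singleton_iff.1 hn.2).symm
          exact ((ct.mul_right h1).mul_right ct.inv_right).symm)⟩
      τn := fun h => D.τn h.1
      τA := D.τA
      τQ := fun i hi => D.τQ i (hT hi)
      H := fun y hy => D.H y hy.1 }
  have h1 : y ∈ N[Q j] := ih _ _ T lt D' j (Finset.mem_filter.2 ⟨hj, hw⟩)
    ⟨hy, mem_centralizer_singleton_iff.2 cy.symm⟩
  obtain ⟨h, -, hh⟩ := D.syl.exists_conj_le (P := zpowers y ⊔ Q j)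
    (sup_le (zpowers_le.2 hy) ((D.QA j hj).trans D.syl.le))
    (isPGroup_sup (isPGroup_zpowers (k := 1) (by rw [pow_one, sq, yy]))
      (D.syl.isPGroup.to_le (D.QA j hj)) (zpowers_le.2 h1))
  intro x hx
  have := (cm D (hh (conj_mem_cj (mem_sup_right hx)))
    (hh (conj_mem_cj (mem_sup_left (mem_zpowers y))))).eq
  rw [conj_mul, conj_mul] at this
  simpa using this

theorem main (prt : PrtS.{u}) (step : StepS.{u})
    (ih : ∀ (N U : Subgroup G) (T : Finset ι), T.card < S.card → PrD N A U T Q κ τ →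
      ∀ i ∈ T, N ≤ N[Q i]) : ∀ i ∈ S, N ≤ N[Q i] := by
  obtain ⟨N0, le, nN, tN, e0, -⟩ := prt G ι N A U S Q κ τ D
  have WA' : W Q S ≤ A := WA D subset_rfl
  have W0 : W Q S ≤ N0 := e0.ge.trans inf_le_left
  have stp := step G N0 (W Q S) τ D.ττ tN (fun h => D.τn (le h))
    (mem_normalizer_fintype fun n hn => W_conj (fun j hj => (D.τQ j hj).1) hn) W0
    (fun y hy yy yt => e0.le ⟨hy, D.H y (le hy) yy yt⟩) fun c hc ct => by
      obtain ⟨x, hx, e⟩ := st D subset_rfl hc ct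
      exact ⟨x, hx, by rw [e, ← mul_assoc, ← mul_assoc, ← mul_assoc, D.ττ, one_mul]⟩
  have M : ∀ y ∈ N0, y * y = 1 → (∀ j ∈ S, y ∈ C[Q j]) ∨ ∃ c ∈ W Q S, Commute c τ ∧ Commute c y ∧
      ∀ j ∈ S, c ∉ W Q (S.erase j) := fun y hy yy => by
    rcases stp y hy yy with h | ⟨c, hc, c1, ct, cy⟩
    · exact Or.inl fun j hj x hx => (cm D (D.QA j hj hx) (WA' h)).eq
    · by_cases f : ∀ j ∈ S, c ∉ W Q (S.erase j)
      · exact Or.inr ⟨c, hc, ct, cy, f⟩
      · push Not at f
        obtain ⟨j, hj, hw⟩ := f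
        have h1 := key D ih hc c1 ct (le hy) yy cy hj hw
        obtain ⟨x, -, m, n1, cx⟩ := ex_fix D hj
        refine Or.inl fun i hi => ?_
        by_cases e : j = i
        · exact e ▸ h1
        · exact key D ih (le_W hj m) n1 cx (le hy) yy (h1 _ m) hi
            (le_W (Finset.mem_erase.2 ⟨e, hj⟩) m)
  have cQ : ∀ y ∈ N0, y * y = 1 → ∀ i ∈ S, y ∈ C[Q i] := fun y hy yy i hi => by
    by_contra hn
    obtain ⟨c, hc, ct, cy, f⟩ := (M y hy yy).resolve_left fun h => hn (h i hi)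
    obtain ⟨a, ha, d, hd, rfl⟩ := comp D hi hc
    have a1 : a ≠ 1 := fun e => f i hi (by rwa [e, one_mul])
    have kk : ∀ k ∈ N, k ∈ N[A] → Commute d k → Commute (a * (k * a * k⁻¹)⁻¹) y := fun k hk kA dk => by
      obtain ⟨c', hc', ct', cy', f'⟩ := (M (k⁻¹ * y * k) ((mem_normalizer_iff''.1 (nN hk) y).1 hy)
        (by rw [show k⁻¹ * y * k * (k⁻¹ * y * k) = k⁻¹ * (y * y) * k by group, yy]; group)).resolve_left
        fun h => hn fun x hx => by
          have := h i hi _ ((mem_normalizer_iff''.1 (D.nQ k hk kA i hi) x).1 hx)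
          calc x * y = k * (k⁻¹ * x * k * (k⁻¹ * y * k)) * k⁻¹ := by group
            _ = y * x := by rw [this]; group
      rw [← uniq D hc hc' ct ct' f f'] at cy'
      have h1 : Commute (k * a * k⁻¹ * d) y :=
        calc k * a * k⁻¹ * d * y = k * (a * (k⁻¹ * d * k) * (k⁻¹ * y * k)) * k⁻¹ := by group
          _ = k * (k⁻¹ * y * k * (a * (k⁻¹ * d * k))) * k⁻¹ := by
            rw [mul_assoc k⁻¹ d, dk.eq, inv_mul_cancel_left, cy'.eq]
          _ = y * (k * a * k⁻¹ * d) := by group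
      simpa [mul_assoc] using cy.mul_left h1.inv_left
    have dk := Wk D (S.erase_subset i) hi (S.notMem_erase i) hd
    have kQ := D.nQ _ (D.κN i hi) (D.κA i hi) i hi
    have m1 : κ i * a * (κ i)⁻¹ ∈ Q i := (mem_normalizer_iff.1 kQ a).1 ha
    have m2 : (κ i)⁻¹ * a * (κ i)⁻¹⁻¹ ∈ Q i := (mem_normalizer_iff.1 (inv_mem kQ) a).1 ha
    have n1 : a ≠ κ i * a * (κ i)⁻¹ := fun e =>
      a1 (D.κ3 i hi a ha (mul_inv_eq_iff_eq_mul.1 e.symm))
    refine hn (four (D.c4 i hi) (mul_mem ha (inv_mem m1)) (mul_mem ha (inv_mem m2))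
      (fun e => n1 (mul_inv_eq_one.1 e)) (fun e => a1 (D.κ3 i hi a ha ?_)) (fun e => ?_)
      (kk _ (D.κN i hi) (D.κA i hi) dk) (kk _ (inv_mem (D.κN i hi)) (inv_mem (D.κA i hi)) dk.inv_right))
    · calc κ i * a = κ i * ((κ i)⁻¹ * a * (κ i)⁻¹⁻¹) := by rw [← mul_inv_eq_one.1 e]
        _ = a * κ i := by group
    · have e1 : κ i * a * (κ i)⁻¹ = (κ i)⁻¹ * a * (κ i)⁻¹⁻¹ := inv_injective (mul_left_cancel e)
      have e2 := D.κ3 i hi _ (mul_mem ha m1) (calc
        κ i * (a * (κ i * a * (κ i)⁻¹))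
          = κ i * a * (κ i)⁻¹ * (κ i * (κ i * a * (κ i)⁻¹)) := by group
        _ = κ i * a * (κ i)⁻¹ * a * κ i := by
          conv_lhs => enter [2, 2]; rw [e1]
          group
        _ = a * (κ i * a * (κ i)⁻¹) * κ i := by rw [(cm D (D.QA i hi m1) (D.QA i hi ha)).eq])
      exact n1 ((eq_inv_of_mul_eq_one_left e2).trans
        (eq_inv_of_mul_eq_one_left (D.el _ (D.QA i hi m1))).symm)
  have sW : IsSylowIn 2 (W Q S) N0 := by
    have := D.syl.inf_normal le nN
    rwa [inf_comm, e0] at this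
  have nW : N ≤ N[W Q S] := fun n hn => mem_normalizer_fintype fun w hw => by
    have h1 := (mem_normalizer_iff.1 (nN hn) w).1 (W0 hw)
    have h2 : n * w * n⁻¹ * (n * w * n⁻¹) = 1 := by
      rw [conj_mul, D.el w (WA' hw), mul_one, mul_inv_cancel]
    refine sW.mem_of_norm h1 (k := 1) (by rw [pow_one, sq, h2]) (centralizer_le_normalizer _ ?_)
    exact fun x hx => mem_centralizer_singleton_iff.1 (W_le (K := Cz (n * w * n⁻¹))
      (fun j hj z hz => mem_centralizer_singleton_iff.2 (cQ _ h1 h2 j hj z hz)) hx)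
  intro i hi n hn
  have sC : IsSylowIn 2 A (N ⊓ C[W Q S]) :=
    D.syl.mono (le_inf D.syl.le fun x hx y hy => (cm D (WA' hy) hx).eq) inf_le_left
  obtain ⟨c, hc, a, ha, rfl⟩ := sC.frattini (le_norm_inf le_normalizer (le_norm_cent nW) hn)
  exact mul_mem (centralizer_le_normalizer _ fun x hx => hc.2 x (le_W hi hx))
    (D.nQ a ((N.mul_mem_cancel_left hc.1).1 hn) ha i hi)

omit D in
theorem prk : PrkS.{u} := by
  intro prt step G _ _ ι N A U S Q κ τ D
  classical
  induction hn : S.card using Nat.strong_induction_on generalizing N U S with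
  | _ n ih => exact main D prt step fun N U T lt D' => ih _ (hn ▸ lt) N U T D' rfl

end Cfsg.Agent.H91.G40Prk
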