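import Cfsg.Agent.H7.A12Bal
import Cfsg.Agent.H79.A12Sev

/-!
# The signalizer functor for the alternating fusion pattern
-/

set_option autoImplicit false
set_option maxRecDepth 100000
set_option exponentiation.threshold 10000
set_option synthInstance.maxSize 100000

namespace Cfsg.Agent.H91.A12SigA

open Equiv Subgroup Cfsg.Agent.H89.TG Cfsg.Agent.H89.Rec Cfsg.Agent.H17.Ya Cfsg.Agent.H17.Tw
open Cfsg.Agent.H7.A12Bal

universe u

theorem blk : ∀ i < 3, ∀ a < 4, 4 ^ i * a < 64 ∧ ∀ b < 4, 4 ^ i * a = 4 ^ i * b → a = b := by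
  decide +kernel

theorem blk1 : ∀ i < 3, 4 ^ i * 2 ^^^ 4 ^ i * 3 = 4 ^ i * 1 := by decide +kernel

theorem nh_blk : ∀ i < 3, ∃ m < 24, ∀ a < 4, ∃ b < 4,
    nh m * av (4 ^ i * a) * (nh m)⁻¹ = av (4 ^ 2 * b) := by kdt

/-- One of the three non-zero combinations. -/
def sel (k u v : ℕ) : ℕ := if k = 0 then u else if k = 1 then v else u ^^^ v

theorem cov_dec : ∀ q0 < 4, ∀ q1 < 4, ∀ q2 < 4, ∀ q3 < 4, ∀ q4 < 4, ∀ q5 < 4,
    (q0 = 0 ∧ q1 = 0) ∨ (q2 = 0 ∧ q3 = 0) ∨ (q4 = 0 ∧ q5 = 0) ∨ ∃ k < 3, ∃ l < 3, ∃ n < 3,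
      bt mA (sel k (2 ^^^ 21 * q0) (3 ^^^ 21 * q1) ^^^ sel l (8 ^^^ 21 * q2) (12 ^^^ 21 * q3) ^^^
        sel n (32 ^^^ 21 * q4) (48 ^^^ 21 * q5)) = true := by decide +kernel

theorem cov (S : ℕ → Prop) (hx : ∀ a b, S a → S b → S (a ^^^ b))
    (hq : ∀ a < 64, ∃ q < 4, S (a ^^^ 21 * q)) :
    (∃ a, bt mA a = true ∧ S a) ∨ ∃ i < 3, S (4 ^ i * 2) ∧ S (4 ^ i * 3) := by
  have hs : ∀ k u v, S u → S v → S (sel k u v) := fun k u v hu hv => by
    unfold sel
    split_ifs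
    exacts [hu, hv, hx u v hu hv]
  obtain ⟨q0, a0, s0⟩ := hq 2 (by decide)
  obtain ⟨q1, a1, s1⟩ := hq 3 (by decide)
  obtain ⟨q2, a2, s2⟩ := hq 8 (by decide)
  obtain ⟨q3, a3, s3⟩ := hq 12 (by decide)
  obtain ⟨q4, a4, s4⟩ := hq 32 (by decide)
  obtain ⟨q5, a5, s5⟩ := hq 48 (by decide)
  rcases cov_dec q0 a0 q1 a1 q2 a2 q3 a3 q4 a4 q5 a5 with
    ⟨rfl, rfl⟩ | ⟨rfl, rfl⟩ | ⟨rfl, rfl⟩ | ⟨k, -, l, -, n, -, h⟩
  · exact Or.inr ⟨0, by decide, s0, s1⟩
  · exact Or.inr ⟨1, by decide, s2, s3⟩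
  · exact Or.inr ⟨2, by decide, s4, s5⟩
  · exact Or.inl ⟨_, h, hx _ _ (hx _ _ (hs k _ _ s0 s1) (hs l _ _ s2 s3)) (hs n _ _ s4 s5)⟩

variable {G : Type u} [Group G] [Finite G]

/-- The pigeonhole principle for cosets. -/
theorem pig {A U : Subgroup G} (hU : U ≤ A) {m : ℕ} (hm : Nat.card A ≤ m * Nat.card U)
    (f : Fin (m + 1) → G) (hf : ∀ i, f i ∈ A) : ∃ i l, i ≠ l ∧ (f i)⁻¹ * f l ∈ U := by
  classical
  have := Fintype.ofFinite (A ⧸ U.subgroupOf A)
  have ht : Fintype.card (A ⧸ U.subgroupOf A) ≤ m := by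
    have h1 := card_eq_card_quotient_mul_card_subgroup (U.subgroupOf A)
    rw [Nat.card_congr (subgroupOfEquivOfLe hU).toEquiv] at h1
    rw [← Nat.card_eq_fintype_card]
    exact Nat.le_of_mul_le_mul_right (h1 ▸ hm) Nat.card_pos
  obtain ⟨i, l, h1, h2⟩ := Fintype.exists_ne_map_eq_of_card_lt
    (fun i => (QuotientGroup.mk (⟨f i, hf i⟩ : A) : A ⧸ U.subgroupOf A))
    (by rw [Fintype.card_fin]; omega)
  exact ⟨i, l, h1, (QuotientGroup.eq (s := U.subgroupOf A)).1 h2⟩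

variable {j : T →* G}

omit [Finite G] in
theorem c_mul {a b : ℕ} (ha : a < 64) (hb : b < 64) : j (tv a) * j (tv b) = j (tv (a ^^^ b)) := by
  rw [← map_mul, tv_mul ha hb]

omit [Finite G] in
theorem c_sq {a : ℕ} (ha : a < 64) : j (tv a) * j (tv a) = 1 := by
  rw [← map_mul, tv_sq ha, map_one]

omit [Finite G] in
theorem c_inv {a : ℕ} (ha : a < 64) : (j (tv a))⁻¹ = j (tv a) := inv_eq_of_mul_eq_one_right (c_sq ha)

omit [Finite G] in
theorem c_comm {a b : ℕ} (ha : a < 64) (hb : b < 64) : Commute (j (tv a)) (j (tv b)) :=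
  (tv_comm ha hb).map j

/-- Generators of a block. -/
def Vs (j : T →* G) (i : ℕ) : Set G := {j (tv (4 ^ i * 2)), j (tv (4 ^ i * 3))}

omit [Finite G] in
theorem mem_CV {i : ℕ} (hi : i < 3) {y : G} :
    y ∈ centralizer (Vs j i) ↔ ∀ a < 4, Commute y (j (tv (4 ^ i * a))) := by
  rw [Vs, mem2]
  refine ⟨fun h a ha => ?_, fun h => ⟨h 2 (by decide), h 3 (by decide)⟩⟩
  interval_cases a
  · rw [mul_zero, tv0, map_one]; exact Commute.one_right y
  · rw [← blk1 i hi, ← c_mul (blk i hi 2 (by decide)).1 (blk i hi 3 (by decide)).1]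
    exact h.1.mul_right h.2
  exacts [h.1, h.2]

/-- The element maps a block into a block. -/
def Mp (j : T →* G) (g : G) (i l : ℕ) : Prop :=
  ∀ a < 4, ∃ b < 4, Cj j g (tv (4 ^ i * a)) (tv (4 ^ l * b))

omit [Finite G] in
theorem Mp.trans {g g' : G} {i l n : ℕ} (h : Mp j g i l) (h' : Mp j g' l n) : Mp j (g' * g) i n :=
  fun a ha =>
    let ⟨b, hb, e⟩ := h a ha
    let ⟨d, hd, e'⟩ := h' b hb
    ⟨d, hd, e.trans e'⟩

omit [Finite G] in
theorem Mp.conj (hj : Function.Injective j) {g : G} {i l : ℕ} (hi : i < 3) (hl : l < 3)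
    (h : Mp j g i l) (x : G) : g * x * g⁻¹ ∈ centralizer (Vs j l) ↔ x ∈ centralizer (Vs j i) := by
  rw [mem_CV hi, mem_CV hl]
  choose! f h1 h2 using h
  refine ⟨fun H a ha => commute_of_conj (g := g) ?_, fun H b hb => ?_⟩
  · rw [h2 a ha]; exact H _ (h1 a ha)
  · have : Function.Surjective fun a : Fin 4 => (⟨f a, h1 a a.2⟩ : Fin 4) :=
      Finite.injective_iff_surjective.1 fun a d e => Fin.ext ((blk i hi a a.2).2 d d.2
        (tv_inj (blk i hi a a.2).1 (blk i hi d d.2).1 (((h2 a a.2).eq_iff hj (h2 d d.2)).2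
          (congrArg (fun x => tv (4 ^ l * x)) (congrArg Fin.val e)))))
    obtain ⟨a, e⟩ := this ⟨b, hb⟩
    have e' : f a = b := congrArg Fin.val e
    rw [← e', ← h2 a a.2]
    exact commute_conj (H a a.2) g

omit [Finite G] in
theorem one_conj {g : G} {a b : ℕ} (h : Cj j g (tv a) (tv b)) (x : G) :
    g * x * g⁻¹ ∈ centralizer {j (tv b)} ↔ x ∈ centralizer {j (tv a)} := by
  rw [mem1, mem1, ← h]
  exact ⟨commute_of_conj, fun e => commute_conj e g⟩

theorem oc_back {K K' : Subgroup G} {g : G} (h : ∀ x, g * x * g⁻¹ ∈ K' ↔ x ∈ K) {y : G}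
    (hy : g * y * g⁻¹ ∈ oc K') : y ∈ oc K := by
  have := oc_conj (K := K') (K' := K) (g := g⁻¹) (fun x => by
    rw [← h]; simp [mul_assoc]) hy
  simpa [mul_assoc] using this

/-- Invariant subgroups of odd order in the centraliser of the central involution. -/
theorem odd_t (hl : LocMStmt) {π : CT j →* El} (hq : Qt j π T.subtype) {Y : Subgroup G}
    (h1 : Y ≤ CT j) (h2 : Odd (Nat.card Y))
    (h3 : ∀ b < 64, j (tv b) ∈ normalizer (Y : Set G)) : Y ≤ oc (CT j) := by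
  have hk : π.ker.map (CT j).subtype ≤ oc (CT j) := by
    refine le_oc (map_subtype_le _) (by
      rw [card_map_of_injective (CT j).subtype_injective]; exact hq.odd) fun g hg => mem_nrm ?_
    rintro _ ⟨x, hx, rfl⟩
    exact ⟨_, π.normal_ker.conj_mem x hx ⟨g, hg⟩, rfl⟩
  have hb := hl.2 ((Y.subgroupOf (CT j)).map π) (Odd.of_dvd_nat (by
    rwa [Nat.card_congr (subgroupOfEquivOfLe h1).toEquiv]) (card_map_dvd _ π)) fun b hb => by
      refine mem_nrm ?_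
      rintro _ ⟨x, hx, rfl⟩
      have hm : j (tv b) ∈ CT j := mem1.2 (c_comm hb (by decide))
      refine ⟨⟨_, hm⟩ * x * ⟨_, hm⟩⁻¹, nrm_conj (h3 b hb) hx, ?_⟩
      rw [map_mul, map_mul, map_inv, hq.comp _ hm]
      rfl
  intro y hy
  refine hk ⟨⟨y, h1 hy⟩, ?_, rfl⟩
  exact mem_bot.1 (hb ▸ ⟨⟨y, h1 hy⟩, hy, rfl⟩)

/-- The family of subgroups. -/
def fm (j : T →* G) : Set (Subgroup G) :=
  {D | (∃ a < 64, bt mA a = true ∧ D = closure {j (tv a)}) ∨ ∃ i < 3, D = closure (Vs j i)}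

theorem sigA (hs : SigStmt.{u}) (hb : BurnStmt.{u}) (hp : PatAStmt.{u}) (hl : LocMStmt) :
    SigAStmt.{u} := by
  intro G _ _ j π mf pt hq hv
  have hi := mf.fr.inj
  obtain ⟨-, b2, -, -, b5, -⟩ := hb G j mf.fr
  obtain ⟨-, p2, -⟩ := hp G j mf pt
  have mv : ∀ a < 64, bt mA a = true → ∃ n, NmA j n ∧ Cj j n (tv a) (tv 21) := fun a ha h => by
    obtain ⟨g, e⟩ := (pt a ha).2 h
    obtain ⟨n, -, hn, e'⟩ := b5 ⊤ le_top g trivial a ha 21 (by decide) e
    exact ⟨n, hn, e'⟩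
  have L1 : ∀ a < 64, bt mA a = true → ∀ Y : Subgroup G, Y ≤ centralizer {j (tv a)} →
      Odd (Nat.card Y) → (∀ b < 64, j (tv b) ∈ normalizer (Y : Set G)) →
      Y ≤ oc (centralizer {j (tv a)}) := fun a ha h Y h1 h2 h3 y hy => by
    obtain ⟨n, hn, e⟩ := mv a ha h
    refine oc_back (one_conj e) (odd_t hl hq (Y := Y.map (MulAut.conj n).toMonoidHom) ?_ ?_
      (fun b hb => mem_nrm ?_) ⟨y, hy, rfl⟩)
    · rintro _ ⟨x, hx, rfl⟩
      exact (one_conj e x).2 (h1 hx)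
    · rwa [card_map_of_injective (MulAut.conj n).injective]
    · rintro _ ⟨x, hx, rfl⟩
      obtain ⟨d, hd, e'⟩ := b2 n hn b hb
      refine ⟨_, nrm_conj (h3 d hd) hx, ?_⟩
      rw [← e'.symm']
      simp [mul_assoc]
  have L2 : ∀ a < 64, bt mA a = true → ∀ i < 3, ∀ y ∈ oc (centralizer {j (tv a)}),
      y ∈ centralizer (Vs j i) → y ∈ oc (centralizer (Vs j i)) := fun a ha h i hi3 y h1 h2 => by
    obtain ⟨n, hn, e⟩ := mv a ha h
    obtain ⟨σ, hσ⟩ := p2 n hn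
    obtain ⟨m, -, hm⟩ := nh_blk _ (σ ⟨i, hi3⟩).2
    obtain ⟨g, -, hg⟩ := mf.mf (nh m)
    have m1 : Mp j n i (σ ⟨i, hi3⟩) := hσ ⟨i, hi3⟩
    have m2 : Mp j g (σ ⟨i, hi3⟩) 2 := fun b hb =>
      let ⟨d, hd, e⟩ := hm b hb
      ⟨d, hd, hg _ _ e⟩
    have e2 : Cj j g (tv 21) (tv 21) := hg _ _ (by
      rw [tv_val, av21, (zc (nh m)).eq, mul_inv_cancel_right])
    have m3 := (m1.trans m2).conj hi hi3 (by decide)
    exact oc_back m3 (hv ⟨oc_conj (one_conj (e.trans e2)) h1, (m3 y).2 h2⟩)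
  have L3 : ∀ i < 3, ∀ Y : Subgroup G, Y ≤ centralizer (Vs j i) →
      Odd (Nat.card Y) → (∀ b < 64, j (tv b) ∈ normalizer (Y : Set G)) →
      Y ≤ oc (centralizer (Vs j i)) := fun i hi3 Y h1 h2 h3 => by
    have key : ∀ a < 64, bt mA a = true → ∀ y ∈ Y, Commute y (j (tv a)) →
        y ∈ oc (centralizer (Vs j i)) := fun a ha h y hy e =>
      L2 a ha h i hi3 y (L1 a ha h (Y ⊓ centralizer {j (tv a)}) inf_le_right
        (odd_le inf_le_left h2) (fun b hb => nrm_inf (h3 b hb)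
          (nrm_cent fun x hx => hx ▸ c_comm ha hb)) ⟨hy, mem1.2 e⟩) (h1 hy)
    refine four' (a := j (tv 21)) (b := j (tv 42)) (c_sq (by decide)) (c_sq (by decide))
      (c_comm (by decide) (by decide)) h2 (h3 _ (by decide)) (h3 _ (by decide))
      (key 21 (by decide) (by decide +kernel)) (key 42 (by decide) (by decide +kernel)) ?_
    rw [c_mul (by decide) (by decide)]
    exact key _ (by decide) (by decide +kernel)
  have mA' : ∀ a < 64, j (tv a) ∈ AT.map j := fun a ha => ⟨_, tv_mem ha, rfl⟩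
  have hD : ∀ D ∈ fm j, D ≤ AT.map j := by
    rintro _ (⟨a, ha, -, rfl⟩ | ⟨i, hi3, rfl⟩)
    · exact (closure_le _).2 (Set.singleton_subset_iff.2 (mA' a ha))
    · exact (closure_le _).2 (Set.insert_subset (mA' _ (blk i hi3 2 (by decide)).1)
        (Set.singleton_subset_iff.2 (mA' _ (blk i hi3 3 (by decide)).1)))
  have hN : ∀ D ∈ fm j, ∀ b < 64,
      j (tv b) ∈ normalizer ((centralizer (D : Set G) : Subgroup G) : Set G) :=
    fun D h b hb => nrm_cent fun x hx => by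
      obtain ⟨u, hu, rfl⟩ := hD D h hx
      obtain ⟨d, hd, rfl⟩ := mem_AT'.1 hu
      exact c_comm hd hb
  have m1 : ∀ U : Subgroup G, ∀ a < 64, bt mA a = true → j (tv a) ∈ U → ∃ D ∈ fm j, D ≤ U :=
    fun U a ha h hU =>
      ⟨_, Or.inl ⟨a, ha, h, rfl⟩, (closure_le _).2 (Set.singleton_subset_iff.2 hU)⟩
  have m2 : ∀ U : Subgroup G, ∀ i < 3, j (tv (4 ^ i * 2)) ∈ U → j (tv (4 ^ i * 3)) ∈ U →
      ∃ D ∈ fm j, D ≤ U := fun U i hi3 h h' =>
    ⟨_, Or.inr ⟨i, hi3, rfl⟩, (closure_le _).2 (Set.insert_subset h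
      (Set.singleton_subset_iff.2 h'))⟩
  have pg : ∀ B U : Subgroup G, U ≤ B → ∀ m : ℕ, Nat.card B ≤ m * Nat.card U →
      ∀ f : Fin (m + 1) → ℕ, (∀ i, f i < 64) → (∀ i, j (tv (f i)) ∈ B) →
      ∃ i l, i ≠ l ∧ j (tv (f i ^^^ f l)) ∈ U := fun B U hU m hm f h1 h2 => by
    obtain ⟨i, l, a, b⟩ := pig hU hm _ h2
    rw [c_inv (h1 i), c_mul (h1 i) (h1 l)] at b
    exact ⟨i, l, a, b⟩
  obtain ⟨h1, h2⟩ := hs G (AT.map j) (fm j)
    (by
      rintro _ ⟨u, hu, rfl⟩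
      obtain ⟨d, hd, rfl⟩ := mem_AT'.1 hu
      exact c_sq hd) hD
    (fun U hU hc => by
      by_contra hcon
      have n1 : ∀ a < 64, bt mA a = true → j (tv a) ∉ U := fun a ha h e => hcon (m1 U a ha h e)
      rcases cov (fun a => a < 64 ∧ j (tv a) ∈ U)
        (fun a b h h' => ⟨xor_lt h.1 h'.1, c_mul (j := j) h.1 h'.1 ▸ mul_mem h.2 h'.2⟩)
        (fun a ha => by
          have k1 : ∀ i : Fin 5, (![a, 0, 21, 42, 63] : Fin 5 → ℕ) i < 64 := fun i => by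
            fin_cases i
            exacts [ha, show 0 < 64 by decide, show 21 < 64 by decide, show 42 < 64 by decide,
              show 63 < 64 by decide]
          obtain ⟨i, l, e, h⟩ := pg _ U hU 4 hc _ k1 fun i => mA' _ (k1 i)
          have k2 : ∀ a < 64, ∀ i l : Fin 5, i ≠ l →
              bt mA ((![a, 0, 21, 42, 63] : Fin 5 → ℕ) i ^^^ (![a, 0, 21, 42, 63] : Fin 5 → ℕ) l) =
                true ∨ ∃ q < 4, (![a, 0, 21, 42, 63] : Fin 5 → ℕ) i ^^^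
                  (![a, 0, 21, 42, 63] : Fin 5 → ℕ) l = a ^^^ 21 * q := by decide +kernel
          rcases k2 a ha i l e with h' | ⟨q, hq, h'⟩
          · exact absurd h (n1 _ (xor_lt (k1 i) (k1 l)) h')
          · exact ⟨q, hq, h' ▸ xor_lt (k1 i) (k1 l), h' ▸ h⟩) with ⟨a, h, ha, e⟩ | ⟨i, hi3, h, h'⟩
      · exact n1 a ha h e
      · exact hcon (m2 U i hi3 h.2 h'.2))
    (fun D hD1 D' hD2 => by
      have k1 := odd_le (inf_le_left (b := centralizer (D' : Set G)))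
        (oc_odd (centralizer (D : Set G)))
      have k2 := fun b hb => nrm_inf (oc_nrm (hN D hD1 b hb)) (hN D' hD2 b hb)
      rcases hD2 with ⟨a, ha, h, rfl⟩ | ⟨i, hi3, rfl⟩ <;> rw [centralizer_closure] at k1 k2 ⊢
      · exact L1 a ha h _ inf_le_right k1 k2
      · exact L3 i hi3 _ inf_le_right k1 k2)
  have hle : ∀ D ∈ fm j, oc (centralizer (D : Set G)) ≤
      ⨆ D ∈ fm j, oc (centralizer (D : Set G)) := fun D hD =>
    le_iSup₂ (f := fun (D : Subgroup G) (_ : D ∈ fm j) => oc (centralizer (D : Set G))) D hD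
  refine ⟨_, h1, ?_, ?_, fun g hg => mem_nrm fun k hk => ?_⟩
  · have := hle _ (Or.inl ⟨21, by decide, by decide +kernel, rfl⟩)
    rwa [centralizer_closure] at this
  · have := h2 (closure {j (tv 21), j (tv 32), j (tv 48)}) ((closure_le _).2
      (Set.insert_subset (mA' _ (by decide)) (Set.insert_subset (mA' _ (by decide))
        (Set.singleton_subset_iff.2 (mA' _ (by decide)))))) fun U hU hc => by
      by_contra hcon
      have n1 : ∀ a < 64, bt mA a = true → j (tv a) ∉ U := fun a ha h e => hcon (m1 U a ha h e)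
      have k0 : ∀ x : ℕ, (x = 32 ∨ x = 48) → j (tv x) ∈ U := fun x hx => by
        have k1 : ∀ i : Fin 3, (![0, 21, 21 ^^^ x] : Fin 3 → ℕ) i < 64 := by
          rcases hx with rfl | rfl <;> decide
        have k3 : j (tv 21) ∈ closure ({j (tv 21), j (tv 32), j (tv 48)} : Set G) :=
          subset_closure (by simp)
        obtain ⟨i, l, e, h⟩ := pg _ U hU 2 hc _ k1 fun i => by
          fin_cases i
          · change j (tv 0) ∈ _
            rw [tv0, map_one]; exact one_mem _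
          · exact k3
          · change j (tv (21 ^^^ x)) ∈ _
            rw [← c_mul (by decide) (by rcases hx with rfl | rfl <;> decide)]
            exact mul_mem k3 (subset_closure (by rcases hx with rfl | rfl <;> simp))
        have k2 : ∀ i l : Fin 3, i ≠ l →
            bt mA ((![0, 21, 21 ^^^ x] : Fin 3 → ℕ) i ^^^ (![0, 21, 21 ^^^ x] : Fin 3 → ℕ) l) =
              true ∨ (![0, 21, 21 ^^^ x] : Fin 3 → ℕ) i ^^^ (![0, 21, 21 ^^^ x] : Fin 3 → ℕ) l = x := by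
          rcases hx with rfl | rfl <;> decide +kernel
        rcases k2 i l e with h' | h'
        · exact absurd h (n1 _ (xor_lt (k1 i) (k1 l)) h')
        · exact h' ▸ h
      exact hcon (m2 U 2 (by decide) (k0 _ (Or.inl rfl)) (k0 _ (Or.inr rfl)))
    rwa [centralizer_closure] at this
  · refine (iSup₂_le (a := comap (MulAut.conj g).toMonoidHom
      (⨆ D ∈ fm j, oc (centralizer (D : Set G)))) ?_) hk
    rintro _ (⟨a, ha, h, rfl⟩ | ⟨i, hi3, rfl⟩) y hy <;> rw [centralizer_closure] at hy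
    · obtain ⟨b, hb, e⟩ := hg a ha
      have := hle _ (Or.inl ⟨b, hb, (pt b hb).1 (e.inD' ((pt a ha).2 h)), rfl⟩)
      rw [centralizer_closure] at this
      exact this (oc_conj (one_conj e) hy)
    · obtain ⟨σ, hσ⟩ := p2 g hg
      have m1 : Mp j g i (σ ⟨i, hi3⟩) := hσ ⟨i, hi3⟩
      have := hle _ (Or.inr ⟨_, (σ ⟨i, hi3⟩).2, rfl⟩)
      rw [centralizer_closure] at this
      exact this (oc_conj (m1.conj hi hi3 (σ ⟨i, hi3⟩).2) hy)

end Cfsg.Agent.H91.A12SigA
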