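import Cfsg.Agent.H91.SpA

/-! Cosets contained in one conjugacy class: basic facts. -/

set_option autoImplicit false
set_option linter.unusedSectionVars false

namespace Cfsg.Agent.H91.CCL

open Subgroup Cfsg Cfsg.Agent.H83 Cfsg.Agent.H53.FM
open Cfsg.Agent.H8.Fm (tr_cj)
open scoped commutatorElement IsMulCommutative

universe u

variable {Γ : Type u} [Group Γ]

/-- `A` normalizes `H`, and the coset `H g` lies in the class of `g ∈ A` in `A H`. -/
structure CC (A H : Subgroup Γ) (g : Γ) : Prop where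
  nrm : A ≤ normalizer (H : Set Γ)
  mem : g ∈ A
  conj : ∀ h ∈ H, ∃ t ∈ A ⊔ H, t * g * t⁻¹ = h * g

variable {A A' H K X F : Subgroup Γ} {g h s : Γ}

theorem CC.top (c : CC A H g) : A ⊔ H ≤ normalizer (H : Set Γ) := sup_le c.nrm le_normalizer

theorem CC.quo (c : CC A H g) (hA : A ≤ normalizer (K : Set Γ)) (hH : H ≤ normalizer (K : Set Γ)) :
    CC (H63.quo A K) (H63.quo H K) (H63.coset K g) := by
  refine ⟨H63.quo_norms K c.nrm, H63.coset_mem_quo (hA c.mem) c.mem, fun x hx => ?_⟩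
  obtain ⟨y, hy, yn, rfl⟩ := H63.mem_quo.1 hx
  obtain ⟨t, ht, e⟩ := c.conj y hy
  have tn := sup_le hA hH ht
  refine ⟨H63.coset K t, ?_, ?_⟩
  · rw [← H63.quo_sup hA hH]
    exact H63.coset_mem_quo tn ht
  · rw [← H63.coset_mul yn (hA c.mem), ← e, H63.coset_mul (mul_mem tn (hA c.mem)) (inv_mem tn),
      H63.coset_mul tn (hA c.mem), H63.coset_inv tn]

variable [Finite Γ]

theorem CC.uniq (c : CC A H g) (hX : X ≤ A ⊔ H) (hs : A ≤ H ⊔ X) (hh : h ∈ H) (hy : h * g ∈ X)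
    (hs' : s ∈ A ⊔ H) (e : s * (h * g) * s⁻¹ ∈ X) : s ∈ X := by
  classical
  have := Fintype.ofFinite Γ
  have hG : A ⊔ H = H ⊔ X := le_antisymm (sup_le hs le_sup_left) (sup_le le_sup_right hX)
  have XH := hX.trans c.top
  have gG : g ∈ A ⊔ H := mem_sup_left c.mem
  have top := c.top
  have cj := c.conj
  generalize A ⊔ H = G at *
  have HG : H ≤ G := hG ▸ le_sup_left
  let fs : Subgroup Γ → Finset Γ := fun Y => Finset.univ.filter (· ∈ Y)
  have cs : ∀ Y : Subgroup Γ, (fs Y).card = Nat.card Y := fun Y => by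
    rw [Nat.card_eq_fintype_card, Fintype.card_subtype]
  have ms : ∀ {Y : Subgroup Γ} {x}, x ∈ fs Y ↔ x ∈ Y := by simp [fs]
  let r : Γ → Γ → Prop := fun n s => s * (n * g) * s⁻¹ ∈ X
  have h1 : ∀ n ∈ fs H, ((fs G).bipartiteAbove r n).card = ((fs G).bipartiteAbove r 1).card := by
    intro n hn
    obtain ⟨t, ht, e⟩ := cj n (ms.1 hn)
    refine Finset.card_bij (fun s _ => s * t) (fun s hs => ?_) (fun _ _ _ _ e => mul_right_cancel e)
      fun s hs => ⟨s * t⁻¹, ?_, by simp⟩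
    · rw [Finset.mem_bipartiteAbove] at hs ⊢
      refine ⟨ms.2 (mul_mem (ms.1 hs.1) ht), ?_⟩
      have := hs.2
      simp only [r, ← e] at this ⊢
      convert this using 1
      group
    · rw [Finset.mem_bipartiteAbove] at hs ⊢
      refine ⟨ms.2 (mul_mem (ms.1 hs.1) (inv_mem ht)), ?_⟩
      have := hs.2
      simp only [r, ← e] at this ⊢
      convert this using 1
      group
  have h2 : ∀ s ∈ fs G, ((fs H).bipartiteBelow r s).card = (fs (H ⊓ X)).card := by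
    intro s hs
    have sG := ms.1 hs
    obtain ⟨n₀, hn₀, x, hx, e⟩ := (mem_sup_left_norm XH).1
      (hG ▸ mul_mem (mul_mem sG gG) (inv_mem sG) : s * g * s⁻¹ ∈ H ⊔ X)
    have k : ∀ n, s * (n * g) * s⁻¹ = s * n * s⁻¹ * n₀ * x := fun n => by
      rw [mul_assoc _ n₀, e]; group
    refine Finset.card_bij (fun n _ => s * n * s⁻¹ * n₀) (fun n hn => ?_)
      (fun _ _ _ _ e => by simpa using e) fun m hm => ⟨s⁻¹ * (m * n₀⁻¹) * s, ?_, by group⟩
    · rw [Finset.mem_bipartiteBelow] at hn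
      refine ms.2 ⟨mul_mem ((mem_normalizer_iff.1 (top sG) n).1 (ms.1 hn.1)) hn₀, ?_⟩
      have := hn.2
      simp only [r, k] at this
      exact (X.mul_mem_cancel_right hx).1 this
    · rw [Finset.mem_bipartiteBelow]
      have hm' := ms.1 hm
      refine ⟨ms.2 ?_, ?_⟩
      · simpa using (mem_normalizer_iff.1 (top (inv_mem sG)) _).1 (mul_mem hm'.1 (inv_mem hn₀))
      · simp only [r, k]
        rw [show s * (s⁻¹ * (m * n₀⁻¹) * s) * s⁻¹ * n₀ * x = m * x by group]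
        exact X.mul_mem hm'.2 hx
  have h3 := Finset.card_mul_eq_card_mul r h1 h2
  have h4 := H67.card_sup_mul_card_inf' XH
  rw [cs, cs, cs, hG, h4] at h3
  have h5 := Nat.eq_of_mul_eq_mul_left Nat.card_pos h3
  rw [← hG, ← h1 h (ms.2 hh), ← cs] at h5
  have h6 : fs X = (fs G).bipartiteAbove r h := Finset.eq_of_subset_of_card_le (fun x hx => by
    rw [Finset.mem_bipartiteAbove]
    exact ⟨ms.2 (hX (ms.1 hx)), mul_mem (mul_mem (ms.1 hx) hy) (inv_mem (ms.1 hx))⟩) h5.le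
  exact ms.1 (h6 ▸ (Finset.mem_bipartiteAbove r).2 ⟨ms.2 hs', e⟩)

theorem CC.re (c : CC A H g) (h1 : A' ≤ A ⊔ H) (h2 : A ≤ H ⊔ A') (hK : K ≤ H)
    (hn : A' ≤ normalizer (K : Set Γ)) (hh : h ∈ H) (hg : h * g ∈ A') : CC A' K (h * g) := by
  refine ⟨hn, hg, fun k hk => ?_⟩
  obtain ⟨t, ht, e⟩ := c.conj (k * h) (mul_mem (hK hk) hh)
  obtain ⟨t', ht', e'⟩ := c.conj h hh
  have e2 : t * t'⁻¹ * (h * g) * (t * t'⁻¹)⁻¹ = k * (h * g) := by
    rw [← mul_assoc k, ← e, ← e']; group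
  exact ⟨_, c.uniq (sup_le h1 (hK.trans le_sup_right)) (h2.trans (sup_le_sup_left le_sup_left _)) hh
    (mem_sup_left hg) (mul_mem ht (inv_mem ht'))
    (e2 ▸ mul_mem (mem_sup_right hk) (mem_sup_left hg)), e2⟩

theorem CC.sub (c : CC A H g) (hK : K ≤ H) (hn : A ≤ normalizer (K : Set Γ)) : CC A K g := by
  simpa using c.re le_sup_left le_sup_right hK hn (one_mem H) (by simpa using c.mem)

theorem le_sup_of (hF : ∀ a ∈ A, ∃ h ∈ H, h⁻¹ * a ∈ X) :
    A ≤ H ⊔ (A ⊔ H) ⊓ X := fun a ha => by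
  obtain ⟨h, hh, e⟩ := hF a ha
  rw [← mul_inv_cancel_left h a]
  exact mul_mem (mem_sup_left hh) (mem_sup_right
    (mem_inf.2 ⟨mul_mem (inv_mem (mem_sup_right hh)) (mem_sup_left ha), e⟩))

theorem CC.uniq' (c : CC A H g) (hF : ∀ a ∈ A, ∃ h ∈ H, h⁻¹ * a ∈ X) (hh : h ∈ H)
    (hy : h * g ∈ X) (hs' : s ∈ A ⊔ H) (e : s * (h * g) * s⁻¹ ∈ X) : s ∈ X :=
  have m : h * g ∈ A ⊔ H := mul_mem (mem_sup_right hh) (mem_sup_left c.mem)
  (c.uniq inf_le_left (le_sup_of hF) hh ⟨m, hy⟩ hs'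
    (mem_inf.2 ⟨mul_mem (mul_mem hs' m) (inv_mem hs'), e⟩)).2

/-- Change of the operator group to a supplement. -/
theorem CC.change (c : CC A H g) (hF : ∀ a ∈ A, ∃ h ∈ H, h⁻¹ * a ∈ X) :
    ∃ h ∈ H, CC ((A ⊔ H) ⊓ X) H (h * g) := by
  obtain ⟨h, hh, e⟩ := hF g c.mem
  exact ⟨h⁻¹, inv_mem hh, c.re inf_le_left (le_sup_of hF) le_rfl (inf_le_left.trans c.top)
    (inv_mem hh) (mem_inf.2 ⟨mul_mem (inv_mem (mem_sup_right hh)) (mem_sup_left c.mem), e⟩)⟩

theorem CC.sylow (c : CC A H g) (hK : K ≤ H) (hn : A ≤ normalizer (K : Set Γ)) {p : ℕ}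
    [Fact p.Prime] {P : Subgroup Γ} (hP : IsSylowIn p P K) :
    ∃ h ∈ H, CC ((A ⊔ H) ⊓ normalizer (P : Set Γ)) H (h * g) :=
  c.change fun a ha => by
    obtain ⟨n, hn', b, hb, e⟩ := hP.frattini (hn ha)
    exact ⟨n, hK hn', by rw [e, inv_mul_cancel_left]; exact hb⟩

/-- Elements of the coset have no fixed points on `⁅V, F⁆`. -/
theorem CC.fpf (c : CC A H g) {V : Subgroup Γ} [IsMulCommutative V] (hV : V ≤ H)
    (hF : ∀ a ∈ A, ∃ h ∈ H, h⁻¹ * a ∈ normalizer (F : Set Γ)) (FV : F ≤ normalizer (V : Set Γ))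
    (cop : (Nat.card F).Coprime (Nat.card V)) (hh : h ∈ H)
    (hy : h * g ∈ normalizer (F : Set Γ)) {v : Γ} (hv : v ∈ ⁅V, F⁆) (hc : Commute v (h * g)) :
    v = 1 := by
  have vV := comm_le_left FV hv
  have h1 := c.uniq' hF hh hy (mem_sup_right (hV vV)) (by rw [hc.eq, mul_inv_cancel_right]; exact hy)
  have h2 : v ∈ centralizer (F : Set Γ) := fun f hf => by
    have : ⁅f, v⁆ ∈ F ⊓ V := ⟨comm_le_left (zpowers_le.2 h1)
      (commutator_mem_commutator hf (mem_zpowers v)), comm_le_right FV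
        (commutator_mem_commutator hf vV)⟩
    rw [(disjoint_of_coprime_natCard cop).eq_bot, mem_bot] at this
    exact commutatorElement_eq_one_iff_mul_comm.1 this
  exact mem_bot.1 (H4.centralizer_inf_commutator_eq_bot FV cop ▸ ⟨h2, hv⟩)

/-- A subgroup of `A H` normalized by `H` which supplements `H` contains `H`. -/
theorem CC.le_of_norm (c : CC A H g) (hF : ∀ a ∈ A, ∃ h ∈ H, h⁻¹ * a ∈ X)
    (hn : H ≤ normalizer (X : Set Γ)) : H ≤ X := fun s hs => by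
  obtain ⟨h, hh, e⟩ := hF g c.mem
  exact c.uniq' hF (inv_mem hh) e (mem_sup_right hs) ((mem_normalizer_iff.1 (hn hs) _).1 e)

theorem k4 {V G₀ : Subgroup Γ} (c : CC A H g) (hs : Group.IsSolvable H) (hVH : V ≤ H)
    (hV : IsElementaryAbelian 2 V) (hHV : H ≤ normalizer (V : Set Γ))
    (hAV : A ≤ normalizer (V : Set Γ)) (hG₀ : G₀ ≤ H) (hodd₀ : Odd (Nat.card G₀)) : ¬ Tr V G₀ := by
  intro htr₀
  have := Fact.mk Nat.prime_two
  have := hV.1
  obtain ⟨F, hF⟩ := H67.exists_hall ({2}ᶜ : Set ℕ) hs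
  have hFodd : Odd (Nat.card F) :=
    Nat.not_even_iff_odd.1 fun h => hF.2.1 2 Nat.prime_two h.two_dvd rfl
  obtain ⟨h, hh, hGF⟩ := H67.exists_cj_le_hall hs hF hG₀ fun p hp hd e => by
    rw [show p = 2 from e] at hd
    exact (Nat.not_even_iff_odd.2 hodd₀) (even_iff_two_dvd.2 hd)
  have fr : ∀ a ∈ A, ∃ k ∈ H, k⁻¹ * a ∈ normalizer (F : Set Γ) := fun a ha => by
    obtain ⟨k, hk, e⟩ := H67.hall_conj hs hF (H67.hall_cj_of_mem_normalizer hF (c.nrm ha))
    exact ⟨k, hk, H67.cj_eq_cj_iff.1 e⟩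
  obtain ⟨k, hk, hn⟩ := fr g c.mem
  have FV := hF.1.trans hHV
  have V2 := EA_isPGroup hV
  have cop : (Nat.card F).Coprime (Nat.card V) := by
    obtain ⟨j, hj⟩ := V2.exists_card_eq
    rw [hj]
    exact (Nat.coprime_two_right.2 hFodd).pow_right j
  have sV : k⁻¹ * g ∈ normalizer (V : Set Γ) := mul_mem (inv_mem (hHV hk)) (hAV c.mem)
  have tr := tr_cj (hHV hh) htr₀
  replace hGF : cj h G₀ ≤ F := hGF
  have o : Odd (Nat.card (cj h G₀)) := hFodd.of_dvd_nat (card_dvd_of_le hGF)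
  generalize cj h G₀ = G₁ at hGF tr o
  have hH : resOf 2 G₁ = G₁ := le_antisymm (resOf_le G₁) fun x hx =>
    mem_resOf hx (coprime_orderOf_of_mem (Nat.coprime_two_right.2 o) hx)
  have e2 : ⁅⁅V, F⁆, G₁⁆ = ⁅V, G₁⁆ := by
    have := comm_resOf_eq_of_le V2 (hGF.trans FV) (comm_le_left FV) (K := G₁)
      (by rw [hH]; exact commutator_mono le_rfl hGF)
    rwa [hH] at this
  refine SPL.k4core (s := k⁻¹ * g) (EA_mono hV (comm_le_left FV)) hFodd
    (H67.le_normalizer_commutator FV le_normalizer)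
    (H67.le_normalizer_commutator (zpowers_le.2 sV) (zpowers_le.2 hn) (mem_zpowers _)) hn
    (fun f hf v hv hc => ?_) hGF (by rw [Tr, e2]; exact tr)
  rw [← mul_assoc] at hc
  exact c.fpf hVH fr FV cop (mul_mem (hF.1 hf) (inv_mem hk))
    (mul_assoc f _ _ ▸ mul_mem (le_normalizer hf) hn) hv hc

theorem cent_of_ne {L : Subgroup Γ} (hL : H63.MinNormal L H) (hLH : L ≤ H) {x : Γ}
    (ha : x ∈ normalizer (H : Set Γ)) (hx : x ∉ normalizer (L : Set Γ)) {l : Γ} (hl : l ∈ L) :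
    x * l * x⁻¹ ∈ centralizer (L : Set Γ) := by
  have h1 : H ≤ normalizer (cj x L : Set Γ) := by
    rw [← cj_normalizer, ← cj_eq_self ha]
    exact cj_mono _ hL.norm
  have h2 : L ⊓ cj x L = ⊥ := hL.inf_eq_bot h1 fun hle => hx
    (cj_eq_self_iff.1 (eq_of_le_of_card_ge hle (card_cj _ L).le).symm)
  have h3 : cj x L ≤ centralizer (L : Set Γ) := by
    rw [← commutator_eq_bot_iff_le_centralizer, eq_bot_iff, ← h2]
    exact le_inf (comm_le_right ((cj_le_of_norm hLH ha).trans hL.norm))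
      (comm_le_left (hLH.trans h1))
  exact h3 (conj_mem_cj hl)

/-- Passage to a minimal normal subgroup of `H`. -/
theorem CC.comp (c : CC A H g) {L : Subgroup Γ} (hL : H63.MinNormal L H) (hLH : L ≤ H) :
    ∃ k : ℕ, CC (H63.quo ((A ⊔ H) ⊓ normalizer (L : Set Γ)) (centralizer (L : Set Γ)))
      (H63.quo L (centralizer (L : Set Γ))) (H63.coset (centralizer (L : Set Γ)) (g ^ k)) := by
  classical
  have hex : ∃ k, 0 < k ∧ g ^ k ∈ normalizer (L : Set Γ) :=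
    ⟨orderOf g, orderOf_pos g, by rw [pow_orderOf_eq_one]; exact one_mem _⟩
  obtain ⟨hk, hn⟩ := Nat.find_spec hex
  have nC := H4.normalizer_le_normalizer_centralizer (L : Set Γ)
  have gG : g ∈ A ⊔ H := mem_sup_left c.mem
  refine ⟨Nat.find hex, H63.quo_norms _ inf_le_right,
    H63.coset_mem_quo (nC hn) ⟨pow_mem gG _, hn⟩, fun x hx => ?_⟩
  obtain ⟨l, hl, ln, rfl⟩ := H63.mem_quo.1 hx
  have h1 : ∀ i, i < Nat.find hex → ∃ e ∈ centralizer (L : Set Γ),
      (l * g) ^ (i + 1) = e * (l * g ^ (i + 1)) := by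
    intro i
    induction i with
    | zero => exact fun _ => ⟨1, one_mem _, by simp⟩
    | succ i ih =>
      intro hi
      obtain ⟨e, he, h2⟩ := ih (by omega)
      have h3 := cent_of_ne hL hLH (pow_mem (c.nrm c.mem) (i + 1))
        (fun k => Nat.find_min hex hi ⟨i.succ_pos, k⟩) hl
      refine ⟨_, mul_mem he h3, ?_⟩
      rw [pow_succ (l * g), h2, mul_assoc e (_ * _ * _), ← mul_assoc (_ * _ * _), ← h3 l hl,
        pow_succ g (i + 1)]
      group
  obtain ⟨e, he, h2⟩ := h1 (Nat.find hex - 1) (by omega)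
  rw [Nat.sub_add_cancel hk] at h2
  generalize Nat.find hex = k at *
  obtain ⟨t, ht, et⟩ := c.conj l (hLH hl)
  have top := c.top
  generalize A ⊔ H = G at *
  let P : Γ → Set Γ := fun y => {s | s ∈ G ∧ ∃ τ ∈ G ⊓ normalizer (L : Set Γ),
    s⁻¹ * y ^ k * s * (τ * g ^ k * τ⁻¹)⁻¹ ∈ centralizer (L : Set Γ)}
  have p1 : P (l * g) = (fun s => t * s) '' P g := by
    ext s
    rw [← et]
    constructor
    · rintro ⟨hs, τ, hτ, h3⟩
      refine ⟨t⁻¹ * s, ⟨mul_mem (inv_mem ht) hs, τ, hτ, ?_⟩, by simp⟩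
      rw [conj_pow] at h3
      convert h3 using 1
      group
    · rintro ⟨s, ⟨hs, τ, hτ, h3⟩, rfl⟩
      refine ⟨mul_mem ht hs, τ, hτ, ?_⟩
      rw [conj_pow]
      convert h3 using 1
      group
  have p2 : P (l * g) ⊆ P g := by
    rintro s ⟨hs, τ, hτ, h3⟩
    refine ⟨hs, ?_⟩
    by_cases h4 : ∃ i : ℕ, s⁻¹ * g ^ i ∈ normalizer (L : Set Γ)
    · obtain ⟨i, hi⟩ := h4
      refine ⟨_, mem_inf.2 ⟨mul_mem (inv_mem hs) (pow_mem gG i), hi⟩, ?_⟩
      rw [show s⁻¹ * g ^ k * s * (s⁻¹ * g ^ i * g ^ k * (s⁻¹ * g ^ i)⁻¹)⁻¹ = 1 by group]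
      exact one_mem _
    push Not at h4
    have h5 : ∀ j : ℕ, s⁻¹ * ((l * g) ^ j * (g ^ j)⁻¹) * s ∈ centralizer (L : Set Γ) := fun j => by
      induction j with
      | zero => simp
      | succ j ih =>
        have := mul_mem ih (cent_of_ne hL hLH (top (mul_mem (inv_mem hs) (pow_mem gG j))) (h4 j) hl)
        convert this using 1
        rw [pow_succ, pow_succ]
        generalize (l * g) ^ j = z
        group
    refine ⟨τ, hτ, ?_⟩
    have := mul_mem (inv_mem (h5 k)) h3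
    convert this using 1
    generalize (l * g) ^ k = z
    group
  have p3 := Set.eq_of_subset_of_ncard_le p2 (by
    rw [p1, Set.ncard_image_of_injective _ (mul_right_injective t)])
  obtain ⟨-, τ, hτ, h3⟩ : 1 ∈ P (l * g) := p3 ▸ ⟨one_mem _, 1, one_mem _, by simp⟩
  have τn := nC hτ.2
  refine ⟨H63.coset _ τ, mem_sup_left (H63.coset_mem_quo τn hτ), ?_⟩
  rw [← H63.coset_inv τn, ← H63.coset_mul τn (nC hn), ← H63.coset_mul (mul_mem τn (nC hn))
    (inv_mem τn), ← H63.coset_mul ln (nC hn), H63.coset_eq_iff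
      (mul_mem (mul_mem τn (nC hn)) (inv_mem τn)) (mul_mem ln (nC hn))]
  rw [h2, inv_one, one_mul, mul_one, mul_assoc, mul_mem_cancel_left he] at h3
  have := (mem_normalizer_iff.1 (inv_mem (mul_mem (mul_mem τn (nC hn)) (inv_mem τn))) _).1 h3
  convert this using 1
  group

end Cfsg.Agent.H91.CCL
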