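import Cfsg.Agent.H91.CcA
import Cfsg.Agent.H88.FPSp

/-! The core cases of the module lemma for cosets inside one class (port of the kit of project
FPM). -/

set_option autoImplicit false
set_option linter.unusedSectionVars false
set_option linter.unusedVariables false

namespace Cfsg.Agent.H91.CCL

open Cfsg Cfsg.Agent.H63 Cfsg.Agent.H67 Cfsg.Agent.H69 Cfsg.Agent.H88 Subgroup
open Cfsg.Agent.H85.FP (Small)
open Cfsg.Agent.H88.FP (cj_W card_W_cj not_mem_cj)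
open scoped IsMulCommutative commutatorElement

universe u

variable {X : Type u} [Group X] [Finite X] {p : ℕ} {A R P N : Subgroup X} {s : X}

/-- The data of the core case. -/
structure Core (p : ℕ) (A : Subgroup X) (s : X) (R P N : Subgroup X) : Prop where
  pp : p.Prime
  p2 : p ≠ 2
  ea : IsElementaryAbelian 2 R
  pP : IsPGroup p P
  pN : IsPGroup 2 N
  op : CC A (R ⊔ P ⊔ N) s
  AR : A ≤ N[R]
  AP : A ≤ N[P]
  AN : A ≤ N[N]
  NR : N ≤ N[R]
  NP : N ≤ N[P]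
  PR : P ≤ N[R]
  faith : P ⊓ C[R] = ⊥

theorem k4c {H V : Subgroup X} (op : CC A H s) (sol : Group.IsSolvable H)
    (le : V ≤ H) (ea : IsElementaryAbelian 2 V) (HV : H ≤ N[V]) (AV : A ≤ N[V]) {y : X}
    (hy : y ∈ H) (o : Odd (orderOf y)) : Nat.card ↥⁅V, zpowers y⁆ ≠ 4 := fun c => by
  refine k4 op sol le ea HV AV (zpowers_le.2 hy)
    (Nat.card_zpowers y ▸ o) ⟨fun e => by simp [e] at c, fun v hv w hw v1 w1 => ?_⟩
  obtain ⟨k, hk⟩ := IsPGroup.iff_card.1 (elemAb_isPGroup ea)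
  have ti := coprime_abel_cent_TI (zpowers_le.2 (HV hy)) (by
    rw [Nat.card_zpowers, hk]; exact (Nat.coprime_two_right.2 o).pow_right k) ea.1
  rw [centralizer_zpowers] at ti
  have yW := le_norm_commutator_right V _ (mem_zpowers y)
  generalize ⁅V, zpowers y⁆ = W at *
  have nf : ∀ u ∈ W, u ≠ 1 → y * u * y⁻¹ ≠ u := fun u hu u1 e => u1 (ti.le ⟨hu,
    mem_centralizer_singleton_iff.2 (mul_inv_eq_iff_eq_mul.1 e).symm⟩)
  by_contra! n
  have m1 := conj_mem_of_mem_normalizer yW hv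
  have m2 := conj_mem_of_mem_normalizer yW m1
  have a1 : y * v * y⁻¹ ≠ 1 := by simpa using v1
  have a2 : y * (y * v * y⁻¹) * y⁻¹ ≠ 1 := by simpa using v1
  have a3 : y * (y * v * y⁻¹) * y⁻¹ ≠ v := fun e => nf v hv v1 (mul_inv_eq_iff_eq_mul.2
    (mem_centralizer_singleton_iff.1 (mem_of_pow_mem_of_coprime (Nat.coprime_two_right.2 o)
      (mem_centralizer_singleton_iff.2 (by nth_rw 2 [← e]; rw [sq]; group)))))
  have a4 : v ≠ w := by simpa using n 1 (one_mem _)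
  have a5 := n y (mem_zpowers y)
  have a6 : y * (y * v * y⁻¹) * y⁻¹ ≠ w := by
    simpa [mul_assoc] using n _ (mul_mem (mem_zpowers y) (mem_zpowers y))
  have a7 := nf v hv v1
  have a8 := nf _ m1 a1
  generalize y * (y * v * y⁻¹) * y⁻¹ = v2 at *
  generalize y * v * y⁻¹ = v' at *
  have := Set.ncard_le_ncard (s := {1, v, v', v2, w}) (t := (W : Set X))
    (by simp [Set.insert_subset_iff, *])
  rw [show (W : Set X).ncard = 4 from c,
    Set.ncard_insert_of_notMem (by simp [Ne.symm, *]), Set.ncard_insert_of_notMem (by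
      simp [Ne.symm, *]), Set.ncard_insert_of_notMem (by simp [Ne.symm, *]),
    Set.ncard_pair a6] at this
  omega

theorem five {W : Type*} [CommGroup W] [Finite W] (e2 : ∀ w : W, w * w = 1) (c : Nat.card W = 16)
    (σ ι τ : MulAut W) (h5 : ∀ w, σ (σ (σ (σ (σ w)))) = w) (fp : ∀ w, σ w = w → w = 1)
    (hι : ∀ w, σ (ι (σ w)) = ι w) (ι2 : ∀ w, ι (ι w) = w) (hτι : ∀ w, τ (ι w) = ι (τ w))
    (hτ : (∀ w, τ (σ w) = σ (σ (τ w))) ∨ ∀ w, τ (σ w) = σ (σ (σ (τ w)))) :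
    ∃ w, w ≠ 1 ∧ τ w = w := by
  classical
  have can : ∀ {a b : W}, a * b = 1 → a = b := fun {a b} e => mul_right_cancel (e.trans (e2 b).symm)
  have fp2 : ∀ w, σ (σ w) = w → w = 1 := fun w e => fp w (by
    have := h5 w
    rwa [e, e] at this)
  let U : Subgroup W := ι.toMonoidHom.eqLocus (MonoidHom.id W)
  have mU : ∀ {w}, w ∈ U ↔ ι w = w := Iff.rfl
  have cU : Nat.card U ≤ 4 := by
    have := Nat.card_le_card_of_injective (fun q : U × U => (q.1 : W) * σ q.2) (by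
      rintro ⟨a, b⟩ ⟨a', b'⟩ e
      dsimp only at e
      have e1 : σ (b * b') = a * a' := by
        rw [map_mul]
        refine can ?_
        calc _ = (a * σ b) * (a' * σ b') := by ac_rfl
          _ = 1 := by rw [e, e2]
      have e3 := hι (b * b')
      rw [e1, mU.1 (mul_mem a.2 a'.2), mU.1 (mul_mem b.2 b'.2), ← e1] at e3
      have e4 : b = b' := Subtype.ext (can (fp2 _ e3))
      subst e4
      exact Prod.ext (Subtype.ext (mul_right_cancel e)) rfl)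
    rw [Nat.card_prod, c] at this
    nlinarith
  obtain ⟨u, u1, hu⟩ : ∃ u, u ≠ 1 ∧ ι u = u := by
    have : Nontrivial W := Finite.one_lt_card_iff_nontrivial.1 (by omega)
    obtain ⟨w, hw⟩ := exists_ne (1 : W)
    by_cases e : w * ι w = 1
    · exact ⟨w, hw, (can e).symm⟩
    · exact ⟨_, e, by rw [map_mul, ι2, mul_comm]⟩
  have nm : ∀ w, w * σ w * σ (σ w) * σ (σ (σ w)) * σ (σ (σ (σ w))) = 1 := fun w =>
    fp _ (by simp only [map_mul, h5]; ac_rfl)
  have hi' : ∀ w, ι (σ w) = σ (σ (σ (σ (ι w)))) := fun w => by rw [← hι w, h5]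
  have be : ∀ w, τ (σ w * σ (σ (σ (σ w)))) = σ (σ (τ w)) * σ (σ (σ (τ w))) := fun w => by
    rcases hτ with e | e
    · simp only [map_mul, e, h5]
    · simp only [map_mul, e, h5, mul_comm]
  obtain ⟨a, ha⟩ : ∃ a, a = σ u * σ (σ (σ (σ u))) := ⟨_, rfl⟩
  have a1 : a ≠ 1 := fun e => u1 (fp2 _ (by
    have := congrArg σ (can (ha ▸ e))
    rwa [h5] at this))
  have a2 : u * a = σ (σ u) * σ (σ (σ u)) := can (by rw [← nm u, ha]; ac_rfl)
  have a3 : u * a ≠ 1 := fun e => u1 (by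
    have := fp _ (can (a2 ▸ e)).symm
    simpa using this)
  have a4 : ι a = a := by
    rw [ha, map_mul, hi', hi', hi', hi', hi', hu]
    simp only [h5, mul_comm]
  have au : a ≠ u := fun e => a3 (by rw [e, e2])
  have h4 : ({1, u, a, u * a} : Set W) = U := Set.eq_of_subset_of_ncard_le (by
    rintro _ (rfl | rfl | rfl | rfl)
    exacts [U.one_mem, hu, a4, U.mul_mem hu a4]) (by
    rw [← Nat.card_coe_set_eq, SetLike.coe_sort_coe,
      Set.ncard_insert_of_notMem (by simp [u1.symm, a1.symm, a3.symm]),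
      Set.ncard_insert_of_notMem (by simp [au.symm, a1]), Set.ncard_pair (by simp [u1])]
    exact cU)
  have h6 := be u
  rw [← ha] at h6
  rcases h4.ge (show τ u ∈ U from (hτι u).symm.trans (congrArg τ hu)) with e | e | e | e
  · exact absurd (by simpa using e) u1
  · exact ⟨u, u1, e⟩
  · refine ⟨_, a3, ?_⟩
    rw [map_mul, h6, e, mul_comm u, mul_right_inj, ha]
    simp only [map_mul, h5]
    exact (can (by rw [← nm u]; ac_rfl)).symm
  · refine ⟨_, a1, ?_⟩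
    rw [h6, show τ u = _ from e, a2, ha]
    simp only [map_mul, h5]
    calc _ = σ u * σ (σ (σ (σ u))) * (u * u) := by ac_rfl
      _ = _ := by rw [e2, mul_one]

section Core

variable (h : Core p A s R P N)
include h

theorem pR : IsPGroup 2 R := isPGroup_of_elemAb h.ea

theorem cPR : (Nat.card P).Coprime (Nat.card R) := coprime_pp h.pp Nat.prime_two h.p2 h.pP (pR h)

theorem odd {y : X} (hy : y ∈ P) : Odd (orderOf y) :=
  Nat.coprime_two_right.1 (Tu.ord_cop h.pp h.pP hy (Tu.cpp h.pp Nat.prime_two h.p2))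

theorem sol : Group.IsSolvable ↥(R ⊔ P ⊔ N) :=
  sup_comm N _ ▸ isSolvable_sup (sol_p Nat.prime_two h.pN) (sup_comm P R ▸ isSolvable_sup
    (sol_p h.pp h.pP) (sol_p Nat.prime_two (pR h)) h.PR) (le_normalizer_sup h.NR h.NP)

theorem W_le {y : X} (hy : y ∈ P) : ⁅R, zpowers y⁆ ≤ R :=
  commutator_le_of_norm_left (zpowers_le.2 (h.PR hy))

theorem W_ti {y : X} (hy : y ∈ P) : ⁅R, zpowers y⁆ ⊓ C1[y] = ⊥ :=
  centralizer_zpowers y ▸ coprime_abel_cent_TI (zpowers_le.2 (h.PR hy))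
    (cop_le (cPR h) (zpowers_le.2 hy) le_rfl) h.ea.1

theorem card_W {y : X} (hy : y ∈ P) {V : Subgroup X} (hV : V ≤ R) (hn : y ∈ N[V]) :
    Nat.card V = Nat.card ↥⁅V, zpowers y⁆ * Nat.card ↥(V ⊓ C1[y]) :=
  centralizer_zpowers y ▸ (coprime_abelian_cent_dprod (zpowers_le.2 hn)
    (cop_le (cPR h) (zpowers_le.2 hy) hV) (isMulCommutative_of_le h.ea.1 hV)).card

theorem le_W {y : X} (hy : y ∈ P) {V : Subgroup X} (hV : V ≤ R) (hn : y ∈ N[V])
    (h0 : V ⊓ C1[y] = ⊥) : ⁅V, zpowers y⁆ = V :=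
  coprime_commutator_eq_of_cent_eq_bot (zpowers_le.2 hn) (cop_le (cPR h) (zpowers_le.2 hy) hV)
    (Or.inl (isSolvable_of_isCyclic inferInstance)) (by rwa [centralizer_zpowers])

theorem eq_one_of {y : X} (hy : y ∈ P) (h1 : ⁅R, zpowers y⁆ ≤ C1[y]) : y = 1 := by
  have h2 := W_ti h hy
  rw [inf_eq_left.2 h1] at h2
  exact mem_bot.1 (h.faith ▸ ⟨hy, cent_symm (le_cent_of_commutator_eq_bot h2) (mem_zpowers y)⟩)

theorem sup_W {y : X} (hy : y ∈ P) : ⁅R, zpowers y⁆ ⊔ R ⊓ C1[y] = R :=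
  centralizer_zpowers y ▸ (coprime_abelian_cent_dprod (zpowers_le.2 (h.PR hy))
    (cop_le (cPR h) (zpowers_le.2 hy) le_rfl) h.ea.1).sup

theorem card_zp {y : X} (h1 : y ≠ 1) (hy : y ^ p = 1) : Nat.card (zpowers y) = p := by
  have := Fact.mk h.pp
  rw [Nat.card_zpowers, orderOf_eq_prime hy h1]

theorem card_mod {y : X} (hy : y ^ p = 1) {V : Subgroup X} (hV : V ≤ R) (V1 : V ≠ ⊥) (hn : y ∈ N[V])
    (h0 : V ⊓ C1[y] = ⊥) : Nat.card V ≡ 1 [MOD p] ∧ ∃ k, 2 ≤ k ∧ Nat.card V = 2 ^ k := by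
  have := Fact.mk Nat.prime_two
  have y1 : y ≠ 1 := by
    rintro rfl
    exact V1 (h0 ▸ (inf_eq_left.2 fun x _ => mem_centralizer_singleton_iff.2 (by simp)).symm)
  have h1 := semiregular_modEq (zpowers_le.2 hn) (H69.semiregular_of_prime_card
    ((card_zp h y1 hy).symm ▸ h.pp) (by rwa [centralizer_zpowers]))
  rw [card_zp h y1 hy] at h1
  obtain ⟨k, hk⟩ := ((pR h).to_le hV).exists_card_eq
  refine ⟨h1, k, ?_, hk⟩
  rcases k with _ | _ | k
  · exact absurd (card_eq_one.1 hk) V1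
  · rw [hk] at h1
    exact absurd (Nat.le_of_dvd one_pos ((Nat.modEq_iff_dvd' (by norm_num)).1 h1.symm))
      h.pp.one_lt.not_ge
  · omega

theorem eq_three (h1 : 4 ≡ 1 [MOD p]) : p = 3 :=
  (Nat.prime_dvd_prime_iff_eq h.pp Nat.prime_three).1 ((Nat.modEq_iff_dvd' (by norm_num)).1 h1.symm)

theorem sq_cent {b : X} (hb : b ∈ N) (hs : Small R b) : b * b ∈ C[P] := fun g hg => by
  have h1 : ⁅g, b * b⁆ ∈ P ⊓ C[R] := ⟨commutator_le_of_norm_left (zpowers_le.2 (h.NP (mul_mem hb hb)))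
    (commutator_mem_commutator hg (mem_zpowers _)), commutator_le_of_norm_right
      (le_normalizer_centralizer h.PR) (commutator_mem_commutator hg hs.sq)⟩
  exact commutatorElement_eq_one_iff_mul_comm.1 (mem_bot.1 (h.faith ▸ h1))

theorem inv_comm {b g : X} (hb : b ∈ N) (hs : Small R b) (hg : g ∈ P) :
    b * ⁅g, b⁆ * b⁻¹ = ⁅g, b⁆⁻¹ := by
  have := sq_cent h hb hs g⁻¹ (inv_mem hg)
  calc b * ⁅g, b⁆ * b⁻¹ = b * g * b⁻¹ * (b * b * g⁻¹) * (b * b)⁻¹ := by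
        simp only [commutatorElement_def]; group
    _ = _ := by rw [← this]; simp only [commutatorElement_def]; group

theorem cent_of_sq {y : X} (hy : y ∈ P) : C1[y * y] ≤ C1[y] := fun x hx =>
  mem_centralizer_singleton_comm.1 (mem_of_pow_mem_of_coprime
    (Tu.ord_cop h.pp h.pP hy (Tu.cpp h.pp Nat.prime_two h.p2))
    (pow_two y ▸ mem_centralizer_singleton_comm.1 hx))

theorem cent_inv {b y : X} (hy : y ∈ P) (hi : b * y * b⁻¹ = y⁻¹) :
    C1[b] ⊓ cj y C1[b] ≤ C1[y] := by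
  refine le_trans (fun x hx => ?_) (cent_of_sq h hy)
  rw [cj_centralizer_singleton] at hx
  have e : y * y = y * b * y⁻¹ * b⁻¹ := by rw [mul_assoc, mul_assoc, ← mul_assoc b, ← inv_inv
    (b * y⁻¹ * b⁻¹), show (b * y⁻¹ * b⁻¹)⁻¹ = b * y * b⁻¹ by group, hi, inv_inv]
  rw [mem_centralizer_singleton_comm, e]
  exact mul_mem (mem_centralizer_singleton_comm.1 hx.2)
    (inv_mem (mem_centralizer_singleton_comm.1 hx.1))

theorem le16 {b y : X} (hs : Small R b) (hy : y ∈ P) (hi : b * y * b⁻¹ = y⁻¹) :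
    Nat.card ↥⁅R, zpowers y⁆ ≤ 16 ∧ (Nat.card ↥⁅R, zpowers y⁆ = 16 → R ⊓ C1[y] ≤ C1[b]) := by
  have h1 : cj y (R ⊓ C1[b]) ≤ R := cj_le_of_mem_normalizer (h.PR hy) inf_le_left
  have h2 := card_sup_mul_card_inf (H := R ⊓ C1[b]) (K := cj y (R ⊓ C1[b]))
    (le_normalizer_of_le_centralizer (le_cent_of_comm h.ea.1 inf_le_left h1))
  have h3 := card_le_of_le (sup_le (inf_le_left (b := C1[b])) h1)
  have h4 : R ⊓ C1[b] ⊓ cj y (R ⊓ C1[b]) ≤ R ⊓ C1[y] := le_inf (inf_le_left.trans inf_le_left)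
    ((inf_le_inf inf_le_right (cj_mono inf_le_right)).trans (cent_inv h hy hi))
  have h5 := card_le_of_le h4
  have h6 := card_W h hy le_rfl (h.PR hy)
  have h7 := hs.card
  rw [card_cj] at h2
  have h8 : Nat.card R ≤ 16 * Nat.card ↥(R ⊓ C1[b] ⊓ cj y (R ⊓ C1[b])) :=
    Nat.le_of_mul_le_mul_left (by nlinarith [Nat.mul_le_mul h7 h7, Nat.mul_le_mul_right (Nat.card
      ↥(R ⊓ C1[b] ⊓ cj y (R ⊓ C1[b]))) h3]) (Nat.card_pos (α := R))
  refine ⟨Nat.le_of_mul_le_mul_right (h6 ▸ h8.trans (Nat.mul_le_mul_left _ h5)) Nat.card_pos,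
    fun e => (eq_of_le_of_card_ge h4 ?_).ge.trans (inf_le_left.trans inf_le_right)⟩
  rw [e] at h6
  omega

theorem ne8 {b y : X} (hs : Small R b) (hy : y ∈ P) (hi : b * y * b⁻¹ = y⁻¹) :
    Nat.card ↥⁅R, zpowers y⁆ ≠ 8 := by
  intro e
  set W := ⁅R, zpowers y⁆
  have WR := W_le h hy
  have hW := isMulCommutative_of_le h.ea.1 WR
  have bW : b ∈ N[W] := le_normalizer_commutator (zpowers_le.2 hs.nrm) (zpowers_le.2
    (cj_eq_self_iff.1 (by rw [cj_zpowers, hi, zpowers_inv]))) (mem_zpowers b)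
  have h1 : cj y (W ⊓ C1[b]) ≤ W :=
    cj_le_of_mem_normalizer (le_norm_commutator_right _ _ (mem_zpowers y)) inf_le_left
  have h2 := card_sup_of_inf_eq_bot (H := W ⊓ C1[b]) (K := cj y (W ⊓ C1[b])) (Or.inl
    (le_normalizer_of_le_centralizer (le_cent_of_comm hW inf_le_left h1))) (le_bot_iff.1
      (W_ti h hy ▸ le_inf (inf_le_left.trans inf_le_left)
        ((inf_le_inf inf_le_right (cj_mono inf_le_right)).trans (cent_inv h hy hi))))
  have h3 := card_le_of_le (sup_le (inf_le_left (b := C1[b])) h1)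
  rw [h2, card_cj, e] at h3
  let f : W →* W := conjOn W b * MonoidHom.id W
  have hf : ∀ w : W, (f w : X) = b * w * b⁻¹ * w := fun w => by simp [f, conjOn_apply bW]
  have h4 : f.ker ≤ C1[b].subgroupOf W := fun w hw => by
    have h5 := (hf w).symm.trans (congrArg Subtype.val hw)
    have h6 : (w : X) * w = 1 := by rw [← pow_two]; exact h.ea.2 w (WR w.2)
    exact mem_centralizer_singleton_iff.2 (mul_inv_eq_iff_eq_mul.1
      (mul_right_cancel (h5.trans h6.symm))).symm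
  have h5 : f.range ≤ C1[b].subgroupOf W := by
    rintro _ ⟨w, rfl⟩
    rw [mem_subgroupOf, hf, mem_centralizer_singleton_iff, eq_comm, ← mul_inv_eq_iff_eq_mul]
    nth_rw 2 [comm_of_isMulCommutative hW (conj_mem_of_mem_normalizer bW w.2) w.2]
    calc b * (b * w * b⁻¹ * w) * b⁻¹ = b * b * w * (b * b)⁻¹ * (b * w * b⁻¹) := by group
      _ = _ := by rw [conj_eq_of_mem_centralizer hs.sq (WR w.2)]
  have h6 := f.ker.card_mul_index
  have h7 : Nat.card (C1[b].subgroupOf W) = Nat.card ↥(W ⊓ C1[b]) := by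
    rw [← inf_subgroupOf_left, card_subgroupOf inf_le_left]
  rw [index_ker, e] at h6
  have := Nat.mul_le_mul (card_le_of_le h4) (card_le_of_le h5)
  rw [h7, h6] at this
  have h8 : Nat.card ↥(W ⊓ C1[b]) = 2 ∨ 3 ≤ Nat.card ↥(W ⊓ C1[b]) ∨ Nat.card ↥(W ⊓ C1[b]) ≤ 1 := by
    omega
  rcases h8 with h8 | h8 | h8 <;> nlinarith

theorem two_gen {g z : X} (hg : g ∈ P) (hz : z ∈ P) (g1 : g ^ p = 1) (z1 : z ^ p = 1) (z0 : z ≠ 1)
    (hc : Commute g z) (hn : g ∉ zpowers z) {V : Subgroup X} (hV : V ≤ R) (V1 : V ≠ ⊥)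
    (gV : g ∈ N[V]) (zV : z ∈ N[V]) :
    ∃ g' ∈ zpowers g, ∃ z' ∈ zpowers z, g' * z' ≠ 1 ∧ V ⊓ C1[g' * z'] ≠ ⊥ := by
  have h1 : zpowers g ≤ C[zpowers z] :=
    zpowers_le.2 (centralizer_zpowers z ▸ mem_centralizer_singleton_iff.2 hc)
  have h2 := le_normalizer_of_le_centralizer h1
  obtain ⟨e, he, e1, h3⟩ := exists_cent1_ne_bot (A := zpowers g ⊔ zpowers z) (K := V)
    (isMulCommutative_sup inferInstance inferInstance h1) (fun hcy => hn (by
      have h3 : Nat.card ↥(zpowers g ⊔ zpowers z) ∣ p := by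
        rw [← IsCyclic.exponent_eq_card]
        refine Monoid.exponent_dvd_of_forall_pow_eq_one fun x => Subtype.ext ?_
        obtain ⟨_, ⟨i, rfl⟩, _, ⟨j, rfl⟩, e⟩ := (mem_sup_of_le_normalizer h2).1 x.2
        rw [SubgroupClass.coe_pow, ← e, (hc.zpow_zpow i j).mul_pow, ← zpow_natCast, ← zpow_natCast,
          ← zpow_mul, ← zpow_mul, mul_comm i, mul_comm j, zpow_mul, zpow_mul, zpow_natCast,
          zpow_natCast, g1, z1]
        simp
      exact (eq_of_le_of_card_ge le_sup_right (by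
        rw [card_zp h z0 z1]; exact Nat.le_of_dvd h.pp.pos h3)).ge (mem_sup_left (mem_zpowers g))))
    (sup_le (zpowers_le.2 gV) (zpowers_le.2 zV))
    (cop_le (cPR h) (sup_le (zpowers_le.2 hg) (zpowers_le.2 hz)) hV) V1
  obtain ⟨a, ha, c, hc', rfl⟩ := (mem_sup_of_le_normalizer h2).1 he
  exact ⟨a, ha, c, hc', e1, h3⟩

theorem zp_symm {x y : X} (hy : y ^ p = 1) (x1 : x ≠ 1) (hx : x ∈ zpowers y) : y ∈ zpowers x := by
  have y1 : y ≠ 1 := by
    rintro rfl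
    exact x1 (by simpa using hx)
  exact (H63.zpowers_eq_of_prime_card' ((card_zp h y1 hy).symm ▸ h.pp) hx x1).ge (mem_zpowers y)

theorem one_of_inv {y : X} (hy : y ∈ P) (h1 : y = y⁻¹) : y = 1 :=
  mem_bot.1 (mem_of_pow_mem_of_coprime (H := ⊥)
    (Tu.ord_cop h.pp h.pP hy (Tu.cpp h.pp Nat.prime_two h.p2))
    (by rw [pow_two, mem_bot]; nth_rw 1 [h1]; exact inv_mul_cancel y))

theorem W_mod {y : X} (hy : y ∈ P) (yp : y ^ p = 1) (y1 : y ≠ 1) :
    Nat.card ↥⁅R, zpowers y⁆ ≡ 1 [MOD p] ∧ ∃ k, 2 ≤ k ∧ Nat.card ↥⁅R, zpowers y⁆ = 2 ^ k :=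
  card_mod h yp (W_le h hy) (fun e => y1 (eq_one_of h hy (e ▸ bot_le)))
    (le_norm_commutator_right _ _ (mem_zpowers y)) (W_ti h hy)

theorem four_le {y : X} (hy : y ^ p = 1) {V : Subgroup X} (hV : V ≤ R) (V1 : V ≠ ⊥) (hn : y ∈ N[V])
    (h0 : V ⊓ C1[y] = ⊥) : 4 ≤ Nat.card V := by
  obtain ⟨-, k, hk, e⟩ := card_mod h hy hV V1 hn h0
  exact e ▸ Nat.pow_le_pow_right two_pos hk

variable (hP : IsElementaryAbelian p P)
include hP

theorem norm_W {y : X} (hy : y ∈ P) : P ≤ N[⁅R, zpowers y⁆] :=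
  le_normalizer_commutator h.PR (le_normalizer_of_le_centralizer
    (le_cent_of_comm hP.1 le_rfl (zpowers_le.2 hy)))

theorem norm_C {x y : X} (hx : x ∈ P) (hy : y ∈ P) : P ≤ N[⁅R, zpowers x⁆ ⊓ C1[y]] :=
  le_normalizer_inf (norm_W h hP hx) (centralizer_zpowers y ▸ le_normalizer_of_le
    (le_cent_of_comm hP.1 le_rfl (zpowers_le.2 hy)))

theorem eq_min {y y' : X} (hy : y ∈ P) (y1 : y ≠ 1)
    (hm : ∀ x ∈ P, x ≠ 1 → Nat.card ↥⁅R, zpowers y⁆ ≤ Nat.card ↥⁅R, zpowers x⁆) (hy' : y' ∈ P)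
    (hle : ⁅R, zpowers y'⁆ ≤ ⁅R, zpowers y⁆) : y' ∈ zpowers y := by
  by_contra hn
  obtain ⟨a, ha, c, hc, e1, h1⟩ := two_gen h hy' hy (hP.2 _ hy') (hP.2 _ hy) y1
    (comm_of_isMulCommutative hP.1 hy' hy) hn (W_le h hy)
    (fun e => y1 (eq_one_of h hy (e ▸ bot_le))) (norm_W h hP hy hy') (norm_W h hP hy hy)
  have h2 : a * c ∈ P := mul_mem (zpowers_le.2 hy' ha) (zpowers_le.2 hy hc)
  have h3 : ⁅R, zpowers (a * c)⁆ ≤ ⁅R, zpowers y⁆ := (commutator_mono le_rfl (zpowers_le.2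
    (mul_mem (mem_sup_left ha) (mem_sup_right hc)))).trans (commutator_sup_right_le
      (zpowers_le.2 (norm_W h hP hy hy')) (zpowers_le.2 (norm_W h hP hy hy)) hle le_rfl)
  exact h1 (eq_of_le_of_card_ge h3 (hm _ h2 e1) ▸ W_ti h h2)

theorem case4 {y : X} (hy : y ∈ P) :
    Nat.card ↥⁅R, zpowers y⁆ ≠ 4 :=
  k4c h.op (sol h) (le_sup_left.trans le_sup_left) h.ea (sup_le (sup_le le_normalizer h.PR) h.NR)
    h.AR (mem_sup_left (mem_sup_right hy)) (odd h hy)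

variable (hm : ∀ x ∈ P, x ≠ 1 → 16 ≤ Nat.card ↥⁅R, zpowers x⁆)
include hm

theorem refl {b y : X} (hb : b ∈ N) (hs : Small R b) (hy : y ∈ P) (y1 : y ≠ 1)
    (hi : b * y * b⁻¹ = y⁻¹) : Nat.card ↥⁅R, zpowers y⁆ = 16 ∧ ∀ g ∈ P, ⁅g, b⁆ ∈ zpowers y := by
  obtain ⟨h1, h2⟩ := le16 h hs hy hi
  have h3 := le_antisymm h1 (hm y hy y1)
  refine ⟨h3, fun g hg => eq_min h hP hy y1 (h3 ▸ hm) (commutator_le_of_norm_left
    (zpowers_le.2 (h.NP hb)) (commutator_mem_commutator hg (mem_zpowers b))) ?_⟩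
  have bW : zpowers b ≤ N[⁅R, zpowers y⁆] := le_normalizer_commutator (zpowers_le.2 hs.nrm)
    (zpowers_le.2 (cj_eq_self_iff.1 (by rw [cj_zpowers, hi, zpowers_inv])))
  have h4 : zpowers b ≤ stabMod R ⁅R, zpowers y⁆ := le_stabMod_of_le (W_le h hy) (by
    nth_rw 1 [← sup_W h hy]
    exact commutator_sup_left_le le_normalizer (inf_le_left.trans (le_norm_commutator_left _ _))
      (commutator_le_of_norm_left bW)
      ((commutator_eq_bot_of_cent (centralizer_zpowers b ▸ h2 h3)).le.trans bot_le))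
  exact commutator_le_of_le_stabMod (zpowers_le.2 (commutator_le_of_norm_right
    (le_norm_stabMod h.PR (norm_W h hP hy)) (commutator_mem_commutator hg (h4 (mem_zpowers b)))))

theorem tri {y y' v : X} (hy : y ∈ P) (hy' : y' ∈ P) (y1 : y ≠ 1) (hn : y' ∉ zpowers y)
    (c1 : Nat.card ↥⁅R, zpowers y⁆ = 16) (c2 : Nat.card ↥⁅R, zpowers y'⁆ = 16)
    (hv : v ∈ zpowers y) (v1 : v ≠ 1) (c3 : Nat.card ↥⁅R, zpowers (y' * v)⁆ = 16) :
    p = 3 ∧ ⁅R, zpowers y⁆ ⊓ C1[y'] ⊔ ⁅R, zpowers y'⁆ ⊓ C1[y] = ⁅R, zpowers (y' * v)⁆ := by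
  have y1' : y' ≠ 1 := fun e => hn (e ▸ one_mem _)
  have key : ∀ x ∈ P, ∀ x' ∈ P, x' ≠ 1 → x ∉ zpowers x' → Nat.card ↥⁅R, zpowers x'⁆ = 16 →
      Nat.card ↥(⁅R, zpowers x⁆ ⊓ C1[x']) ≡ 1 [MOD p] ∧ 4 ≤ Nat.card ↥(⁅R, zpowers x⁆ ⊓ C1[x']) := by
    intro x hx x' hx' x1 hn c
    have h1 : ⁅R, zpowers x⁆ ⊓ C1[x'] ≠ ⊥ := fun e => hn (eq_min h hP hx' x1 (c ▸ hm) hx
      ((le_W h hx' (W_le h hx) (norm_W h hP hx hx') e).ge.trans (commutator_mono (W_le h hx) le_rfl)))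
    have h2 := le_bot_iff.1 (W_ti h hx ▸ inf_le_inf_right C1[x] (inf_le_left (b := C1[x'])))
    exact ⟨(card_mod h (hP.2 _ hx) (inf_le_left.trans (W_le h hx)) h1 (norm_C h hP hx hx' hx) h2).1,
      four_le h (hP.2 _ hx) (inf_le_left.trans (W_le h hx)) h1 (norm_C h hP hx hx' hx) h2⟩
  obtain ⟨a1, a2⟩ := key y hy y' hy' y1' (fun e => hn (zp_symm h (hP.2 _ hy') y1 e)) c2
  obtain ⟨-, a3⟩ := key y' hy' y hy y1 hn c1
  have vP := zpowers_le.2 hy hv
  have uP := mul_mem hy' vP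
  have h1 : ∀ x ∈ P, ∀ x' ∈ P, ⁅R, zpowers x⁆ ⊓ C1[x'] ⊓ C1[y' * v] ≤ C1[x] →
      ⁅R, zpowers x⁆ ⊓ C1[x'] ≤ ⁅R, zpowers (y' * v)⁆ := fun x hx x' hx' e =>
    (le_W h uP (inf_le_left.trans (W_le h hx)) (norm_C h hP hx hx' uP) (le_bot_iff.1
      (W_ti h hx ▸ le_inf (inf_le_left.trans inf_le_left) e))).ge.trans
      (commutator_mono (inf_le_left.trans (W_le h hx)) le_rfl)
  have h2 := sup_le (h1 y hy y' hy' fun w hw => mem_centralizer_singleton_comm.1
    (zpowers_le.2 ((mul_mem_cancel_left (mem_centralizer_singleton_comm.1 hw.1.2)).1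
      (mem_centralizer_singleton_comm.1 hw.2)) (zp_symm h (hP.2 _ hy) v1 hv)))
    (h1 y' hy' y hy fun w hw => mem_centralizer_singleton_comm.1 ((mul_mem_cancel_right
      (zpowers_le.2 (mem_centralizer_singleton_comm.1 hw.1.2) hv)).1
      (mem_centralizer_singleton_comm.1 hw.2)))
  have h3 := card_sup_of_inf_eq_bot (H := ⁅R, zpowers y⁆ ⊓ C1[y']) (K := ⁅R, zpowers y'⁆ ⊓ C1[y])
    (Or.inl (le_normalizer_of_le_centralizer (le_cent_of_comm h.ea.1
      (inf_le_left.trans (W_le h hy)) (inf_le_left.trans (W_le h hy')))))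
    (le_bot_iff.1 (W_ti h hy ▸ inf_le_inf inf_le_left inf_le_right))
  have h4 := card_le_of_le h2
  rw [h3, c3] at h4
  refine ⟨eq_three h (by rwa [show Nat.card ↥(⁅R, zpowers y⁆ ⊓ C1[y']) = 4 by nlinarith] at a1),
    eq_of_le_of_card_ge h2 (by rw [h3, c3]; exact Nat.mul_le_mul a2 a3)⟩

theorem refl_comm {b b' y y' : X} (hb : b ∈ N) (hs : Small R b) (hb' : b' ∈ N) (hs' : Small R b')
    (hy : y ∈ P) (hy' : y' ∈ P) (y1 : y ≠ 1) (hi : b * y * b⁻¹ = y⁻¹) (hi' : b' * y' * b'⁻¹ = y'⁻¹)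
    (hn : y' ∉ zpowers y) : b * y' * b⁻¹ = y' := by
  by_contra h1
  have y1' : y' ≠ 1 := fun e => hn (e ▸ one_mem _)
  have h2 := (refl h hP hm hb hs hy y1 hi).2 _ (inv_mem hy')
  have h3 := inv_comm h hb hs (inv_mem hy')
  set x := ⁅y'⁻¹, b⁆ with hx
  have h4 : b * y' * b⁻¹ = y' * x := by rw [hx, commutatorElement_def]; group
  have x1 : x ≠ 1 := fun e => h1 (by rw [h4, e, mul_one])
  have xP := zpowers_le.2 hy h2
  have hn' : y' ∉ zpowers x := fun e => hn (zpowers_le.2 h2 e)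
  have c1 := (refl h hP hm hb hs xP x1 h3).1
  obtain ⟨c2, h5⟩ := refl h hP hm hb' hs' hy' y1' hi'
  have c3 : Nat.card ↥⁅R, zpowers (y' * x)⁆ = 16 := by rw [← h4, card_W_cj hs.nrm, c2]
  obtain ⟨p3, t1⟩ := tri h hP hm xP hy' x1 hn' c1 c2 (mem_zpowers x) x1 c3
  have hc := comm_of_isMulCommutative hP.1 xP hy'
  have t2 : Nat.card ↥⁅R, zpowers (x * y'⁻¹)⁆ ≠ 16 := fun c4 => by
    rw [← zpowers_inv, mul_inv_rev, inv_inv] at c4
    have t3 := (tri h hP hm xP hy' x1 hn' c1 c2 (inv_mem (mem_zpowers x)) (inv_ne_one.2 x1) c4).2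
    have uP := mul_mem hy' xP
    have u1 : y' * x ≠ 1 := fun e => hn' (eq_inv_of_mul_eq_one_left e ▸ inv_mem (mem_zpowers x))
    have t4 := eq_min h hP uP u1 (c3 ▸ hm) (mul_mem hy' (inv_mem xP)) (t3.symm.trans t1).le
    have t5 : x ∈ zpowers (y' * x) := mem_of_pow_mem_of_coprime
      (Tu.ord_cop h.pp h.pP xP (Tu.cpp h.pp Nat.prime_two h.p2)) (by
        have := mul_mem (inv_mem t4) (mem_zpowers (y' * x))
        rwa [show (y' * x⁻¹)⁻¹ * (y' * x) = x ^ 2 by rw [pow_two]; group] at this)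
    exact hn' ((mul_mem_cancel_right (mem_zpowers x)).1 (zp_symm h (hP.2 _ uP) x1 t5))
  obtain ⟨k, hk, e⟩ : ∃ k < 3, y' ^ k = ⁅x⁻¹, b'⁆ := by
    classical
    obtain ⟨k, hk, e⟩ := Finset.mem_image.1 (mem_zpowers_iff_mem_range_orderOf.1 (h5 _ (inv_mem xP)))
    rw [← Nat.card_zpowers, card_zp h y1' (hP.2 _ hy'), p3, Finset.mem_range] at hk
    exact ⟨k, hk, e⟩
  have h6 : b' * x * b'⁻¹ = x * y' ^ k := by rw [e, commutatorElement_def]; group
  interval_cases k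
  · refine t2 ?_
    rw [← c3, ← card_W_cj hs'.nrm (y' * x), ← conj_mul, hi', h6, pow_zero, mul_one,
      (Commute.inv_right hc).eq]
  · have g1 : b * b' * x * (b * b')⁻¹ = y' := by
      rw [show b * b' * x * (b * b')⁻¹ = b * (b' * x * b'⁻¹) * b⁻¹ by group, h6, pow_one, ← conj_mul,
        h3, h4, ← hc, inv_mul_cancel_left]
    have g2 : b * b' * y' * (b * b')⁻¹ = (y' * x)⁻¹ := by
      rw [show b * b' * y' * (b * b')⁻¹ = b * (b' * y' * b'⁻¹) * b⁻¹ by group, hi', ← h4]; group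
    set g := b * b'
    have g3 : g ^ 3 * x * (g ^ 3)⁻¹ = x := by
      rw [show g ^ 3 * x * (g ^ 3)⁻¹ = g * (g * (g * x * g⁻¹) * g⁻¹) * g⁻¹ by
        rw [pow_three]; simp only [mul_inv_rev, mul_assoc], g1, g2, ← conj_inv, ← conj_mul, g1, g2]
      group
    have g4 := mem_of_pow_mem_of_coprime (H := C1[x]) (Tu.ord_cop Nat.prime_two h.pN (mul_mem hb hb')
      (n := 3) (by norm_num)) (mem_centralizer_singleton_iff.2 (mul_inv_eq_iff_eq_mul.1 g3))
    rw [mem_centralizer_singleton_iff.1 g4, mul_inv_cancel_right] at g1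
    exact hn' (g1 ▸ mem_zpowers x)
  · refine t2 ?_
    have : y' ^ 2 = y'⁻¹ := eq_inv_of_mul_eq_one_left (by rw [← pow_succ]; exact (p3 ▸ hP.2 _ hy' : y' ^ 3 = 1))
    rw [← this, ← h6, card_W_cj hs'.nrm, c1]

omit hm in
theorem full (p5 : p = 5) {x : X} (hx : x ∈ P) (c : Nat.card ↥⁅R, zpowers x⁆ = 16) {V : Subgroup X}
    (xV : x ∈ N[V]) (V1 : ⁅R, zpowers x⁆ ⊓ V ≠ ⊥) : ⁅R, zpowers x⁆ ≤ V := by
  obtain ⟨h1, k, hk, e⟩ := card_mod h (hP.2 _ hx) (inf_le_left.trans (W_le h hx)) V1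
    (le_normalizer_inf (le_norm_commutator_right _ _) (zpowers_le.2 xV) (mem_zpowers x))
    (le_bot_iff.1 (W_ti h hx ▸ inf_le_inf_right C1[x] inf_le_left))
  have h2 := card_le_of_le (inf_le_left : ⁅R, zpowers x⁆ ⊓ V ≤ _)
  refine inf_eq_left.1 (eq_of_le_of_card_ge inf_le_left ?_)
  rw [e, p5] at h1
  rw [e, c] at h2 ⊢
  have k5 : k ≤ 4 := (Nat.pow_le_pow_iff_right one_lt_two).1 (h2.trans (by norm_num))
  interval_cases k
  · exact absurd h1 (by decide)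
  · exact absurd h1 (by decide)
  · norm_num

theorem case16 (h35 : p = 3 ∨ p = 5) {b y : X} (hb : b ∈ N) (hs : Small R b) (hy : y ∈ P)
    (y1 : y ≠ 1) (hi : b * y * b⁻¹ = y⁻¹) : False := by
  classical
  have hc := hP.1
  have hc' := h.ea.1
  have sA := h.op.mem
  have h1 : ∀ a : X, a * b * a⁻¹ * (a * y * a⁻¹) * (a * b * a⁻¹)⁻¹ = (a * y * a⁻¹)⁻¹ := fun a => by
    rw [conj_inv (a := y), ← hi]; group
  have h2 : ∀ a ∈ A, a * y * a⁻¹ ∈ P := fun a ha => conj_mem_of_mem_normalizer (h.AP ha) hy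
  have h3 : ∀ a ∈ A, a * b * a⁻¹ ∈ N := fun a ha => conj_mem_of_mem_normalizer (h.AN ha) hb
  have hex : ∃ k, 0 < k ∧ s ^ k * y * (s ^ k)⁻¹ ∈ zpowers y :=
    ⟨orderOf s, orderOf_pos s, by simp⟩
  obtain ⟨hk, hz⟩ := Nat.find_spec hex
  have h4 : ∀ i, 0 < i → i < Nat.find hex → s ^ i * y * (s ^ i)⁻¹ ∉ zpowers y :=
    fun i i0 ik e => Nat.find_min hex ik ⟨i0, e⟩
  generalize Nat.find hex = m at hk hz h4
  have nf : y ∉ C1[b] := fun e => y1 (one_of_inv h hy (by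
    rw [← hi, ← mem_centralizer_singleton_iff.1 e, mul_inv_cancel_right]))
  have NP : ⁅P, N⁆ ≤ P := commutator_le_of_norm_left h.NP
  have pm : ∀ n, n = 1 ∨ n = b → n * (s ^ m * y * (s ^ m)⁻¹) * n⁻¹ ≠ y := fun n hn e => by
    have nN : n ∈ N := by rcases hn with rfl | rfl; exacts [one_mem _, hb]
    have := isMulCommutative_of_le hc NP
    refine nf (SPL.norm_mem (V := ⁅P, N⁆) (le_normalizer_commutator h.NP le_normalizer nN)
      (le_normalizer_commutator h.AP h.AN sA) (mem_of_pow_mem_of_coprime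
        (Tu.ord_cop h.pp h.pP hy (Tu.cpp h.pp Nat.prime_two h.p2)) ?_) hk (fun i i0 ik => ?_) e
      fun w hw => h.op.fpf (le_sup_right.trans le_sup_left)
        (fun a ha => ⟨1, one_mem _, by simpa using h.AN ha⟩) h.NP
        (coprime_pp Nat.prime_two h.pp h.p2.symm h.pN h.pP) (mem_sup_right nN)
        (mul_mem (le_normalizer nN) (h.AN sA)) hw)
    · convert commutator_mem_commutator hy hb using 1
      rw [commutatorElement_def, mul_assoc, mul_assoc, ← mul_assoc b, ← conj_inv, hi, inv_inv, sq]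
    · have a := pow_mem sA i
      have k := refl_comm h hP hm hb hs (h3 _ a) (hs.conj (h.AR a)) hy (h2 _ a) y1 hi (h1 _)
        (h4 i i0 ik)
      refine ⟨mem_centralizer_singleton_iff.2 (mul_inv_eq_iff_eq_mul.1 k).symm, ?_⟩
      rcases hn with rfl | rfl
      · simp
      · exact k
  have yp := hP.2 _ hy
  have a := pow_mem sA m
  have z1 : s ^ m * y * (s ^ m)⁻¹ ≠ 1 := by simpa using y1
  have q1 := pm 1 (Or.inl rfl)
  have q2 : s ^ m * y * (s ^ m)⁻¹ ≠ y⁻¹ := fun e => pm b (Or.inr rfl) (by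
    rw [e, ← conj_inv, hi, inv_inv])
  rw [one_mul, inv_one, mul_one] at q1
  obtain ⟨j, hj⟩ := mem_powers_iff_mem_zpowers.2 hz
  have hj' : s ^ m * y * (s ^ m)⁻¹ = y ^ (j % p) := by
    rw [← pow_eq_pow_mod j yp]; exact hj.symm
  have jp := Nat.mod_lt j h.pp.pos
  generalize j % p = r at hj' jp
  rcases h35 with p3 | p5
  · rw [p3] at jp yp
    rw [hj'] at z1 q1 q2
    interval_cases r
    · simp at z1
    · simp at q1
    · exact q2 (eq_inv_of_mul_eq_one_left (by rw [← pow_succ]; exact yp))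
  have c16 := (refl h hP hm hb hs hy y1 hi).1
  have ez : zpowers (s ^ m * y * (s ^ m)⁻¹) = zpowers y :=
    le_antisymm (zpowers_le.2 hz) (zpowers_le.2 (zp_symm h yp z1 hz))
  have WR := W_le h hy
  have yW := norm_W h hP hy hy
  have bW : b ∈ N[⁅R, zpowers y⁆] := cj_eq_self_iff.1 (by rw [cj_W hs.nrm, hi, zpowers_inv])
  have zW : s ^ m ∈ N[⁅R, zpowers y⁆] := cj_eq_self_iff.1 (by rw [cj_W (h.AR a), ez])
  have dy : b⁻¹ * (s ^ m * b * (s ^ m)⁻¹) ∈ C1[y] := by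
    obtain ⟨i, e⟩ := ez.ge (mem_zpowers y)
    have k := congrArg (· ^ i) (h1 (s ^ m))
    dsimp only at e k
    rw [conj_zpow, inv_zpow, e] at k
    rw [mem_centralizer_singleton_iff, ← mul_inv_eq_iff_eq_mul]
    calc _ = b⁻¹ * (s ^ m * b * (s ^ m)⁻¹ * y * (s ^ m * b * (s ^ m)⁻¹)⁻¹) * b := by group
      _ = _ := by rw [k, ← hi]; group
  have dN := mul_mem (inv_mem hb) (h3 _ a)
  have dW := full h hP p5 hy c16 (V := C[zpowers (b⁻¹ * (s ^ m * b * (s ^ m)⁻¹))])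
    (le_normalizer (centralizer_zpowers (G := X) _ ▸ mem_centralizer_singleton_comm.1 dy))
    (inf_centralizer_ne_bot_of_isPGroup Nat.prime_two (h.pN.to_le (zpowers_le.2 dN))
      ((pR h).to_le WR) (zpowers_le.2 (mul_mem (inv_mem bW) (mul_mem (mul_mem zW bW) (inv_mem zW))))
      fun e => by simp [e] at c16)
  have := isMulCommutative_of_le hc' WR
  obtain ⟨w, w1, hw⟩ := five (W := ↥⁅R, zpowers y⁆)
    (fun w => Subtype.ext (by simpa [sq] using h.ea.2 w (WR w.2))) c16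
    ((⁅R, zpowers y⁆).normalizerMonoidHom ⟨y, yW⟩) ((⁅R, zpowers y⁆).normalizerMonoidHom ⟨b, bW⟩)
    ((⁅R, zpowers y⁆).normalizerMonoidHom ⟨_, zW⟩)
    (fun w => Subtype.ext (by
      change y * (y * (y * (y * (y * w * y⁻¹) * y⁻¹) * y⁻¹) * y⁻¹) * y⁻¹ = w
      calc _ = y ^ 5 * w * (y ^ 5)⁻¹ := by simp only [pow_succ, pow_zero, one_mul, mul_inv_rev, mul_assoc]
        _ = _ := by rw [← p5, yp]; simp))
    (fun w e => Subtype.ext (mem_bot.1 (W_ti h hy ▸ ⟨w.2, mem_centralizer_singleton_iff.2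
      (mul_inv_eq_iff_eq_mul.1 (congrArg Subtype.val e)).symm⟩)))
    (fun w => Subtype.ext (by
      change y * (b * (y * w * y⁻¹) * b⁻¹) * y⁻¹ = b * w * b⁻¹
      calc _ = y * (b * y * b⁻¹) * (b * w * b⁻¹) * (y * (b * y * b⁻¹))⁻¹ := by group
        _ = _ := by rw [hi]; group))
    (fun w => Subtype.ext (by
      change b * (b * w * b⁻¹) * b⁻¹ = w
      calc _ = b * b * w * (b * b)⁻¹ := by group
        _ = _ := conj_eq_of_mem_centralizer hs.sq (WR w.2)))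
    (fun w => Subtype.ext (by
      change s ^ m * (b * w * b⁻¹) * (s ^ m)⁻¹ = b * (s ^ m * w * (s ^ m)⁻¹) * b⁻¹
      have k := dW (conj_mem_of_mem_normalizer zW w.2) _ (mem_zpowers _)
      calc _ = b * (b⁻¹ * (s ^ m * b * (s ^ m)⁻¹) * (s ^ m * w * (s ^ m)⁻¹)) *
            (s ^ m * b * (s ^ m)⁻¹)⁻¹ := by group
        _ = _ := by rw [k]; group))
    (by
      have k : ∀ w : X, s ^ m * (y * w * y⁻¹) * (s ^ m)⁻¹ =
          y ^ r * (s ^ m * w * (s ^ m)⁻¹) * (y ^ r)⁻¹ := fun w => by rw [← hj']; group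
      rw [p5] at jp yp
      rw [hj'] at z1 q1 q2
      interval_cases r
      · simp at z1
      · simp at q1
      · refine Or.inl fun w => Subtype.ext ((k w).trans ?_)
        change _ = y * (y * (s ^ m * w * (s ^ m)⁻¹) * y⁻¹) * y⁻¹
        simp only [pow_succ, pow_zero, one_mul, mul_inv_rev, mul_assoc]
      · refine Or.inr fun w => Subtype.ext ((k w).trans ?_)
        change _ = y * (y * (y * (s ^ m * w * (s ^ m)⁻¹) * y⁻¹) * y⁻¹) * y⁻¹
        simp only [pow_succ, pow_zero, one_mul, mul_inv_rev, mul_assoc]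
      · exact (q2 (eq_inv_of_mul_eq_one_left (by rw [← pow_succ]; exact yp))).elim)
  have RP : ⁅R, P⁆ ≤ R := commutator_le_of_norm_left h.PR
  have := isMulCommutative_of_le hc' RP
  refine w1 (Subtype.ext (mem_bot.1 (W_ti h hy ▸ ⟨w.2, SPL.norm_mem (V := ⁅R, P⁆) (n := 1) (one_mem _)
    (le_normalizer_commutator h.AR h.AP sA) (commutator_mono le_rfl (zpowers_le.2 hy) w.2) hk
    (fun i i0 ik => ⟨?_, by simp⟩) (by simpa using congrArg Subtype.val hw)
    fun w hw => h.op.fpf (le_sup_left.trans le_sup_left)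
      (fun a ha => ⟨1, one_mem _, by simpa using h.AP ha⟩) h.PR (cPR h) (one_mem _)
      (by simpa using h.AP sA) hw⟩)))
  have a' := pow_mem sA i
  have x := h2 _ a'
  refine full h hP p5 x ((card_W_cj (h.AR a') y).trans c16) (le_normalizer
    (mem_centralizer_singleton_iff.2 (comm_of_isMulCommutative hc x hy))) (fun e => h4 i i0 ik ?_)
    (cj_W (h.AR a') y ▸ H83.conj_mem_cj w.2)
  exact eq_min h hP hy y1 (c16 ▸ hm) x ((le_W h hy (W_le h x) (norm_W h hP x hy) e).ge.trans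
    (commutator_mono (W_le h x) le_rfl))

end Core

theorem coreAb (h : Core p A s R P N) (hP : IsElementaryAbelian p P) {b : X} (hb : b ∈ N)
    (hs : Small R b) : b ∈ C[P] := by
  intro g hg
  by_contra hn
  have y1 : ⁅g, b⁆ ≠ 1 := fun e => hn (commutatorElement_eq_one_iff_mul_comm.1 e)
  have hy := commutator_le_of_norm_left (zpowers_le.2 (h.NP hb))
    (commutator_mem_commutator hg (mem_zpowers b))
  have hi := inv_comm h hb hs hg
  have h1 : ∀ x ∈ P, x ≠ 1 → Nat.card ↥⁅R, zpowers x⁆ ≡ 1 [MOD p] ∧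
      (Nat.card ↥⁅R, zpowers x⁆ = 8 ∨ 16 ≤ Nat.card ↥⁅R, zpowers x⁆) := fun x hx x1 => by
    obtain ⟨h1, k, hk, e⟩ := W_mod h hx (hP.2 _ hx) x1
    refine ⟨h1, ?_⟩
    rcases k with _ | _ | _ | _ | k
    · omega
    · omega
    · exact (case4 h hP hx e).elim
    · exact Or.inl e
    · exact Or.inr (e ▸ Nat.pow_le_pow_right two_pos (by omega : 4 ≤ k + 4))
  have h35 : p = 3 ∨ p = 5 := by
    obtain ⟨h2, h3⟩ := h1 _ hy y1
    rw [le_antisymm (le16 h hs hy hi).1 (h3.resolve_left (ne8 h hs hy hi))] at h2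
    exact ((Nat.Prime.dvd_mul h.pp (m := 3) (n := 5)).1 ((Nat.modEq_iff_dvd' (by norm_num)).1
      h2.symm)).imp (Nat.prime_dvd_prime_iff_eq h.pp Nat.prime_three).1
      (Nat.prime_dvd_prime_iff_eq h.pp Nat.prime_five).1
  refine case16 h hP (fun x hx x1 => (h1 x hx x1).2.resolve_left fun e => ?_) h35 hb hs hy y1 hi
  have := (h1 x hx x1).1
  rw [e] at this
  rcases h35 with rfl | rfl <;> exact absurd this (by decide)

section Core

variable (h : Core p A s R P N) (he : ∀ x ∈ P, x ^ p = 1) (hc : ⁅P, P⁆ ≤ C[P])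
include h he hc

theorem comm_Z {x y : X} (hx : x ∈ P) (hy : y ∈ P) : ⁅x, y⁆ ∈ Z[P] :=
  ⟨commutator_le_of_le le_rfl le_rfl (commutator_mem_commutator hx hy),
    hc (commutator_mem_commutator hx hy)⟩

theorem exists_comm {x y v : X} (hx : x ∈ P) (hy : y ∈ P) (hv : v ∈ zpowers ⁅y, x⁆) :
    ∃ g ∈ zpowers y, ⁅g, x⁆ = v := by
  obtain ⟨n, rfl⟩ := mem_powers_iff_mem_zpowers.2 hv
  exact ⟨y ^ n, pow_mem (mem_zpowers y) n, H7.comm_pow_left ((comm_Z h he hc hy hx).2 y hy) n⟩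

theorem norm_WZ {z : X} (hz : z ∈ Z[P]) : P ≤ N[⁅R, zpowers z⁆] :=
  le_normalizer_commutator h.PR (le_normalizer_of_le_centralizer' (zpowers_le.2 hz.2))

variable {x y : X} (hx : x ∈ P) (hy : y ∈ P) (z1 : ⁅x, y⁆ ≠ 1) (h16 : Nat.card ↥⁅R, zpowers x⁆ ≤ 16)
include hx hy z1 h16

theorem irr {V : Subgroup X} (hV : V ≤ ⁅R, zpowers ⁅x, y⁆⁆) (V1 : V ≠ ⊥) (xV : x ∈ N[V])
    (yV : y ∈ N[V]) : p = 3 ∧ Nat.card V = 64 ∧ Nat.card ↥(V ⊓ C1[x]) = 4 := by
  have hz := comm_Z h he hc hx hy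
  set z := ⁅x, y⁆ with hz'
  have VR := hV.trans (W_le h hz.1)
  have zV : z ∈ N[V] := commutator_le_of_le le_rfl le_rfl (commutator_mem_commutator xV yV)
  have h0 : V ⊓ C1[z] = ⊥ := le_bot_iff.1 (W_ti h hz.1 ▸ inf_le_inf_right _ hV)
  have h1 : ∀ v ∈ zpowers z, Nat.card ↥(V ⊓ C1[x * v]) = Nat.card ↥(V ⊓ C1[x]) := fun v hv => by
    obtain ⟨g, hg, e⟩ := exists_comm h he hc hx hy (v := v) (by
      rwa [← commutatorElement_inv, zpowers_inv])
    rw [← card_cj g (V ⊓ C1[x]), cj_inf, cj_eq_self (zpowers_le.2 yV hg), cj_centralizer_singleton,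
      (zpowers_le.2 hz hv).2 x hx, ← e, commutatorElement_def, inv_mul_cancel_right]
  have hxz : ∀ v ∈ zpowers z, Commute x v := fun v hv => (zpowers_le.2 hz hv).2 x hx
  have h2 : V ⊓ C1[x] ≠ ⊥ := by
    obtain ⟨a, ha, c, hc', e1, h2⟩ := two_gen h hx hz.1 (he _ hx) (he _ hz.1) z1
      (hxz z (mem_zpowers z)) (fun e => z1 (commutatorElement_eq_one_iff_mul_comm.2
        ((zpowers_le.2 hz e).2 y hy).symm)) VR V1 xV zV
    have a1 : a ≠ 1 := fun e => h2 (by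
      rw [e, one_mul] at e1 ⊢
      exact le_bot_iff.1 (h0 ▸ inf_le_inf_left _ fun w hw => mem_centralizer_singleton_comm.1
        (zpowers_le.2 (mem_centralizer_singleton_comm.1 hw) (zp_symm h (he _ hz.1) e1 hc'))))
    obtain ⟨j, hj⟩ := mem_powers_iff_mem_zpowers.2 (zp_symm h (he _ hx) a1 ha)
    have h3 : (a * c) ^ j = x * c ^ j := by
      rw [Commute.mul_pow ((zpowers_le.2 hz hc').2 a (zpowers_le.2 hx ha)), show a ^ j = x from hj]
    intro e
    have h4 := h1 _ (pow_mem hc' j)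
    rw [e, card_bot, card_eq_one, ← h3] at h4
    exact h2 (le_bot_iff.1 (h4 ▸ inf_le_inf_left _ fun w hw => mem_centralizer_singleton_comm.1
      (pow_mem (mem_centralizer_singleton_comm.1 hw) j)))
  have h3 : z ∈ N[V ⊓ C1[x]] := le_normalizer_inf (zpowers_le.2 zV) (centralizer_zpowers x ▸
    le_normalizer_of_le (zpowers_le.2 (centralizer_anti (zpowers_le.2 hx) hz.2))) (mem_zpowers z)
  have h4 := le_bot_iff.1 (h0 ▸ inf_le_inf_right C1[z] (inf_le_left (b := C1[x])))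
  have h5 := (card_mod h (he _ hz.1) (inf_le_left.trans VR) h2 h3 h4).1
  have h6 := four_le h (he _ hz.1) (inf_le_left.trans VR) h2 h3 h4
  have h7 : ∀ v ∈ zpowers z, v ≠ 1 → V ⊓ C1[x * v] ≤ ⁅V, zpowers x⁆ := fun v hv v1 =>
    (le_W h hx (inf_le_left.trans VR) (le_normalizer_inf (zpowers_le.2 xV)
      (centralizer_zpowers (x * v) ▸ le_normalizer_of_le (zpowers_le.2 (centralizer_zpowers (x * v) ▸
        mem_centralizer_singleton_iff.2 ((Commute.refl x).mul_right (hxz v hv))))) (mem_zpowers x))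
      (le_bot_iff.1 (h0 ▸ fun w hw => ⟨hw.1.1, mem_centralizer_singleton_comm.1 (zpowers_le.2
        ((mul_mem_cancel_left (mem_centralizer_singleton_comm.1 hw.2)).1
          (mem_centralizer_singleton_comm.1 hw.1.2)) (zp_symm h (he _ hz.1) v1 hv))⟩))).ge.trans
      (commutator_mono inf_le_left le_rfl)
  have z2 : z * z ≠ 1 := fun e => z1 (one_of_inv h hz.1 (eq_inv_of_mul_eq_one_left e))
  have zz := mul_mem (mem_zpowers z) (mem_zpowers z)
  have h8 := card_le_of_le (sup_le (h7 z (mem_zpowers z) z1) (h7 _ zz z2))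
  rw [card_sup_of_inf_eq_bot (Or.inl (le_normalizer_of_le_centralizer (le_cent_of_comm h.ea.1
    (inf_le_left.trans VR) (inf_le_left.trans VR)))) (le_bot_iff.1 (h0 ▸ fun w hw => ⟨hw.1.1,
      mem_centralizer_singleton_comm.1 ((mul_mem_cancel_left
        (mem_centralizer_singleton_comm.1 hw.1.2)).1 (mul_assoc x z z ▸
          mem_centralizer_singleton_comm.1 hw.2.2))⟩)), h1 _ (mem_zpowers z), h1 _ zz] at h8
  have h9 := (card_le_of_le (commutator_mono VR le_rfl)).trans h16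
  have h10 : Nat.card ↥(V ⊓ C1[x]) = 4 := by nlinarith
  rw [h10] at h5 h8
  refine ⟨eq_three h h5, ?_, h10⟩
  rw [card_W h hx VR xV, h10, le_antisymm h9 h8]

theorem W_ne : ⁅R, zpowers ⁅x, y⁆⁆ ≠ ⊥ := fun e =>
  z1 (eq_one_of h (comm_Z h he hc hx hy).1 (e ▸ bot_le))

theorem irr_top : p = 3 ∧ Nat.card ↥⁅R, zpowers ⁅x, y⁆⁆ = 64 ∧
    Nat.card ↥(⁅R, zpowers ⁅x, y⁆⁆ ⊓ C1[x]) = 4 :=
  irr h he hc hx hy z1 h16 le_rfl (W_ne h he hc hx hy z1 h16)
    (norm_WZ h he hc (comm_Z h he hc hx hy) hx) (norm_WZ h he hc (comm_Z h he hc hx hy) hy)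

theorem sp_false {b : X} (hb : b ∈ N ⊓ C[Z[P]])
    (hxb : b ∈ C[⁅R, zpowers ⁅x, y⁆⁆] → x ∈ C[⁅R, zpowers ⁅x, y⁆⁆]) : False := by
  have hz := comm_Z h he hc hx hy
  obtain ⟨p3, c64, c4⟩ := irr_top h he hc hx hy z1 h16
  have W0 := W_ne h he hc hx hy z1 h16
  generalize ⁅x, y⁆ = z at *
  have WR := W_le h hz.1
  have AZ := h.AP.trans (normalizer_le_normalizer_center P)
  have ZT : Z[P] ≤ N[C[N ⊓ C[Z[P]]]] :=
    le_normalizer_centralizer (le_normalizer_of_le_centralizer' inf_le_right)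
  have n0 := inf_centralizer_ne_bot_of_isPGroup Nat.prime_two
    (h.pN.to_le (inf_le_left : N ⊓ C[Z[P]] ≤ N)) ((pR h).to_le WR) (le_normalizer_commutator
      (inf_le_left.trans h.NR) (le_normalizer_of_le_centralizer
        (inf_le_right.trans (centralizer_anti (zpowers_le.2 hz))))) W0
  have AT := le_normalizer_centralizer (le_normalizer_inf h.AN (le_normalizer_centralizer AZ))
  have hb' := fun w (hw : w ∈ C[N ⊓ C[Z[P]]]) => (hw b hb).symm
  generalize C[N ⊓ C[Z[P]]] = T at *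
  have HV : R ⊔ Z[P] ≤ N[R ⊓ T] := sup_le (le_normalizer_of_le_centralizer
    (le_cent_of_comm h.ea.1 le_rfl inf_le_left)) (le_normalizer_inf (inf_le_left.trans h.PR) ZT)
  have AV := le_normalizer_inf h.AR AT
  have zH : z ∈ R ⊔ Z[P] := mem_sup_right hz
  have le : R ⊔ Z[P] ≤ R ⊔ P ⊔ N := (sup_le_sup_left inf_le_left R).trans le_sup_left
  have op := h.op.sub le (le_normalizer_sup h.AR AZ)
  have so := isSolvable_of_le (sol h) le
  have zn : z ∈ N[⁅R, zpowers z⁆ ⊓ T] := le_normalizer_inf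
    (le_norm_commutator_right _ _) (zpowers_le.2 (ZT hz)) (mem_zpowers z)
  have ti := le_bot_iff.1 (W_ti h hz.1 ▸ inf_le_inf_right C1[z] (inf_le_left (b := T)))
  obtain ⟨m, k, hk, e⟩ := card_mod h (he _ hz.1) (inf_le_left.trans WR) n0 zn ti
  have lt := card_lt_of_lt ((inf_le_left (a := ⁅R, zpowers z⁆) (b := T)).lt_of_ne fun e => by
    rw [inf_eq_left.2 (mem_centralizer_iff_le.1 (hxb fun w hw => hb' w (e.ge hw).2)), c64] at c4
    omega)
  rw [e, c64] at lt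
  rw [e, p3] at m
  have k6 : k < 6 := (Nat.pow_lt_pow_iff_right one_lt_two).1 lt
  interval_cases k
  · refine k4c op so (inf_le_left.trans le_sup_left) ⟨isMulCommutative_of_le h.ea.1 inf_le_left,
      fun a ha => h.ea.2 a ha.1⟩ HV AV zH (odd h hz.1) (Eq.trans ?_ e)
    rw [le_antisymm (le_inf (commutator_mono inf_le_left le_rfl) ((commutator_le_of_norm_left
      (zpowers_le.2 (HV zH))).trans inf_le_right)) ((le_W h hz.1 (inf_le_left.trans WR) zn
        ti).ge.trans (commutator_mono (inf_le_inf_right _ WR) le_rfl))]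
  · exact absurd m (by decide)
  · have RV := le_sup_left.trans HV
    refine k4c (op.quo AV HV) (quo_isSolvable _ so)
      (quo_mono _ le_sup_left) (quo_isElementaryAbelian _ h.ea)
      (quo_norms _ (sup_le le_normalizer (inf_le_left.trans h.PR))) (quo_norms _ h.AR)
      (coset_mem_quo (HV zH) zH) ((odd h hz.1).of_dvd_nat (orderOf_coset_dvd (HV zH))) ?_
    have := card_quo_mul_inf (WR.trans RV)
    rw [inf_right_comm, inf_eq_right.2 WR, e, c64] at this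
    rw [← quo_zpowers (HV zH), ← quo_commutator RV (zpowers_le.2 (HV zH))]
    omega
  · exact absurd m (by decide)

end Core

theorem coreSp (h : Core p A s R P N) (he : ∀ x ∈ P, x ^ p = 1) (hc : ⁅P, P⁆ ≤ C[P]) {b : X}
    (hb : b ∈ N) (hs : Small R b) (hbZ : b ∈ C[Z[P]]) : b ∈ C[P] := by
  intro g hg
  by_contra hn
  have hx := commutator_le_of_norm_left (zpowers_le.2 (h.NP hb))
    (commutator_mem_commutator hg (mem_zpowers b))
  have hi := inv_comm h hb hs hg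
  refine hn (commutatorElement_eq_one_iff_mul_comm.1 (one_of_inv h hx ?_))
  rw [← hi, ← hbZ _ ⟨hx, fun y hy => ?_⟩, mul_inv_cancel_right]
  by_contra h1
  exact sp_false h he hc hx hy (fun e => h1 (commutatorElement_eq_one_iff_mul_comm.1 e).symm)
    (le16 h hs hx hi).1 ⟨hb, hbZ⟩ fun e => commutator_le_of_norm_right
      (le_normalizer_centralizer (norm_WZ h he hc (comm_Z h he hc hx hy)))
      (commutator_mem_commutator hg e)

end Cfsg.Agent.H91.CCL
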