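import Mathlib
import Cfsg.Agent.H89.XSBasic

/-!
Non-abelian subgroups of order `p ^ 3` and exponent `p` of a finite group.
-/

set_option autoImplicit false

namespace Cfsg.Agent.H91

open Subgroup
open scoped commutatorElement

theorem xs_of_cube {E : Type*} [Group E] [Finite E] {p : ℕ} [hp : Fact p.Prime]
    (hE : Nat.card E = p ^ 3) (hc : ¬ IsMulCommutative E) (hexp : ∀ a : E, a ^ p = 1) {z : E}
    (hz : z ∈ center E) (hz1 : z ≠ 1) : H89.XS p z := by
  have ho : orderOf z = p := orderOf_eq_prime (hexp z) hz1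
  obtain ⟨k, hk0, hk⟩ := IsPGroup.card_center_eq_prime_pow hE (by norm_num)
  have h1 := (center E).card_mul_index
  rw [hk, hE] at h1
  obtain ⟨j, hj, hj'⟩ := (Nat.dvd_prime_pow hp.out).mp (Dvd.intro_left _ h1)
  rw [hj', ← pow_add] at h1
  have h2 := Nat.pow_right_injective hp.out.two_le h1
  have h3 : j = 2 := by
    by_contra h
    have h4 : j = 0 ∨ j = 1 := by omega
    apply hc
    have : IsCyclic (E ⧸ center E) := by
      refine isCyclic_of_card_dvd_prime (p := p) ?_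
      rw [← index_eq_card, hj']
      rcases h4 with rfl | rfl <;> simp
    exact isMulCommutative_of_isCyclic_quotient_center_self E
  have h5 : center E = zpowers z := (eq_of_le_of_card_ge (zpowers_le.mpr hz) (by
    rw [hk, Nat.card_zpowers, ho, show k = 1 by omega, pow_one])).symm
  refine ⟨ho, h5, fun a b => ?_, fun a => by rw [hexp]; exact one_mem _⟩
  rw [← h5, ← QuotientGroup.eq_one_iff, ← QuotientGroup.mk'_apply, map_commutatorElement,
    commutatorElement_eq_one_iff_mul_comm]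
  exact (IsPGroup.isMulCommutative_of_card_eq_prime_sq (p := p)
    (by rw [← index_eq_card, hj', h3])).is_comm.comm _ _

/-- `S` is a non-abelian subgroup of order `p ^ 3` and exponent `p`. -/
structure Cube {G : Type*} [Group G] (p : ℕ) (S : Subgroup G) : Prop where
  card : Nat.card S = p ^ 3
  ncomm : ¬ IsMulCommutative S
  exp : ∀ a ∈ S, a ^ p = 1

variable {G : Type*} [Group G] [Finite G] {p : ℕ} [hp : Fact p.Prime] {S : Subgroup G}

namespace Cube

omit [Finite G] hp in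
theorem map (h : Cube p S) (e : G ≃* G) : Cube p (S.map e.toMonoidHom) := by
  refine ⟨by rw [card_map_of_injective e.injective, h.card], fun hc => h.ncomm ⟨⟨fun a b => ?_⟩⟩,
    ?_⟩
  · exact (e.subgroupMap S).injective (by rw [map_mul, map_mul]; exact hc.is_comm.comm _ _)
  · rintro _ ⟨a, ha, rfl⟩
    rw [← map_pow, h.exp a ha, map_one]

theorem xs (h : Cube p S) {z : G} (hz : z ∈ S) (hz1 : z ≠ 1) (hzc : ∀ s ∈ S, Commute s z) :
    H89.XS p (⟨z, hz⟩ : S) :=
  xs_of_cube h.card h.ncomm (fun a => Subtype.ext (h.exp a a.2))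
    (mem_center_iff.mpr fun s => Subtype.ext (hzc s s.2)) fun e => hz1 (congrArg Subtype.val e)

theorem exists_central (h : Cube p S) : ∃ z ∈ S, z ≠ 1 ∧ ∀ s ∈ S, Commute s z := by
  obtain ⟨k, hk0, hk⟩ := IsPGroup.card_center_eq_prime_pow h.card (by norm_num)
  have : Nontrivial (center S) := Finite.one_lt_card_iff_nontrivial.mp
    (hk ▸ Nat.one_lt_pow hk0.ne' hp.out.one_lt)
  obtain ⟨⟨z, hz⟩, hz1⟩ := exists_ne (1 : center S)
  exact ⟨z, z.2, fun e => hz1 (Subtype.ext (Subtype.ext e)),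
    fun s hs => congrArg Subtype.val (mem_center_iff.mp hz ⟨s, hs⟩)⟩

omit [Finite G] hp in
theorem mem_zpowers_coe {z a : S} : a ∈ zpowers z ↔ (a : G) ∈ zpowers (z : G) :=
  ⟨fun ⟨k, hk⟩ => ⟨k, congrArg Subtype.val hk⟩, fun ⟨k, hk⟩ => ⟨k, Subtype.ext hk⟩⟩

theorem mem_zpowers_iff_central (h : Cube p S) {z : G} (hz : z ∈ S) (hz1 : z ≠ 1)
    (hzc : ∀ s ∈ S, Commute s z) {c : G} (hc : c ∈ S) :
    c ∈ zpowers z ↔ ∀ s ∈ S, Commute s c := by
  rw [← mem_zpowers_coe (z := ⟨z, hz⟩) (a := ⟨c, hc⟩), ← (h.xs hz hz1 hzc).center_eq,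
    mem_center_iff]
  exact ⟨fun h1 s hs => congrArg Subtype.val (h1 ⟨s, hs⟩), fun h1 s => Subtype.ext (h1 s s.2)⟩

theorem comm_mem (h : Cube p S) {z : G} (hz : z ∈ S) (hz1 : z ≠ 1) (hzc : ∀ s ∈ S, Commute s z)
    {a b : G} (ha : a ∈ S) (hb : b ∈ S) : ⁅a, b⁆ ∈ zpowers z :=
  mem_zpowers_coe.mp ((h.xs hz hz1 hzc).comm_mem ⟨a, ha⟩ ⟨b, hb⟩)

theorem exists_conj_eq_mul (h : Cube p S) {a w : G} (ha : a ∈ S) (hnc : ¬ ∀ s ∈ S, Commute s a)
    (hw : w ∈ S) (hwc : ∀ s ∈ S, Commute s w) : ∃ u ∈ S, u * a * u⁻¹ = a * w := by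
  by_cases h1 : w = 1
  · exact ⟨1, one_mem _, by simp [h1]⟩
  obtain ⟨y, hy⟩ := (h.xs (inv_mem hw) (inv_ne_one.mpr h1)
    (fun s hs => (hwc s hs).inv_right)).exists_comm_eq (x := ⟨a, ha⟩) (fun hc => hnc fun s hs =>
      congrArg Subtype.val (mem_center_iff.mp hc ⟨s, hs⟩))
  have h2 : a * y * a⁻¹ * (y : G)⁻¹ = w⁻¹ := congrArg Subtype.val hy
  refine ⟨y, y.2, ?_⟩
  rw [(hwc a ha).eq, ← inv_inv w, ← h2]
  group

theorem card_inf_centralizer (h : Cube p S) {a : G} (ha : a ∈ S) (hnc : ¬ ∀ s ∈ S, Commute s a) :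
    Nat.card (S ⊓ centralizer {a} : Subgroup G) = p ^ 2 := by
  obtain ⟨z, hz, hz1, hzc⟩ := h.exists_central
  have h1 := (h.xs hz hz1 hzc).index_centralizer_singleton (x := ⟨a, ha⟩) (fun hc => hnc fun s hs =>
      congrArg Subtype.val (mem_center_iff.mp hc ⟨s, hs⟩))
  have h2 : (centralizer {(⟨a, ha⟩ : S)}).map S.subtype = S ⊓ centralizer {a} := by
    ext x
    simp only [mem_map, mem_centralizer_singleton_iff, mem_inf]
    exact ⟨fun ⟨y, hy, e⟩ => e ▸ ⟨y.2, congrArg Subtype.val hy⟩,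
      fun hx => ⟨⟨x, hx.1⟩, Subtype.ext hx.2, rfl⟩⟩
  have h3 := (centralizer {(⟨a, ha⟩ : S)}).card_mul_index
  rw [h1, h.card, pow_succ] at h3
  rw [← h2, card_map_of_injective S.subtype_injective]
  exact Nat.eq_of_mul_eq_mul_right hp.out.pos h3

theorem inf_centralizer_comm (h : Cube p S) {a : G} (ha : a ∈ S) (hnc : ¬ ∀ s ∈ S, Commute s a) :
    IsMulCommutative (S ⊓ centralizer {a} : Subgroup G) :=
  IsPGroup.isMulCommutative_of_card_eq_prime_sq (h.card_inf_centralizer ha hnc)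

theorem inf_centralizer_eq (h : Cube p S) {a b : G} (ha : a ∈ S) (hnc : ¬ ∀ s ∈ S, Commute s a)
    (hb : b ∈ S ⊓ centralizer {a}) (hnb : ¬ ∀ s ∈ S, Commute s b) :
    S ⊓ centralizer {b} = S ⊓ centralizer {a} :=
  (eq_of_le_of_card_ge (H := S ⊓ centralizer {a}) (K := S ⊓ centralizer {b})
    (fun _ hx => mem_inf.mpr ⟨hx.1, mem_centralizer_singleton_iff.mpr
    (H89.comm_of_isMulCommutative (h.inf_centralizer_comm ha hnc) hx hb)⟩)
    (by rw [h.card_inf_centralizer ha hnc, h.card_inf_centralizer hb.1 hnb])).symm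

end Cube

end Cfsg.Agent.H91
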