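import Cfsg.Agent.H91.FrobA

/-!
Frobenius groups of automorphisms with fixed-point-free kernel acting on solvable groups:
sections, invariant `q`-subgroups and `π`-cores.
-/

set_option autoImplicit false
set_option linter.style.haveILetI false

namespace Cfsg.Agent.H91.FB

open Subgroup Cfsg.Agent.H4.Ext Cfsg.Agent.H92
open scoped IsMulCommutative Pointwise commutatorElement

universe u

variable {A : Type*} [Group A] [Finite A] {F H : Subgroup A}

section Basic

variable {K : Type*} [Group K] [Finite K] {φ : A →* MulAut K}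

theorem exists_V (hK : Group.IsSolvable K) {N : Subgroup K} [N.Normal] (hN : Inv φ N)
    (hne : N ≠ ⊥) :
    ∃ (p : ℕ) (V : Subgroup K), p.Prime ∧ V.Normal ∧ IsMulCommutative V ∧ Inv φ V ∧
      IsPGroup p V ∧ V ≠ ⊥ ∧ V ≤ N := by
  haveI := H3.map_fitting_normal N
  haveI := H3.fitting_characteristic N
  haveI : Nontrivial N := (nontrivial_iff_ne_bot N).mpr hne
  obtain ⟨p, V, h1, h2, h3, h4, h5, h6, h7⟩ := exists_inv_abelian
    (inv_map_subtype φ hN (fittingSubgroup N)) (H3.map_fitting_isNilpotent N)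
    (fun h => H3.fitting_ne_bot N ((map_eq_bot_iff_of_injective _ N.subtype_injective).mp h))
  exact ⟨p, V, h1, h2, h3, h4, h5, h6, h7.trans (map_subtype_le _)⟩

omit [Finite A] [Finite K] in
theorem inv_map_mk {V N : Subgroup K} [V.Normal] (hV : Inv φ V) (hN : Inv φ N) :
    Inv (quoAut φ V hV) (N.map (QuotientGroup.mk' V)) := by
  rintro a _ ⟨x, hx, rfl⟩
  exact ⟨φ a x, hN a x hx, rfl⟩

theorem fpf_res {B : Subgroup A} {N : Subgroup K} (hN : Inv φ N) (h : fixB φ B = ⊥) :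
    fixB (resAut φ N hN) B = ⊥ := by
  have := fixB_resAut_map B hN
  rw [h, le_bot_iff] at this
  exact (map_eq_bot_iff_of_injective _ N.subtype_injective).mp this

/-- The map from the fixed points to the fixed points in a quotient. -/
def resQ (φ : A →* MulAut K) (N : Subgroup K) [N.Normal] (hN : Inv φ N) (B : Subgroup A) :
    fixB φ B →* fixB (quoAut φ N hN) B :=
  ((QuotientGroup.mk' N).comp (fixB φ B).subtype).codRestrict _ fun x b hb => by
    change ((φ b x : K) : K ⧸ N) = (x : K)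
    rw [x.2 b hb]

omit [Finite A] [Finite K] in
theorem coe_resQ {N : Subgroup K} [N.Normal] (hN : Inv φ N) (B : Subgroup A) (x : fixB φ B) :
    (resQ φ N hN B x : K ⧸ N) = (x : K) := rfl

omit [Finite A] [Finite K] in
theorem resQ_surjective {N : Subgroup K} [N.Normal] (hN : Inv φ N) {B : Subgroup A}
    (h : fixB (quoAut φ N hN) B = (fixB φ B).map (QuotientGroup.mk' N)) :
    Function.Surjective (resQ φ N hN B) := by
  rintro ⟨x, hx⟩
  have hx' := hx
  rw [h] at hx'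
  obtain ⟨y, hy, rfl⟩ := hx'
  exact ⟨⟨y, hy⟩, rfl⟩

omit [Finite A] [Finite K] in
theorem ker_resQ {N : Subgroup K} [N.Normal] (hN : Inv φ N) (B : Subgroup A) :
    (resQ φ N hN B).ker = N.subgroupOf (fixB φ B) := by
  ext x
  rw [MonoidHom.mem_ker, mem_subgroupOf, ← QuotientGroup.eq_one_iff, Subtype.ext_iff]
  rfl

theorem exists_inv_compl [F.Normal] (hF : Group.IsNilpotent F) {p q : ℕ} [Fact p.Prime]
    [hq : Fact q.Prime] {V : Subgroup K} [V.Normal] (hV : Inv φ V) (hVp : IsPGroup p V)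
    (h : fixB φ F = ⊥) (hQ : IsPGroup q (K ⧸ V)) :
    ∃ P : Sylow q K, Inv φ P ∧ ∀ m : K, ∃ v ∈ V, ∃ y ∈ (P : Subgroup K), v * y = m := by
  have hprod : ∀ (P : Sylow q K) (m : K), ∃ v ∈ V, ∃ y ∈ (P : Subgroup K), v * y = m := by
    intro P m
    have h1 : V ⊔ P = ⊤ := by
      rw [← index_eq_one]
      obtain ⟨n, hn⟩ := IsPGroup.iff_card.mp hQ
      have h2 : (V ⊔ P).index ∣ q ^ n := hn ▸ index_dvd_of_le le_sup_left
      have h3 : ¬ q ∣ (V ⊔ P).index := fun h =>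
        P.not_dvd_index (h.trans (index_dvd_of_le le_sup_right))
      exact Nat.eq_one_of_dvd_coprimes
        (((Nat.Prime.coprime_iff_not_dvd hq.out).2 h3).symm.pow_right n) dvd_rfl h2
    have h2 : m ∈ ((V ⊔ P : Subgroup K) : Set K) := by rw [h1]; trivial
    rw [normal_mul] at h2
    exact h2
  have htr : ∀ P P' : Sylow q K, ∃ v : V, P' = v • P := fun P P' => by
    obtain ⟨m, rfl⟩ := MulAction.exists_smul_eq K P P'
    obtain ⟨v, hv, y, hy, rfl⟩ := hprod P m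
    refine ⟨⟨v, hv⟩, ?_⟩
    rw [mul_smul, Sylow.smul_eq_iff_mem_normalizer.2 (le_normalizer hy)]
    rfl
  let D := piCoreOf {p}ᶜ F
  haveI hDn : D.Normal := piCoreOf_normal _ F
  letI : MulAction D (Sylow q K) := MulAction.compHom _ (φ.comp D.subtype)
  let ψ : D →* MulAut V := (resAut φ V hV).comp D.subtype
  have hc : ∀ (a : D) (k : V) (P : Sylow q K), a • k • P = ψ a k • a • P :=
    fun a k P => sylow_compat φ a k P
  have hcop := coprime_piCoreOf_compl F hVp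
  have hsol : Group.IsSolvable D ∨ Group.IsSolvable V := Or.inr (H4.isSolvable_of_isPGroup hVp)
  obtain ⟨P₀⟩ : Nonempty (Sylow q K) := inferInstance
  obtain ⟨v, hv⟩ := exists_fixed_in_orbit ψ hc hcop hsol (x := P₀) fun a => htr _ _
  refine ⟨v • P₀, (inv_sylow_iff φ).2 fun a => ?_, hprod _⟩
  obtain ⟨w, hw⟩ := htr (v • P₀) (φ a • v • P₀)
  obtain ⟨c, hc1, hc2⟩ := exists_fix_smul_eq ψ hc hcop hsol hv (k := w) fun d => by
    rw [← hw]
    have : φ (a⁻¹ * d * a⁻¹⁻¹) • v • P₀ = v • P₀ := hv ⟨_, hDn.conj_mem _ d.2 _⟩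
    change φ d • φ a • v • P₀ = _
    conv_rhs => rw [← this]
    simp [← mul_smul, mul_assoc]
  rw [fpf_resAut hV (fpf_pPrime hF hV hVp (by rw [h, inf_bot_eq])) c fun f hf => hc1 ⟨f, hf⟩,
    one_smul] at hc2
  rw [hw, ← hc2]

theorem eq_bot_of_fix [F.Normal] (hF : Group.IsNilpotent F) (hs : SRPair F H)
    (hK : Group.IsSolvable K) (h : fixB φ F = ⊥) (h' : fixB φ H = ⊥) : (⊤ : Subgroup K) = ⊥ := by
  by_contra hne
  obtain ⟨p, V, hp, _, _, hV, hVp, hV1, -⟩ := exists_V hK (inv_top φ) hne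
  haveI : Fact p.Prime := ⟨hp⟩
  obtain ⟨v, hv⟩ := ne_bot_iff_exists_ne_one.1 hV1
  obtain ⟨w, -, hw1, hw⟩ := exists_fixed_of_srPair (α := resAut φ V hV) (srPair_piCoreOf hs {p}ᶜ)
    (W := ⊤) (fun _ _ _ _ => trivial) (fun _ _ _ _ => trivial)
    (fun w _ => fpf_resAut hV (fpf_pPrime hF hV hVp (by rw [h, inf_bot_eq])) w)
    (coprime_piCoreOf_compl F hVp) (mem_top v) hv
  exact hw1 (fpf_resAut hV (by rw [h', inf_bot_eq]) w hw)

end Basic

theorem ind [F.Normal] (hF : Group.IsNilpotent F)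
    {P : ∀ (K : Type u) [Group K] [Finite K], (A →* MulAut K) → Prop}
    (step : ∀ (K : Type u) [Group K] [Finite K] (φ : A →* MulAut K), Group.IsSolvable K →
      fixB φ F = ⊥ → (∀ (p : ℕ) (V : Subgroup K) [V.Normal] (hV : Inv φ V), p.Prime →
        IsPGroup p V → V ≠ ⊥ → P (K ⧸ V) (quoAut φ V hV)) → P K φ)
    (K : Type u) [Group K] [Finite K] (φ : A →* MulAut K) (hK : Group.IsSolvable K)
    (h : fixB φ F = ⊥) : P K φ := by
  induction hn : Nat.card K using Nat.strong_induction_on generalizing K with | _ n IH => ?_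
  refine step K φ hK h fun p V _ hV hp hVp hV1 => ?_
  haveI : Fact p.Prime := ⟨hp⟩
  refine IH _ ?_ _ _ inferInstance (fpf_quoAut hF hV hVp h) rfl
  rw [← hn, card_eq_card_quotient_mul_card_subgroup V]
  exact lt_mul_of_one_lt_right Nat.card_pos ((one_lt_card_iff_ne_bot V).2 hV1)

theorem quo_aux [F.Normal] (hF : Group.IsNilpotent F) (hs : SRPair F H) (K : Type u) [Group K]
    [Finite K] (φ : A →* MulAut K) (hK : Group.IsSolvable K) (h : fixB φ F = ⊥) :
    ∀ N : Subgroup K, N.Normal → Inv φ N → (∀ g, (∀ f ∈ F, g⁻¹ * φ f g ∈ N) → g ∈ N) ∧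
      ∀ g, (∀ h ∈ H, g⁻¹ * φ h g ∈ N) → ∃ c ∈ fixB φ H, c⁻¹ * g ∈ N := by
  refine ind hF (P := fun K _ _ φ => ∀ N : Subgroup K, N.Normal → Inv φ N →
    (∀ g, (∀ f ∈ F, g⁻¹ * φ f g ∈ N) → g ∈ N) ∧
      ∀ g, (∀ h ∈ H, g⁻¹ * φ h g ∈ N) → ∃ c ∈ fixB φ H, c⁻¹ * g ∈ N) ?_ K φ hK h
  intro K _ _ φ hK h IH N _ hN
  by_cases hne : N = ⊥
  · subst hne
    refine ⟨fun g hg => h ▸ fun f hf => ?_, fun g hg => ⟨g, fun f hf => ?_, by simp⟩⟩
    all_goals exact (inv_mul_eq_one.1 (mem_bot.1 (hg f hf))).symm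
  obtain ⟨p, V, hp, _, _, hV, hVp, hV1, hVN⟩ := exists_V hK hN hne
  haveI : Fact p.Prime := ⟨hp⟩
  obtain ⟨h1, h2⟩ := IH p V hV hp hVp hV1 (N.map (QuotientGroup.mk' V))
    (Normal.map inferInstance _ (QuotientGroup.mk'_surjective V)) (inv_map_mk hV hN)
  have h3 : ∀ g : K, (g : K ⧸ V) ∈ N.map (QuotientGroup.mk' V) → g ∈ N := fun g hg => by
    have : g ∈ (N.map (QuotientGroup.mk' V)).comap (QuotientGroup.mk' V) := hg
    rwa [comap_map_eq_self (by rwa [QuotientGroup.ker_mk'])] at this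
  refine ⟨fun g hg => h3 g (h1 g fun f hf => ⟨_, hg f hf, rfl⟩), fun g hg => ?_⟩
  obtain ⟨c, hc, hc'⟩ := h2 g fun f hf => ⟨_, hg f hf, rfl⟩
  rw [cover_quoAut hF hs hV hVp (by rw [h, inf_bot_eq])] at hc
  obtain ⟨c, hc, rfl⟩ := hc
  exact ⟨c, hc, h3 _ hc'⟩

section Quo

variable {K : Type u} [Group K] [Finite K] {φ : A →* MulAut K}

theorem fpf_quo [F.Normal] (hF : Group.IsNilpotent F) (hs : SRPair F H) (hK : Group.IsSolvable K)
    (h : fixB φ F = ⊥) {N : Subgroup K} [hNn : N.Normal] (hN : Inv φ N) :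
    fixB (quoAut φ N hN) F = ⊥ := by
  rw [eq_bot_iff]
  intro x hx
  induction x using QuotientGroup.induction_on with | H g => ?_
  exact (QuotientGroup.eq_one_iff g).2 ((quo_aux hF hs K φ hK h N hNn hN).1 g
    fun f hf => QuotientGroup.eq.mp (hx f hf).symm)

theorem cover_quo [F.Normal] (hF : Group.IsNilpotent F) (hs : SRPair F H) (hK : Group.IsSolvable K)
    (h : fixB φ F = ⊥) {N : Subgroup K} [hNn : N.Normal] (hN : Inv φ N) :
    Function.Surjective (resQ φ N hN H) := by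
  rintro ⟨x, hx⟩
  induction x using QuotientGroup.induction_on with | H g => ?_
  obtain ⟨c, hc, hc'⟩ := (quo_aux hF hs K φ hK h N hNn hN).2 g
    fun f hf => QuotientGroup.eq.mp (hx f hf).symm
  exact ⟨⟨c, hc⟩, Subtype.ext (QuotientGroup.eq.mpr hc')⟩

end Quo

theorem commute_of_commute [F.Normal] (hF : Group.IsNilpotent F) (hs : SRPair F H) {q : ℕ}
    [hq : Fact q.Prime] (K : Type u) [Group K] [Finite K] (φ : A →* MulAut K)
    (hK : Group.IsSolvable K) (h : fixB φ F = ⊥) :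
    ∀ (Q N : Subgroup K) (c : K), Inv φ Q → IsPGroup q Q → c ∈ Q → N.Normal → Inv φ N →
      ¬ q ∣ Nat.card N → (∀ x ∈ N, x ∈ fixB φ H → Commute c x) → ∀ x ∈ N, Commute c x := by
  refine ind hF (P := fun K _ _ φ => ∀ (Q N : Subgroup K) (c : K), Inv φ Q → IsPGroup q Q →
    c ∈ Q → N.Normal → Inv φ N → ¬ q ∣ Nat.card N → (∀ x ∈ N, x ∈ fixB φ H → Commute c x) →
    ∀ x ∈ N, Commute c x) ?_ K φ hK h
  intro K _ _ φ hK h IH Q N c hQ hQq hc _ hN hqN hcom x hx
  by_cases hne : N = ⊥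
  · rw [hne, mem_bot] at hx
    rw [hx]; exact Commute.one_right c
  obtain ⟨p, V, hp, _, _, hV, hVp, hV1, hVN⟩ := exists_V hK hN hne
  haveI : Fact p.Prime := ⟨hp⟩
  have hcop : (Nat.card Q).Coprime (Nat.card V) := by
    obtain ⟨n, hn⟩ := IsPGroup.iff_card.mp hQq
    rw [hn]
    exact ((Nat.Prime.coprime_iff_not_dvd hq.out).2
      fun h => hqN (h.trans (card_dvd_of_le hVN))).pow_left n
  have h1 : ∀ v ∈ V, c * v * c⁻¹ = v := fun v hv =>
    congrArg Subtype.val (key (α := resAut φ V hV) (β := resAut φ Q hQ)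
      (ρ := (MulAut.conjNormal (H := V)).comp Q.subtype) (c := ⟨c, hc⟩) hF hs
      (fun a u v => Subtype.ext (by simp)) hQq hcop (fpf_res hQ h)
      (fun w hw => Subtype.ext (by
        have := hcom w (hVN w.2) fun a ha => congrArg Subtype.val (hw a ha)
        change c * w * c⁻¹ = w
        rw [this.eq, mul_inv_cancel_right])) ⟨v, hv⟩)
  have h2 := IH p V hV hp hVp hV1 (Q.map (QuotientGroup.mk' V)) (N.map (QuotientGroup.mk' V)) c
    (inv_map_mk hV hQ) (hQq.map _) ⟨c, hc, rfl⟩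
    (Normal.map inferInstance _ (QuotientGroup.mk'_surjective V)) (inv_map_mk hV hN)
    (fun h => hqN (h.trans (card_map_dvd _ _)))
    (fun y hy hy' => by
      rw [cover_quoAut hF hs hV hVp (by rw [h, inf_bot_eq])] at hy'
      obtain ⟨y, hy1, rfl⟩ := hy'
      have : y ∈ (N.map (QuotientGroup.mk' V)).comap (QuotientGroup.mk' V) := hy
      rw [comap_map_eq_self (by rwa [QuotientGroup.ker_mk'])] at this
      exact (hcom y this hy1).map (QuotientGroup.mk' V))
    x ⟨x, hx, rfl⟩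
  have h3 : c * x * c⁻¹ * x⁻¹ ∈ V := by
    rw [← QuotientGroup.eq_one_iff]
    simp [h2.eq]
  set v := c * x * c⁻¹ * x⁻¹ with hv
  have h4 : ∀ k : ℕ, c ^ k * x * (c ^ k)⁻¹ = v ^ k * x := by
    intro k
    induction k with
    | zero => simp
    | succ k ih =>
      calc c ^ (k + 1) * x * (c ^ (k + 1))⁻¹ = c * (c ^ k * x * (c ^ k)⁻¹) * c⁻¹ := by
            rw [pow_succ']; group
        _ = (c * v ^ k * c⁻¹) * v * x := by rw [ih, hv]; group
        _ = v ^ (k + 1) * x := by rw [h1 _ (pow_mem h3 k), pow_succ]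
  have h5 := h4 (Nat.card Q)
  have h6 : c ^ Nat.card Q = 1 := congrArg Subtype.val (pow_card_eq_one' (x := (⟨c, hc⟩ : Q)))
  rw [h6, one_mul, inv_one, mul_one, eq_comm, mul_eq_right] at h5
  have h7 : v = 1 := congrArg Subtype.val
    (eq_one_of_pow_card hcop (v := (⟨v, h3⟩ : V)) (Subtype.ext h5))
  rw [hv, mul_inv_eq_one, mul_inv_eq_iff_eq_mul] at h7
  exact h7

theorem exists_inv_ge_pCore [F.Normal] (hF : Group.IsNilpotent F) (hs : SRPair F H) {q : ℕ}
    [hq : Fact q.Prime] (K : Type u) [Group K] [Finite K] (φ : A →* MulAut K)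
    (hK : Group.IsSolvable K) (h : fixB φ F = ⊥) :
    ∃ Q : Subgroup K, Inv φ Q ∧ IsPGroup q Q ∧ pCore q (fixB φ H) ≤ Q.subgroupOf _ := by
  refine ind hF (P := fun K _ _ φ => ∃ Q : Subgroup K, Inv φ Q ∧ IsPGroup q Q ∧
    pCore q (fixB φ H) ≤ Q.subgroupOf _) ?_ K φ hK h
  intro K _ _ φ hK h IH
  by_cases hne : (⊤ : Subgroup K) = ⊥
  · exact ⟨⊤, inv_top φ, hne ▸ IsPGroup.of_bot, fun _ _ => trivial⟩
  obtain ⟨p, V, hp, _, _, hV, hVp, hV1, -⟩ := exists_V hK (inv_top φ) hne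
  haveI : Fact p.Prime := ⟨hp⟩
  obtain ⟨Q, hQ, hQq, hle⟩ := IH p V hV hp hVp hV1
  set M := Q.comap (QuotientGroup.mk' V) with hM
  have hMi : Inv φ M := inv_comap_mk φ hV hQ
  have h1 : ∀ r ∈ pCore q (fixB φ H), (r : K) ∈ M := fun r hr =>
    hle (H3.map_pCore_le (cover_quo hF hs hK h hV) ⟨r, hr, rfl⟩)
  by_cases hpq : p = q
  · subst hpq
    exact ⟨M, hMi, hQq.comap_of_ker_isPGroup _ (by rwa [QuotientGroup.ker_mk']), h1⟩
  obtain ⟨P, hP, hP'⟩ := exists_inv_compl (φ := resAut φ M hMi) (p := p) (q := q) hF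
    (V := V.subgroupOf M) (fun a x hx => hV a x hx) (hVp.comap_subtype) (fpf_res hMi h) (by
      intro x
      induction x using QuotientGroup.induction_on with | H g => ?_
      obtain ⟨k, hk⟩ := hQq ⟨_, g.2⟩
      refine ⟨k, ?_⟩
      rw [← QuotientGroup.mk_pow, QuotientGroup.eq_one_iff, mem_subgroupOf,
        ← QuotientGroup.eq_one_iff]
      exact congrArg Subtype.val hk)
  have hPq : IsPGroup q ((P : Subgroup M).map M.subtype) := P.2.map _
  have hPi : Inv φ ((P : Subgroup M).map M.subtype) := by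
    rintro a _ ⟨x, hx, rfl⟩
    exact ⟨resAut φ M hMi a x, hP a x hx, rfl⟩
  refine ⟨_, hPi, hPq, fun r hr => ?_⟩
  obtain ⟨v, hv, y, hy, e⟩ := hP' ⟨r, h1 r hr⟩
  have e' : (v : K) * y = r := congrArg Subtype.val e
  have hy' : (y : K) ∈ (P : Subgroup M).map M.subtype := ⟨y, hy, rfl⟩
  have hdis := H67.inf_eq_bot_of_coprime' (IsPGroup.coprime_card_of_ne p q hpq _ _ hVp hPq)
  have hyC : (y : K) ∈ fixB φ H := fun a ha => by
    have h2 : φ a y * (y : K)⁻¹ ∈ V ⊓ (P : Subgroup M).map M.subtype := by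
      refine mem_inf.2 ⟨?_, mul_mem (hPi a _ hy') (inv_mem hy')⟩
      have : φ a y * (y : K)⁻¹ = (φ a v)⁻¹ * v := by
        have := r.2 a ha
        rw [← e', map_mul] at this
        rw [mul_inv_eq_iff_eq_mul, mul_assoc, ← this, inv_mul_cancel_left]
      rw [this]
      exact mul_mem (inv_mem (hV a _ hv)) hv
    rwa [hdis, mem_bot, mul_inv_eq_one] at h2
  have h3 : IsPGroup q (pCore q (fixB φ H) ⊔
      ((P : Subgroup M).map M.subtype).subgroupOf (fixB φ H) : Subgroup (fixB φ H)) :=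
    (H3.pCore_isPGroup q _).to_sup_of_normal_left hPq.comap_subtype
  have h4 : r * (⟨y, hyC⟩ : fixB φ H)⁻¹ ∈ V.subgroupOf (fixB φ H) ⊓ (pCore q (fixB φ H) ⊔
      ((P : Subgroup M).map M.subtype).subgroupOf (fixB φ H)) := by
    refine mem_inf.2 ⟨?_, mul_mem (mem_sup_left hr) (inv_mem (mem_sup_right hy'))⟩
    change (r : K) * (y : K)⁻¹ ∈ V
    rw [← e', mul_inv_cancel_right]
    exact hv
  rw [H67.inf_eq_bot_of_coprime' (IsPGroup.coprime_card_of_ne p q hpq
    (V.subgroupOf (fixB φ H)) _ hVp.comap_subtype h3), mem_bot, mul_inv_eq_one] at h4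
  rw [h4]
  exact hy'

theorem piCore_fix [F.Normal] (hF : Group.IsNilpotent F) (hs : SRPair F H) (π : Set ℕ)
    (K : Type u) [Group K] [Finite K] (φ : A →* MulAut K) (hK : Group.IsSolvable K)
    (h : fixB φ F = ⊥) : piCore π (fixB φ H) = (piCore π K).subgroupOf _ := by
  refine le_antisymm ?_ (H3.piCore_subgroupOf_le _)
  refine ind hF (P := fun K _ _ φ => piCore π (fixB φ H) ≤ (piCore π K).subgroupOf _) ?_ K φ hK h
  intro K _ _ φ hK h IH
  haveI := H3.piCore_characteristic π K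
  by_cases hne : piCore π K = ⊥
  swap
  · obtain ⟨p, V, hp, _, _, hV, hVp, hV1, hle⟩ :=
      exists_V hK (inv_of_characteristic φ (piCore π K)) hne
    intro x hx
    refine H3.comap_piCore_le (QuotientGroup.mk' V) ?_
      (IH p V hV hp hVp hV1 (H3.map_piCore_le (cover_quo hF hs hK h hV) ⟨x, hx, rfl⟩))
    rw [QuotientGroup.ker_mk']
    exact H67.isPi_of_le (H67.isPi_piCore π) hle
  suffices h1 : piCore π (fixB φ H) = ⊥ by rw [h1]; exact bot_le
  by_contra h1
  obtain ⟨q, R, hq, _, -, -, hRq, hR1, hle⟩ := exists_V (φ := (1 : A →* MulAut (fixB φ H)))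
    inferInstance (N := piCore π (fixB φ H)) (fun _ _ hx => hx) h1
  haveI : Fact q.Prime := ⟨hq⟩
  have hqπ : q ∈ π := H3.piCore_pi π _ q hq
    ((H67.dvd_card_of_isPGroup hq hRq hR1).trans (card_dvd_of_le hle))
  obtain ⟨⟨c, hc⟩, hc1⟩ := ne_bot_iff_exists_ne_one.1 hR1
  have hc' : c ∈ pCore q (fixB φ H) := H3.le_pCore hRq hc
  obtain ⟨Q, hQ, hQq, hQle⟩ := exists_inv_ge_pCore hF hs (q := q) K φ hK h
  haveI := H3.fitting_characteristic K
  have h2 : ¬ q ∣ Nat.card (fittingSubgroup K) := fun hd => by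
    haveI := piCoreOf_normal {q} (fittingSubgroup K)
    refine H67.ne_bot_of_dvd_card hq (dvd_card_pCoreOf (H3.fitting_isNilpotent K) hq hd) ?_
    rw [eq_bot_iff, ← hne]
    exact H67.le_piCore (H67.isPi_of_isPGroup_of_mem hq (H67.isPGroup_pCoreOf hq _) hqπ)
  have hdis : Disjoint (pCore q (fixB φ H)) ((fittingSubgroup K).subgroupOf (fixB φ H)) := by
    rw [disjoint_iff]
    refine H3.inf_eq_bot_of_isPGroup_of_coprime (H3.pCore_isPGroup q _) ?_
    refine ((Nat.Prime.coprime_iff_not_dvd hq).2 fun hd => h2 (hd.trans ?_)).symm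
    rw [H3.card_subgroupOf]
    exact card_dvd_of_le inf_le_left
  have h3 := commute_of_commute hF hs K φ hK h Q (fittingSubgroup K) c hQ hQq (hQle hc')
    inferInstance (inv_of_characteristic φ _) h2 fun x hx hx' =>
      (commute_of_normal_of_disjoint _ _ inferInstance inferInstance hdis c ⟨x, hx'⟩ hc' hx).map
        (fixB φ H).subtype
  have h4 : c ∈ (fittingSubgroup K).subgroupOf (fixB φ H) :=
    H3.centralizer_fitting_le K fun x hx => (h3 x hx).eq.symm
  exact hc1 (Subtype.ext (disjoint_def.1 hdis hc' h4))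

end Cfsg.Agent.H91.FB
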