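import Mathlib
import Cfsg.Agent.H44.K5Defs

/-! Positive definite unimodular integral forms of rank at most five are standard. -/

set_option autoImplicit false

namespace Cfsg.Agent.H91.K5Uni

open Matrix Cfsg.Agent.H44.K5

theorem trans {n : ℕ} (A U : Matrix (Fin n) (Fin n) ℤ) (hU : IsUnit U.det) (hs : Aᵀ = A)
    (hp : ∀ x : Fin n → ℤ, x ≠ 0 → 0 < x ⬝ᵥ A *ᵥ x) (hd : A.det = 1) :
    (Uᵀ * A * U)ᵀ = Uᵀ * A * U ∧ (∀ x : Fin n → ℤ, x ≠ 0 → 0 < x ⬝ᵥ (Uᵀ * A * U) *ᵥ x) ∧
      (Uᵀ * A * U).det = 1 := by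
  refine ⟨?_, fun x hx => ?_, ?_⟩
  · rw [transpose_mul, transpose_mul, transpose_transpose, hs, Matrix.mul_assoc]
  · have h1 : U *ᵥ x ≠ 0 := fun h => hx (Matrix.eq_zero_of_mulVec_eq_zero hU.ne_zero h)
    have h2 := hp _ h1
    rwa [← mulVec_mulVec, ← mulVec_mulVec, dotProduct_mulVec, vecMul_transpose]
  · rw [det_mul, det_mul, det_transpose, hd]
    rcases Int.isUnit_iff.mp hU with h | h <;> rw [h] <;> norm_num

theorem uni (herm : HermStmt) : UniStmt := by
  intro n
  induction n with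
  | zero => exact fun _ A _ _ _ => ⟨1, by ext i; exact i.elim0⟩
  | succ n ih =>
    intro hn A hs hp hd
    obtain ⟨U, hU, hb⟩ := herm n A hs hp
    obtain ⟨hs1, hp1, hd1⟩ := trans A U hU hs hp hd
    obtain ⟨B, hB⟩ : ∃ B, B = Uᵀ * A * U := ⟨_, rfl⟩
    rw [← hB] at hb hs1 hp1 hd1
    have h0 : 0 < B 0 0 := by
      have := hp1 (Pi.single 0 1) (by simp)
      simpa using this
    have h1 : B 0 0 = 1 := by
      by_contra hne
      have h2 : (2 : ℤ) ^ (n + 1) ≤ B 0 0 ^ (n + 1) := pow_le_pow_left₀ (by norm_num) (by omega) _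
      rw [hd] at hb
      generalize B 0 0 ^ (n + 1) = c at hb h2
      have hn' : n ≤ 4 := by omega
      interval_cases n <;> norm_num at hb h2 <;> omega
    obtain ⟨E, hE⟩ : ∃ E : Matrix (Fin (n + 1)) (Fin (n + 1)) ℤ, E = Matrix.of
        (Fin.cons (Fin.cons 1 fun j => -B 0 j.succ)
          fun i => Fin.cons 0 fun j => (1 : Matrix (Fin n) (Fin n) ℤ) i j) := ⟨_, rfl⟩
    have e00 : E 0 0 = 1 := by rw [hE]; rfl
    have e0s : ∀ j : Fin n, E 0 j.succ = -B 0 j.succ := fun j => by rw [hE]; rfl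
    have es0 : ∀ i : Fin n, E i.succ 0 = 0 := fun i => by rw [hE]; rfl
    have ess : ∀ i j : Fin n, E i.succ j.succ = (1 : Matrix (Fin n) (Fin n) ℤ) i j :=
      fun i j => by rw [hE]; rfl
    have hdE : E.det = 1 := by
      have : E.submatrix Fin.succ Fin.succ = 1 := by ext i j; exact ess i j
      rw [det_succ_column_zero, Fin.sum_univ_succ]
      simp [e00, es0, this]
    obtain ⟨hs2, hp2, hd2⟩ := trans B E (hdE ▸ isUnit_one) hs1 hp1 hd1
    obtain ⟨C, hC⟩ : ∃ C, C = Eᵀ * B * E := ⟨_, rfl⟩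
    rw [← hC] at hs2 hp2 hd2
    have c0 : ∀ j, C 0 j = (B * E) 0 j := fun j => by
      rw [hC, Matrix.mul_assoc, mul_apply, Fin.sum_univ_succ]
      simp [e00, es0]
    have c00 : C 0 0 = 1 := by
      rw [c0, mul_apply, Fin.sum_univ_succ]
      simp [e00, es0, h1]
    have c0s : ∀ j : Fin n, C 0 j.succ = 0 := fun j => by
      rw [c0, mul_apply, Fin.sum_univ_succ]
      simp [e0s, ess, h1, one_apply]
    have cs0 : ∀ j : Fin n, C j.succ 0 = 0 := fun j => by
      rw [← hs2, transpose_apply, c0s]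
    obtain ⟨V, hV⟩ := ih (by omega) (C.submatrix Fin.succ Fin.succ)
      (by rw [transpose_submatrix, hs2]) (fun x hx => by
        have := hp2 (Fin.cons 0 x) (fun h => hx (funext fun i => congrFun h i.succ))
        simpa [dotProduct, mulVec, Fin.sum_univ_succ] using this) (by
        rw [det_succ_row_zero, Fin.sum_univ_succ] at hd2
        simpa [c00, c0s] using hd2)
    obtain ⟨W, hW⟩ : ∃ W : Matrix (Fin (n + 1)) (Fin (n + 1)) ℤ, W = Matrix.of
        (Fin.cons (Fin.cons 1 fun _ => 0) fun i => Fin.cons 0 fun j => V i j) := ⟨_, rfl⟩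
    have w00 : W 0 0 = 1 := by rw [hW]; rfl
    have w0s : ∀ j : Fin n, W 0 j.succ = 0 := fun j => by rw [hW]; rfl
    have ws0 : ∀ i : Fin n, W i.succ 0 = 0 := fun i => by rw [hW]; rfl
    have wss : ∀ i j : Fin n, W i.succ j.succ = V i j := fun i j => by rw [hW]; rfl
    refine ⟨U * E * W, ?_⟩
    have he : (U * E * W)ᵀ * A * (U * E * W) = Wᵀ * C * W := by
      rw [hC, hB]; simp only [transpose_mul, Matrix.mul_assoc]
    rw [he]
    ext i j
    refine Fin.cases ?_ (fun i => ?_) i <;> refine Fin.cases ?_ (fun j => ?_) j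
    · simp [mul_apply, Fin.sum_univ_succ, w00, w0s, ws0, c00]
    · simp [mul_apply, Fin.sum_univ_succ, w00, w0s, ws0, c0s, (Fin.succ_ne_zero j).symm, one_apply]
    · simp [mul_apply, Fin.sum_univ_succ, w00, w0s, ws0, cs0, one_apply]
    · have := congrFun (congrFun hV i) j
      simp only [mul_apply, transpose_apply, submatrix_apply] at this
      simp [mul_apply, Fin.sum_univ_succ, w0s, wss, this, one_apply]

end Cfsg.Agent.H91.K5Uni
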