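import Mathlib
import Cfsg.Agent.H89.OlDefs
import Cfsg.Agent.H20.Tau

/-!
Orbits of an automorphism of order five on an elementary abelian group of order 32 and the
stable generalized characters attached to them.
-/

set_option autoImplicit false
set_option linter.style.haveILetI false
set_option linter.unusedSectionVars false

namespace Cfsg.Agent.H91.OlE5O

open Cfsg Subgroup Cfsg.Agent.H18 Cfsg.Agent.H17 Cfsg.Agent.H89.Ol MonoidAlgebra
open Cfsg.Agent.H19 (kk)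
open scoped Classical ComplexConjugate

universe u

theorem five {a b c d e : ℂ} (ha : a = 1 ∨ a = -1) (hb : b = 1 ∨ b = -1) (hc : c = 1 ∨ c = -1)
    (hd : d = 1 ∨ d = -1) (he : e = 1 ∨ e = -1) (h : a * b * c * d * e = 1) :
    ∃ m : ℤ, a + b + c + d + e = 4 * m + 1 := by
  rcases ha with rfl | rfl <;> rcases hb with rfl | rfl <;> rcases hc with rfl | rfl <;>
    rcases hd with rfl | rfl <;> rcases he with rfl | rfl <;>
    first
    | (exfalso; norm_num at h; done)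
    | (refine ⟨1, ?_⟩; norm_num; done)
    | (refine ⟨0, ?_⟩; norm_num; done)
    | (refine ⟨-1, ?_⟩; norm_num; done)

section abs

variable {A : Type*} [CommGroup A] [Fintype A] {σ : MulAut A} {z : A}

theorem pow_mod (h5 : σ ^ 5 = 1) (i : ℕ) : σ ^ i = σ ^ (i % 5) := by
  conv_lhs => rw [← Nat.div_add_mod i 5, pow_add, pow_mul, h5, one_pow, one_mul]

theorem app_add (i j : ℕ) (a : A) : (σ ^ (i + j)) a = (σ ^ i) ((σ ^ j) a) := by
  rw [pow_add, MulAut.mul_apply]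

theorem fix_pow {a : A} {τ : MulAut A} (h : τ a = a) (m : ℕ) : (τ ^ m) a = a := by
  induction m with
  | zero => rfl
  | succ m ih => rw [pow_succ, MulAut.mul_apply, h, ih]

theorem fix_of_pow (h5 : σ ^ 5 = 1) {a : A} {k : ℕ} (hk : 0 < k) (hk5 : k < 5)
    (h : (σ ^ k) a = a) : σ a = a := by
  have h1 := fix_pow h (k ^ 3)
  rw [← pow_mul, pow_mod h5] at h1
  have : k * k ^ 3 % 5 = 1 := by interval_cases k <;> norm_num
  rwa [this, pow_one] at h1

/-- The orbit of a point. -/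
noncomputable def cls (σ : MulAut A) (a : A) : Finset A :=
  (Finset.range 5).image fun i => (σ ^ i) a

theorem mem_cls (h5 : σ ^ 5 = 1) {a w : A} : w ∈ cls σ a ↔ ∃ i : ℕ, w = (σ ^ i) a := by
  simp only [cls, Finset.mem_image, Finset.mem_range]
  constructor
  · rintro ⟨i, -, rfl⟩; exact ⟨i, rfl⟩
  · rintro ⟨i, rfl⟩
    exact ⟨i % 5, Nat.mod_lt _ (by norm_num), by rw [← pow_mod h5]⟩

theorem injOn (h5 : σ ^ 5 = 1) {a : A} (ha : σ a ≠ a) :
    Set.InjOn (fun i => (σ ^ i) a) (Finset.range 5 : Set ℕ) := by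
  have key : ∀ i j, i < j → j < 5 → (σ ^ i) a ≠ (σ ^ j) a := fun i j hij hj h => by
    obtain ⟨k, rfl⟩ := Nat.exists_eq_add_of_lt hij
    rw [add_assoc, app_add] at h
    exact ha (fix_of_pow h5 (Nat.succ_pos k) (by omega) ((σ ^ i).injective h).symm)
  intro i hi j hj h
  simp only [Finset.coe_range, Set.mem_Iio] at hi hj
  rcases lt_trichotomy i j with h1 | h1 | h1
  · exact absurd h (key i j h1 hj)
  · exact h1
  · exact absurd h.symm (key j i h1 hi)

theorem card_cls (h5 : σ ^ 5 = 1) {a : A} (ha : σ a ≠ a) : (cls σ a).card = 5 := by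
  rw [cls, Finset.card_image_of_injOn (injOn h5 ha), Finset.card_range]

theorem back (h5 : σ ^ 5 = 1) {a b : A} {i j : ℕ} (h : (σ ^ i) b = (σ ^ j) a) :
    b = (σ ^ (4 * i + j)) a := by
  rw [app_add, ← h, ← app_add, show 4 * i + i = 5 * i by ring, pow_mul, h5, one_pow]
  rfl

/-- Invariant sets without fixed points. -/
def Cl (σ : MulAut A) (S : Finset A) : Prop := ∀ a ∈ S, σ a ≠ a ∧ ∀ i : ℕ, (σ ^ i) a ∈ S

theorem Cl.sub (h5 : σ ^ 5 = 1) {S : Finset A} (h : Cl σ S) {a : A} (ha : a ∈ S) :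
    cls σ a ⊆ S := fun w hw => by
  obtain ⟨i, rfl⟩ := (mem_cls h5).1 hw
  exact (h a ha).2 i

theorem Cl.step (h5 : σ ^ 5 = 1) {S : Finset A} (h : Cl σ S) {a : A} (ha : a ∈ S) :
    Cl σ (S \ cls σ a) ∧ (S \ cls σ a).card + 5 = S.card := by
  refine ⟨fun b hb => ?_, ?_⟩
  · rw [Finset.mem_sdiff] at hb
    refine ⟨(h b hb.1).1, fun i => Finset.mem_sdiff.2 ⟨(h b hb.1).2 i, fun h1 => hb.2 ?_⟩⟩
    obtain ⟨j, hj⟩ := (mem_cls h5).1 h1
    exact (mem_cls h5).2 ⟨_, back h5 hj⟩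
  · rw [← card_cls h5 (h a ha).1]
    exact Finset.card_sdiff_add_card_eq_card (h.sub h5 ha)

theorem three (h5 : σ ^ 5 = 1) {S : Finset A} (h : Cl σ S) (hS : S.card = 15) :
    ∃ v : Fin 3 → A, (∀ i, v i ∈ S) ∧ (∀ i j, v j ∈ cls σ (v i) → i = j) ∧
      ∀ w ∈ S, ∃ i, w ∈ cls σ (v i) := by
  obtain ⟨a, ha⟩ : S.Nonempty := Finset.card_pos.1 (by omega)
  obtain ⟨c1, n1⟩ := h.step h5 ha
  obtain ⟨b, hb⟩ : (S \ cls σ a).Nonempty := Finset.card_pos.1 (by omega)
  obtain ⟨c2, n2⟩ := c1.step h5 hb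
  obtain ⟨c, hc⟩ : ((S \ cls σ a) \ cls σ b).Nonempty := Finset.card_pos.1 (by omega)
  obtain ⟨-, n3⟩ := c2.step h5 hc
  have e0 : ((S \ cls σ a) \ cls σ b) \ cls σ c = ∅ := Finset.card_eq_zero.1 (by omega)
  have sy : ∀ x y : A, x ∈ cls σ y → y ∈ cls σ x := fun x y hx => by
    obtain ⟨j, hj⟩ := (mem_cls h5).1 hx
    exact (mem_cls h5).2 ⟨_, back h5 (i := j) (j := 0) hj.symm⟩
  simp only [Finset.mem_sdiff] at hb hc
  refine ⟨![a, b, c], fun i => ?_, fun i j hij => ?_, fun w hw => ?_⟩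
  · fin_cases i
    · exact ha
    · exact hb.1
    · exact hc.1.1
  · fin_cases i <;> fin_cases j <;>
      first
      | rfl
      | exact absurd hij hb.2
      | exact absurd hij hc.1.2
      | exact absurd hij hc.2
      | exact absurd (sy _ _ hij) hb.2
      | exact absurd (sy _ _ hij) hc.1.2
      | exact absurd (sy _ _ hij) hc.2
  · by_contra hn
    push Not at hn
    have : w ∈ ((S \ cls σ a) \ cls σ b) \ cls σ c := by
      simp only [Finset.mem_sdiff]
      exact ⟨⟨⟨hw, hn 0⟩, hn 1⟩, hn 2⟩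
    rw [e0] at this
    exact absurd this (Finset.notMem_empty _)

/-- The norm map. -/
def nm (σ : MulAut A) (a : A) : A := a * σ a * (σ ^ 2) a * (σ ^ 3) a * (σ ^ 4) a

theorem nm_mul (a b : A) : nm σ (a * b) = nm σ a * nm σ b := by
  simp only [nm, map_mul]
  ac_rfl

theorem nm_app (h5 : σ ^ 5 = 1) (a : A) : nm σ (σ a) = nm σ a := by
  have e : ∀ i : ℕ, (σ ^ i) (σ a) = (σ ^ (i + 1)) a := fun i => by rw [pow_succ, MulAut.mul_apply]
  have e1 : σ (σ a) = (σ ^ 2) a := by rw [pow_two, MulAut.mul_apply]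
  simp only [nm, e, e1, Nat.reduceAdd, h5, MulAut.one_apply]
  ac_rfl

theorem app_nm (h5 : σ ^ 5 = 1) (a : A) : σ (nm σ a) = nm σ a := by
  have e : ∀ i : ℕ, σ ((σ ^ i) a) = (σ ^ (i + 1)) a := fun i => by
    rw [pow_succ', MulAut.mul_apply]
  have e1 : σ (σ a) = (σ ^ 2) a := by rw [pow_two, MulAut.mul_apply]
  simp only [nm, map_mul, e, e1, Nat.reduceAdd, h5, MulAut.one_apply]
  ac_rfl

theorem nm_pow (h5 : σ ^ 5 = 1) (a : A) (i : ℕ) : nm σ ((σ ^ i) a) = nm σ a := by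
  induction i with
  | zero => rfl
  | succ i ih => rw [pow_succ', MulAut.mul_apply, nm_app h5, ih]

theorem sum_cls (h5 : σ ^ 5 = 1) (h2 : ∀ a : A, a * a = 1) {a : A} (ha : σ a ≠ a)
    (hn : nm σ a = 1) (l : A →* ℂˣ) :
    ∃ m : ℤ, ∑ w ∈ cls σ a, conj (l w : ℂ) = 4 * m + 1 := by
  have s : ∀ w : A, (l w : ℂ) = 1 ∨ (l w : ℂ) = -1 := fun w =>
    mul_self_eq_one_iff.1 (by rw [← Units.val_mul, ← map_mul, h2, map_one, Units.val_one])
  have s' : ∀ w : A, conj (l w : ℂ) = l w := fun w => by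
    rcases s w with h | h <;> simp [h]
  simp only [s']
  rw [cls, Finset.sum_image (injOn h5 ha)]
  simp only [Finset.sum_range_succ, Finset.sum_range_zero, zero_add, pow_zero, pow_one,
    MulAut.one_apply]
  refine five (s _) (s _) (s _) (s _) (s _) ?_
  simp only [← Units.val_mul, ← map_mul]
  rw [show a * σ a * (σ ^ 2) a * (σ ^ 3) a * (σ ^ 4) a = 1 from hn, map_one, Units.val_one]

theorem abs_comm (h5 : σ ^ 5 = 1) (h2 : ∀ a : A, a * a = 1) (hA : Nat.card A = 32) (z1 : z ≠ 1)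
    (hz : σ z = z) (hf : ∀ a, σ a = a → a = 1 ∨ a = z) (R : A → A → Prop)
    (hR : ∀ u w, R u w ↔ ∃ i : ℕ, w = (σ ^ i) u) :
    ∃ v : Fin 3 → A, (∀ i, v i ≠ 1 ∧ v i ≠ z) ∧ (∀ i j, R (v i) (v j) → i = j) ∧
      (∀ i j, ¬ R (v i) (z * v j)) ∧
      (∀ w, w = 1 ∨ w = z ∨ ∃ i, R (v i) w ∨ R (z * v i) w) ∧
      ∀ i j, IsGeneralizedCharacter A fun w =>
        8 * ((if R (v i) w then 1 else 0) - if R (v j) w then 1 else 0) := by
  have nz : nm σ z = z := by
    simp only [nm, hz, fix_pow hz, h2, one_mul]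
  have n1 : nm σ 1 = 1 := by simp [nm]
  have nv : ∀ a, nm σ a = 1 ∨ nm σ a = z := fun a => hf _ (app_nm h5 a)
  have zz : ∀ a : A, z * (z * a) = a := fun a => by rw [← mul_assoc, h2, one_mul]
  have c16 : (Finset.univ.filter fun a : A => nm σ a = 1).card = 16 := by
    have e1 := Finset.card_filter_add_card_filter_not (s := (Finset.univ : Finset A))
      (fun a : A => nm σ a = 1)
    have e2 : (Finset.univ.filter fun a : A => nm σ a = 1).card =
        (Finset.univ.filter fun a : A => ¬ nm σ a = 1).card := by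
      refine Finset.card_nbij' (fun a => z * a) (fun a => z * a) (fun a ha => ?_) (fun a ha => ?_)
        (fun a _ => zz a) (fun a _ => zz a)
      · simp only [Finset.coe_filter, Finset.mem_univ, true_and, Set.mem_ofPred_eq] at ha ⊢
        rw [nm_mul, nz, ha, mul_one]; exact z1
      · simp only [Finset.coe_filter, Finset.mem_univ, true_and, Set.mem_ofPred_eq] at ha ⊢
        rw [nm_mul, nz, (nv a).resolve_left ha, h2]
    rw [Finset.card_univ, ← Nat.card_eq_fintype_card, hA] at e1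
    omega
  set S := (Finset.univ.filter fun a : A => nm σ a = 1).erase 1 with hSdef
  have mS : ∀ a, a ∈ S ↔ a ≠ 1 ∧ nm σ a = 1 := fun a => by simp [hSdef]
  have c15 : S.card = 15 := by
    rw [hSdef, Finset.card_erase_of_mem (by simp [n1]), c16]
  have nzS : ∀ a ∈ S, a ≠ z := fun a ha h => z1 (by rw [← nz, ← h]; exact ((mS a).1 ha).2)
  have cl : Cl σ S := fun a ha => by
    refine ⟨fun h => ?_, fun i => (mS _).2 ⟨fun h => ((mS a).1 ha).1 ?_, ?_⟩⟩
    · rcases hf a h with h | h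
      · exact ((mS a).1 ha).1 h
      · exact nzS a ha h
    · exact (σ ^ i).injective (h.trans (map_one _).symm)
    · rw [nm_pow h5, ((mS a).1 ha).2]
  obtain ⟨v, v1, v2, v3⟩ := three h5 cl c15
  have rc : ∀ u w, R u w ↔ w ∈ cls σ u := fun u w => (hR u w).trans (mem_cls h5).symm
  refine ⟨v, fun i => ⟨((mS _).1 (v1 i)).1, nzS _ (v1 i)⟩, fun i j h => v2 i j ((rc _ _).1 h),
    fun i j h => ?_, fun w => ?_, fun i j => ?_⟩
  · have := ((mS _).1 (cl.sub h5 (v1 i) ((rc _ _).1 h))).2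
    rw [nm_mul, nz, ((mS _).1 (v1 j)).2, mul_one] at this
    exact z1 this
  · by_cases w1 : w = 1
    · exact Or.inl w1
    by_cases wz : w = z
    · exact Or.inr (Or.inl wz)
    refine Or.inr (Or.inr ?_)
    rcases nv w with h | h
    · obtain ⟨i, hi⟩ := v3 w ((mS w).2 ⟨w1, h⟩)
      exact ⟨i, Or.inl ((rc _ _).2 hi)⟩
    · obtain ⟨i, hi⟩ := v3 (z * w) ((mS _).2 ⟨fun e => wz (by rw [← zz w, e, mul_one]),
        by rw [nm_mul, nz, h, h2]⟩)
      obtain ⟨k, hk⟩ := (mem_cls h5).1 hi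
      refine ⟨i, Or.inr ((hR _ _).2 ⟨k, ?_⟩)⟩
      rw [map_mul, fix_pow hz, ← hk, zz]
  · refine H11.isGen_of_classInner_int (H11.isClassFunction_of_comm mul_comm _) fun χ hχ => ?_
    obtain ⟨l, hl⟩ := (H20.linEquiv (S := A) mul_comm).surjective ⟨χ, hχ⟩
    have hl' : χ = H20.lin l := (congrArg Subtype.val hl).symm
    obtain ⟨m, hm⟩ := sum_cls h5 h2 (cl _ (v1 i)).1 ((mS _).1 (v1 i)).2 l
    obtain ⟨m', hm'⟩ := sum_cls h5 h2 (cl _ (v1 j)).1 ((mS _).1 (v1 j)).2 l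
    have key : ∀ u : A, ∑ w : A, (if R u w then (1 : ℂ) else 0) * conj (l w : ℂ) =
        ∑ w ∈ cls σ u, conj (l w : ℂ) := fun u => by
      simp only [rc, ite_mul, one_mul, zero_mul]
      rw [Finset.sum_ite_mem, Finset.univ_inter]
    refine ⟨m - m', ?_⟩
    rw [H11.classInner_def, hA, hl']
    simp only [mul_assoc, sub_mul]
    rw [← Finset.mul_sum, Finset.sum_sub_distrib, key, key, hm, hm']
    push_cast
    ring

end abs

theorem e5o (fu : FUStmt.{u}) : E5OStmt.{u} := by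
  intro G _ _ M B P e t z h
  have hc : ∀ a b : P, a * b = b * a := fun a b =>
    Subtype.ext (Subgroup.mem_centralizer_iff.1 (h.cy.ab b.2) a a.2)
  letI : CommGroup P := { (inferInstance : Group P) with mul_comm := hc }
  have tN : t ∈ Nz P := (NP_le ⊤ P e h.cy.mem).2
  let σ : MulAut P := P.normalizerMonoidHom ⟨t, tN⟩
  have hσ : ∀ (i : ℕ) (a : P), (((σ ^ i) a : P) : G) = t ^ i * a * (t ^ i)⁻¹ := fun i a => by
    rw [← map_pow]; rfl
  have hσ1 : ∀ a : P, ((σ a : P) : G) = t * a * t⁻¹ := fun a => rfl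
  have h5 : σ ^ 5 = 1 := by
    ext a
    rw [hσ, ← Subgroup.mem_centralizer_iff.1 h.cy.pow a a.2, mul_inv_cancel_right]
    rfl
  have hR : ∀ u w : P, Fus 2 P e (u : G) (w : G) ↔ ∃ i : ℕ, w = (σ ^ i) u := fun u w => by
    rw [fu G M B P e u w h.bs h.cy.ab u.2]
    constructor
    · rintro ⟨g, hg, hw⟩
      obtain ⟨i, hi⟩ := h.cy.gen g hg trivial
      refine ⟨i, Subtype.ext ?_⟩
      have e1 := Subgroup.mem_centralizer_iff.1 hi u u.2
      rw [hσ, hw]
      calc g * u * g⁻¹ = t ^ i * ((t ^ i)⁻¹ * g * u) * g⁻¹ := by group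
        _ = t ^ i * u * (t ^ i)⁻¹ := by rw [← e1]; group
    · rintro ⟨i, rfl⟩
      exact ⟨t ^ i, pow_mem h.cy.mem i, hσ i u⟩
  obtain ⟨v, v1, v2, v3, v4, v5⟩ := abs_comm (σ := σ) (z := ⟨z, h.mem⟩) h5
    (fun a => Subtype.ext (h.sq a a.2)) h.card (fun e => h.ne (congrArg Subtype.val e))
    (Subtype.ext (by rw [hσ1, ← h.cen t, mul_inv_cancel_right]))
    (fun a ha => by
      have e1 := congrArg Subtype.val ha
      rw [hσ1, mul_inv_eq_iff_eq_mul] at e1
      rcases h.fix a a.2 e1 with e2 | e2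
      · exact Or.inl (Subtype.ext e2)
      · exact Or.inr (Subtype.ext e2))
    (fun u w : P => Fus 2 P e (u : G) (w : G)) hR
  refine ⟨fun i => v i, fun i => (v i).2, fun i => ⟨fun e => (v1 i).1 (Subtype.ext e),
    fun e => (v1 i).2 (Subtype.ext e)⟩, v2, v3, fun w hw => ?_, v5⟩
  rcases v4 ⟨w, hw⟩ with e1 | e1 | e1
  · exact Or.inl (congrArg Subtype.val e1)
  · exact Or.inr (Or.inl (congrArg Subtype.val e1))
  · exact Or.inr (Or.inr e1)

end Cfsg.Agent.H91.OlE5O
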