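import Mathlib
import Cfsg.Agent.H4.CoprimeGen
import Cfsg.Agent.H61.NoIndexTwo
import Cfsg.Agent.H87.Quat
import Cfsg.Agent.H89.PBasic
import Cfsg.Agent.H7.PBasic
import Cfsg.Agent.H5.SmallP
import Cfsg.Agent.S0095

/-!
# Non-cyclic abelian groups of odd order acting on a 2-group with small fixed points
-/

set_option autoImplicit false

namespace Cfsg.Agent.H91.OI

open Subgroup SemidirectProduct
open scoped commutatorElement

variable {W : Type*} [Group W]

/-- Fixed points of an automorphism. -/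
def fxp (e : MulAut W) : Subgroup W := e.toMonoidHom.eqLocus (MonoidHom.id W)

theorem mem_fxp {e : MulAut W} {x : W} : x ∈ fxp e ↔ e x = x := Iff.rfl

/-- Common fixed points. -/
def cfx (E : Subgroup (MulAut W)) : Subgroup W := ⨅ e ∈ E, fxp e

theorem mem_cfx {E : Subgroup (MulAut W)} {x : W} : x ∈ cfx E ↔ ∀ e ∈ E, e x = x := by
  simp [cfx, mem_fxp]

theorem cfx_le {E : Subgroup (MulAut W)} {e : MulAut W} (h : e ∈ E) : cfx E ≤ fxp e :=
  fun _ hx => mem_cfx.1 hx e h

/-- Invariant subgroups. -/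
def Iv (E : Subgroup (MulAut W)) (K : Subgroup W) : Prop := ∀ e ∈ E, ∀ x ∈ K, e x ∈ K

variable {E : Subgroup (MulAut W)} {K L : Subgroup W}

theorem Iv.inf (h : Iv E K) (h' : Iv E L) : Iv E (K ⊓ L) :=
  fun e he x hx => ⟨h e he x hx.1, h' e he x hx.2⟩

theorem Iv.cent (h : Iv E K) : Iv E (centralizer (K : Set W)) := fun e he x hx y hy => by
  have := congrArg e (hx _ (h _ (inv_mem he) y hy))
  simpa using this

theorem iv_char (K : Subgroup W) [h : K.Characteristic] : Iv E K := fun e _ x hx => by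
  rw [← h.fixed e] at hx
  exact hx

theorem iv_fxp (hab : IsMulCommutative E) {e : MulAut W} (he : e ∈ E) : Iv E (fxp e) :=
  fun f hf x hx => by
    have : e * f = f * e := congrArg Subtype.val (hab.1.1 ⟨e, he⟩ ⟨f, hf⟩)
    rw [mem_fxp, ← MulAut.mul_apply, this, MulAut.mul_apply, mem_fxp.1 hx]

/-- Restriction to an invariant subgroup. -/
def res (h : Iv E K) : E →* MulAut K where
  toFun e :=
    { toFun := fun x => ⟨e.1 x, h _ e.2 _ x.2⟩
      invFun := fun x => ⟨e.1⁻¹ x, h _ (inv_mem e.2) _ x.2⟩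
      left_inv := fun x => Subtype.ext (e.1.symm_apply_apply x)
      right_inv := fun x => Subtype.ext (e.1.apply_symm_apply x)
      map_mul' := fun _ _ => Subtype.ext (map_mul e.1 _ _) }
  map_one' := rfl
  map_mul' _ _ := rfl

theorem mem_ker_res (h : Iv E K) (e : E) : e ∈ (res h).ker ↔ K ≤ fxp e :=
  ⟨fun k x hx => mem_fxp.2 (congrArg Subtype.val
      (DFunLike.congr_fun (MonoidHom.mem_ker.1 k) (⟨x, hx⟩ : K))),
    fun k => MulEquiv.ext fun x => Subtype.ext (k x.2)⟩

variable [Finite W]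

theorem gen (hab : IsMulCommutative E) (hnc : ¬ IsCyclic E) (hc : (Nat.card E).Coprime (Nat.card W))
    (hK : Iv E K) (h : ∀ e ∈ E, e ≠ 1 → K ⊓ fxp e ≤ L) : K ≤ L := by
  let G := W ⋊[MonoidHom.id (MulAut W)] MulAut W
  have : Finite G := Finite.of_equiv _ SemidirectProduct.equivProd.symm
  let A : Subgroup G := E.map inr
  have eA := (E.equivMapOfInjective (inr : MulAut W →* G) inr_injective).symm
  have : IsMulCommutative A := inferInstance
  have key : ∀ (e : MulAut W) (x : W), (inr e : G) * inl x * (inr e)⁻¹ = inl (e x) := fun e x => by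
    rw [← map_inv]; exact (inl_aut e x).symm
  refine (map_le_map_iff_of_injective (inl_injective (φ := MonoidHom.id (MulAut W)))).1
    (H4.le_of_centralizer_singleton_le (A := A) (fun k => hnc (isCyclic_of_surjective eA eA.surjective))
      ?_ ?_ ?_)
  · rintro _ ⟨e, he, rfl⟩
    refine mem_normalizer_iff.2 fun y => ⟨?_, ?_⟩
    · rintro ⟨x, hx, rfl⟩
      exact ⟨_, hK e he x hx, (key e x).symm⟩
    · rintro ⟨x, hx, k⟩
      refine ⟨_, hK _ (inv_mem he) x hx, ?_⟩
      rw [← key, k, map_inv]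
      group
  · rw [card_map_of_injective inr_injective, card_map_of_injective inl_injective]
    exact hc.coprime_dvd_right (card_subgroup_dvd_card K)
  · rintro _ ⟨e, he, rfl⟩ h1 _ ⟨⟨x, hx, rfl⟩, k⟩
    refine mem_map_of_mem _ (h e he (fun k => h1 (by rw [k, map_one])) ⟨hx, ?_⟩)
    refine inl_injective (φ := MonoidHom.id (MulAut W)) ?_
    change inl (e x) = inl x
    rw [← key, ← mem_centralizer_singleton_iff.1 k, mul_inv_cancel_right]

omit [Finite W] in
theorem le_fxp_of (hc : (Nat.card E).Coprime (Nat.card W)) {f : MulAut W} (hf : f ∈ E)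
    (h : ∀ x ∈ K, x⁻¹ * f x ∈ cfx E) : K ≤ fxp f := fun x hx => by
  have h1 : ∀ n : ℕ, (f ^ n) x = x * (x⁻¹ * f x) ^ n := fun n => by
    induction n with
    | zero => simp
    | succ n ih =>
      rw [pow_succ', MulAut.mul_apply, ih, map_mul, map_pow, mem_cfx.1 (h x hx) f hf, pow_succ',
        ← mul_assoc, mul_inv_cancel_left]
  have h2 := h1 (orderOf f)
  rw [pow_orderOf_eq_one, MulAut.one_apply, left_eq_mul] at h2
  have h3 := (pow_eq_one_iff_of_coprime (hc.coprime_dvd_left (orderOf_dvd_natCard E hf))).1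
    ⟨h2, pow_card_eq_one'⟩
  exact (inv_mul_eq_one.1 h3).symm

theorem nine {A : Type*} [Group A] [Finite A] (hab : IsMulCommutative A) (hnc : ¬ IsCyclic A)
    (h9 : Nat.card A = 9) : ∃ a b c d : A, a ≠ 1 ∧ b ≠ 1 ∧ c ≠ 1 ∧ d ≠ 1 ∧ ∀ e : A, e ≠ 1 →
      a ∈ zpowers e ∨ b ∈ zpowers e ∨ c ∈ zpowers e ∨ d ∈ zpowers e := by
  classical
  have h3 : ∀ x : A, x ≠ 1 → orderOf x = 3 := fun x hx => by
    have h1 : orderOf x ∣ 3 ^ 2 := (orderOf_dvd_natCard x).trans h9.dvd
    obtain ⟨i, hi, e⟩ := (Nat.dvd_prime_pow Nat.prime_three).1 h1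
    interval_cases i
    · exact absurd (orderOf_eq_one_iff.1 e) hx
    · exact e
    · exact absurd (isCyclic_of_orderOf_eq_card x (e.trans h9.symm)) hnc
  have : Nontrivial A := Finite.one_lt_card_iff_nontrivial.1 (by omega)
  obtain ⟨a, ha⟩ := exists_ne (1 : A)
  obtain ⟨b, hb⟩ : ∃ b, b ∉ zpowers a := by
    by_contra k
    push Not at k
    exact hnc ⟨a, k⟩
  have hb1 : b ≠ 1 := fun e => hb (e ▸ one_mem _)
  let _ : CommGroup A := { (inferInstance : Group A) with mul_comm := hab.1.1 }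
  have ha3 : a ^ 3 = 1 := h3 a ha ▸ pow_orderOf_eq_one a
  have hb3 : b ^ 3 = 1 := h3 b hb1 ▸ pow_orderOf_eq_one b
  have htop : zpowers a ⊔ zpowers b = ⊤ := by
    have h1 : Nat.card ↥(zpowers a ⊔ zpowers b) ∣ 3 ^ 2 := (card_subgroup_dvd_card _).trans h9.dvd
    have h2 : Nat.card (zpowers a) < Nat.card ↥(zpowers a ⊔ zpowers b) :=
      Set.Finite.card_lt_card (Set.toFinite _)
        (show zpowers a < zpowers a ⊔ zpowers b from left_lt_sup.2 (by rwa [zpowers_le]))
    rw [Nat.card_zpowers, h3 a ha] at h2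
    obtain ⟨i, hi, e⟩ := (Nat.dvd_prime_pow Nat.prime_three).1 h1
    refine eq_top_of_card_eq _ ?_
    interval_cases i <;> omega
  refine ⟨a, b, a * b, a * b ^ 2, ha, hb1, fun k => hb ?_, fun k => hb ?_, fun e he => ?_⟩
  · rw [eq_inv_of_mul_eq_one_right k]
    exact inv_mem (mem_zpowers a)
  · rw [show b = a from by rw [← mul_one b, ← k, mul_left_comm, ← pow_succ', hb3, mul_one]]
    exact mem_zpowers a
  · obtain ⟨x, hx, y, hy, rfl⟩ := mem_sup.1 (htop ▸ mem_top e)
    rw [mem_zpowers_iff_mem_range_orderOf, h3 a ha] at hx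
    rw [mem_zpowers_iff_mem_range_orderOf, h3 b hb1] at hy
    obtain ⟨i, hi, rfl⟩ := Finset.mem_image.1 hx
    obtain ⟨j, hj, rfl⟩ := Finset.mem_image.1 hy
    rw [Finset.mem_range] at hi hj
    have ea : (a ^ 2) ^ 2 = a := by rw [← pow_mul, show 2 * 2 = 3 + 1 by rfl, pow_succ, ha3, one_mul]
    have eb : (b ^ 2) ^ 2 = b := by rw [← pow_mul, show 2 * 2 = 3 + 1 by rfl, pow_succ, hb3, one_mul]
    have sq : ∀ {x y : A}, y ^ 2 = x → x ∈ zpowers y := fun h => h ▸ npow_mem_zpowers _ 2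
    interval_cases i <;> interval_cases j
    · simp at he
    · simp
    · exact Or.inr (Or.inl (sq (by rw [pow_zero, one_mul, eb])))
    · simp
    · simp
    · simp
    · exact Or.inl (sq (by rw [pow_zero, mul_one, ea]))
    · exact Or.inr (Or.inr (Or.inr (sq (by rw [pow_one, mul_pow, ea]))))
    · exact Or.inr (Or.inr (Or.inl (sq (by rw [mul_pow, ea, eb]))))

variable (hW : IsPGroup 2 W) {p : ℕ} [hp : Fact p.Prime] (h2 : p ≠ 2) (hE : IsPGroup p E)
  (hab : IsMulCommutative E) (hnc : ¬ IsCyclic E)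
  (hfix : ∀ e ∈ E, e ≠ 1 → ∀ x y : W, orderOf x = 2 → orderOf y = 2 → e x = x → e y = y → x = y)
include hW h2 hE

theorem cop : (Nat.card E).Coprime (Nat.card W) := by
  obtain ⟨m, hm⟩ := hE.exists_card_eq
  obtain ⟨n, hn⟩ := hW.exists_card_eq
  rw [hm, hn]
  exact Nat.coprime_pow_primes _ _ hp.out Nat.prime_two h2

include hfix in
theorem dich {e : MulAut W} (he : e ∈ E) (h1 : e ≠ 1) (hL : Iv E L) (h : L ≤ fxp e) :
    L ≤ cfx E ∨ (Nat.card L = 8 ∧ Nat.card (MulAut L) = 24 ∧ ¬ IsMulCommutative L) := by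
  have k := hW.to_subgroup L
  rcases H61.aut_of_cyclic_or_quaternion k ((H87.isCyclic_or_quaternion_of_inv_unique k
    fun x hx y hy a b => hfix e he h1 x y a b (h hx) (h hy)).imp_right fun ⟨n, _, k⟩ => ⟨n, k⟩) with
    k | ⟨⟨f⟩, ⟨g⟩⟩
  · refine Or.inl fun x hx => mem_cfx.2 fun f hf => (mem_ker_res hL ⟨f, hf⟩).1 ?_ hx
    obtain ⟨m, hm⟩ := hE ⟨f, hf⟩
    obtain ⟨n, hn⟩ := k (res hL ⟨f, hf⟩)
    exact (pow_eq_one_iff_of_coprime (Nat.coprime_pow_primes m n hp.out Nat.prime_two h2)).1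
      ⟨by rw [← map_pow, hm, map_one], hn⟩
  · refine Or.inr ⟨?_, ?_, fun k => ?_⟩
    · rw [Nat.card_congr f.toEquiv, Nat.card_eq_fintype_card, QuaternionGroup.card]
    · rw [Nat.card_congr g.toEquiv, Nat.card_perm, Nat.card_fin]; rfl
    · have := congrArg f (k.1.1 (f.symm (.a 1)) (f.symm (.xa 0)))
      simp only [map_mul, MulEquiv.apply_symm_apply] at this
      exact absurd this (by decide)

include hab hfix in
theorem dich' {e : MulAut W} (he : e ∈ E) (h1 : e ≠ 1) (hL : Iv E L) (h : L ≤ fxp e) :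
    L ≤ cfx E ∨ L = fxp e := by
  refine (dich hW h2 hE hfix he h1 hL h).elim Or.inl fun k => ?_
  exact (dich hW h2 hE hfix he h1 (iv_fxp hab he) le_rfl).imp h.trans fun k' =>
    eq_of_le_of_card_ge h (by omega)

include hab hnc hfix

theorem le_cfx (hK : Iv E K) (h : ∀ x ∈ K, ∀ y ∈ K, x * y = y * x) : K ≤ cfx E :=
  gen hab hnc (cop hW h2 hE) hK fun _ he h1 =>
    (dich hW h2 hE hfix he h1 (hK.inf (iv_fxp hab he)) inf_le_right).resolve_right fun k =>
      k.2.2 ⟨⟨fun x y => Subtype.ext (h _ x.2.1 _ y.2.1)⟩⟩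

omit hfix in
theorem exists_not_le {e : MulAut W} (h1 : e ≠ 1) : ∃ f ∈ E, f ≠ 1 ∧ ¬ fxp f ≤ fxp e := by
  by_contra k
  push Not at k
  exact h1 (MulEquiv.ext fun x => gen (K := ⊤) hab hnc (cop hW h2 hE) (iv_char ⊤)
    (fun f hf f1 => inf_le_right.trans (k f hf f1)) (mem_top x))

omit hfix in
theorem exists_two : ∃ e ∈ E, ∃ f ∈ E, e ≠ 1 ∧ f ≠ 1 ∧ ¬ fxp e ≤ cfx E ∧ ¬ fxp f ≤ fxp e := by
  have : Nontrivial E := by
    by_contra k
    rw [not_nontrivial_iff_subsingleton] at k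
    exact hnc isCyclic_of_subsingleton
  obtain ⟨⟨g, hg⟩, g1⟩ := exists_ne (1 : E)
  obtain ⟨e, he, e1, k⟩ := exists_not_le hW h2 hE hab hnc (e := g) fun k => g1 (Subtype.ext k)
  obtain ⟨f, hf, f1, k'⟩ := exists_not_le hW h2 hE hab hnc e1
  exact ⟨e, he, f, hf, e1, f1, fun c => k (c.trans (cfx_le hg)), k'⟩

theorem card_cfx : Nat.card (cfx E) = 2 ∧ cfx E = center W := by
  obtain ⟨e, he, -, -, e1, -, k, -⟩ := exists_two hW h2 hE hab hnc
  have h8 := ((dich hW h2 hE hfix he e1 (iv_fxp hab he) le_rfl).resolve_left k).1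
  obtain ⟨⟨z, hz⟩, z2⟩ := exists_prime_orderOf_dvd_card' (G := fxp e) 2 (by rw [h8]; norm_num)
  rw [orderOf_mk] at z2
  have hzC : z ∈ cfx E := mem_cfx.2 fun f hf =>
    hfix e he e1 _ _ (by rw [MulEquiv.orderOf_eq, z2]) z2 (iv_fxp hab he f hf z hz) hz
  have h3 : Nat.card (cfx E) = 2 := by
    have h4 : Nat.card (cfx E) ∣ 2 ^ 3 := (card_dvd_of_le (cfx_le he)).trans h8.dvd
    have h5 : 2 ∣ Nat.card (cfx E) := z2 ▸ orderOf_dvd_natCard _ hzC
    obtain ⟨i, hi, h6⟩ := (Nat.dvd_prime_pow Nat.prime_two).1 h4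
    interval_cases i
    · omega
    · exact h6
    · refine (k fun x hx => mem_cfx.2 fun f hf =>
        le_fxp_of (cop hW h2 hE) hf (fun x hx => ?_) hx).elim
      have h7 : ((cfx E).subgroupOf (fxp e)).index = 2 := by
        have := ((cfx E).subgroupOf (fxp e)).index_mul_card
        rw [Nat.card_congr (subgroupOfEquivOfLe (cfx_le he)).toEquiv, h6, h8] at this
        omega
      refine (mul_mem_iff_of_index_two h7 (a := ⟨x, hx⟩⁻¹) (b := ⟨f x, iv_fxp hab he f hf x hx⟩)).2 ?_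
      rw [inv_mem_iff, mem_subgroupOf, mem_subgroupOf]
      change x ∈ _ ↔ f x ∈ _
      refine ⟨fun c => by rwa [mem_cfx.1 c f hf], fun c => ?_⟩
      have := mem_cfx.1 c _ (inv_mem hf)
      rw [MulAut.inv_apply_self] at this
      exact this ▸ c
    · exact (k (eq_of_le_of_card_ge (cfx_le he) (by omega)).ge).elim
  have h4 : zpowers z = cfx E :=
    eq_of_le_of_card_ge (zpowers_le.2 hzC) (by rw [h3, Nat.card_zpowers, z2])
  refine ⟨h3, le_antisymm ?_ (le_cfx hW h2 hE hab hnc hfix (iv_char _) fun x hx y _ =>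
    (mem_center_iff.1 hx y).symm)⟩
  rw [← h4, zpowers_le, mem_center_iff]
  intro g
  refine mem_centralizer_singleton_iff.1 (gen (K := ⊤) hab hnc (cop hW h2 hE) (iv_char ⊤)
    (fun f hf f1 x hx => ?_) (mem_top g))
  have k1 := cfx_le hf hzC
  have k2 : x ∈ fxp f := hx.2
  rw [mem_centralizer_singleton_iff, ← mul_inv_eq_iff_eq_mul]
  exact hfix f hf f1 _ _ (((MulAut.conj x).orderOf_eq z).trans z2) z2
    (mul_mem (mul_mem k2 k1) (inv_mem k2)) k1

theorem commutator_le : commutator W ≤ center W := by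
  have hC := (card_cfx hW h2 hE hab hnc hfix).2
  set N := Subgroup.upperCentralSeries W 2 with hN
  have mN : ∀ {x}, x ∈ N ↔ ∀ y, ⁅x, y⁆ ∈ center W := fun {x} => by
    rw [hN, Subgroup.mem_upperCentralSeries_succ_iff, Subgroup.upperCentralSeries_one]
  have hZ : center W ≤ N := fun x hx => mN.2 fun y => by
    rw [commutatorElement_eq_one_iff_mul_comm.2 (mem_center_iff.1 hx y).symm]
    exact one_mem _
  have hD : centralizer (N : Set W) ≤ center W := by
    have h1 : centralizer (N : Set W) ⊓ N ≤ center W := hC ▸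
      le_cfx hW h2 hE hab hnc hfix ((iv_char N).cent.inf (iv_char N)) fun x hx y hy => (hx.1 y hy.2).symm
    by_contra k
    have h3 : (centralizer (N : Set W)).map (QuotientGroup.mk' (center W)) ≠ ⊥ := by
      rwa [Ne, Subgroup.map_eq_bot_iff, QuotientGroup.ker_mk']
    have := Normal.map (H := centralizer (N : Set W)) inferInstance _
      (QuotientGroup.mk'_surjective (center W))
    obtain ⟨⟨_, ⟨d, hd, rfl⟩, d1⟩, d2⟩ := (ne_bot_iff_exists_ne_one).1
      (H89.inf_center_ne_bot (hW.to_quotient (center W)) h3)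
    refine d2 (Subtype.ext ((QuotientGroup.eq_one_iff d).2 (h1 ⟨hd, ?_⟩)))
    rw [hN, ← Subgroup.comap_upperCentralSeries_quotient_center, Subgroup.upperCentralSeries_one]
    exact d1
  have key : (⊤ : Subgroup W) ≤ N := gen hab hnc (cop hW h2 hE) (iv_char ⊤) fun f hf f1 => by
    refine inf_le_right.trans ?_
    rcases dich' hW h2 hE hab hfix hf f1 ((iv_fxp hab hf).inf (iv_char N)) inf_le_left with k | k
    swap
    · exact inf_eq_left.1 k
    refine (le_centralizer_iff.1 ?_).trans (hD.trans hZ)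
    refine gen hab hnc (cop hW h2 hE) (iv_char N) fun e he e1 => ?_
    rcases dich' hW h2 hE hab hfix he e1 ((iv_char N).inf (iv_fxp hab he)) inf_le_right with c | c
    · exact c.trans (hC ▸ center_le_centralizer _)
    rcases dich' hW h2 hE hab hfix he e1 ((iv_fxp hab he).inf (iv_fxp hab hf).cent) inf_le_left with
      d | d
    swap
    · exact inf_le_right.trans (inf_eq_left.1 d)
    have d1 : fxp e ≤ fxp f := le_fxp_of (cop hW h2 hE) hf fun x hx => d <| mem_inf.2 ⟨mul_mem (inv_mem hx)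
      (iv_fxp hab he f hf x hx), fun y hy => by
        have := cfx_le hf (hC ▸ mN.1 (inf_eq_right.1 c hx) y)
        rw [mem_fxp, map_commutatorElement, mem_fxp.1 hy, commutatorElement_def,
          commutatorElement_def, mul_left_inj] at this
        calc y * (x⁻¹ * f x) = x⁻¹ * (x * y * x⁻¹) * f x := by group
          _ = x⁻¹ * f x * y := by rw [← this]; group⟩
    exact fun x hx => center_le_centralizer _ (hC ▸ k ⟨d1 hx.2, hx.1⟩)
  rw [_root_.commutator_def, Subgroup.commutator_le]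
  exact fun x _ y _ => mN.1 (key (mem_top x)) y

theorem card_E : Nat.card E = 9 := by
  obtain ⟨e, he, f, hf, e1, f1, k, k'⟩ := exists_two hW h2 hE hab hnc
  have key : ∀ g (hg : g ∈ E), g ≠ 1 → ¬ fxp g ≤ cfx E → (res (iv_fxp hab hg)).ker.index ≤ 3 :=
    fun g hg g1 c => by
      have h1 := ((dich hW h2 hE hfix hg g1 (iv_fxp hab hg) le_rfl).resolve_left c).2.1
      have h3 : (res (iv_fxp hab hg)).ker.index ∣ 2 ^ 3 * 3 := by
        rw [index_ker]
        exact (card_subgroup_dvd_card _).trans h1.dvd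
      obtain ⟨n, hn⟩ := hE.index (res (iv_fxp hab hg)).ker
      rw [hn] at h3 ⊢
      exact Nat.le_of_dvd (by norm_num)
        ((Nat.coprime_pow_primes _ _ hp.out Nat.prime_two h2).dvd_of_dvd_mul_left h3)
  have h1 : (res (iv_fxp hab he)).ker ⊓ (res (iv_fxp hab hf)).ker = ⊥ := by
    refine eq_bot_iff.2 fun g hg => by_contra fun g1 => k' ?_
    rcases dich' hW h2 hE hab hfix g.2 (fun c => g1 (Subtype.ext c)) (iv_fxp hab he)
      ((mem_ker_res _ _).1 hg.1) with c | c
    · exact absurd c k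
    · exact c ▸ (mem_ker_res _ _).1 hg.2
  have h3 := index_inf_le (H := (res (iv_fxp hab he)).ker) (K := (res (iv_fxp hab hf)).ker)
  rw [h1, index_bot] at h3
  have h4 : Nat.card E ≤ 3 * 3 :=
    h3.trans (Nat.mul_le_mul (key e he e1 k) (key f hf f1 fun c => k' (c.trans (cfx_le he))))
  obtain ⟨n, hn⟩ := hE.exists_card_eq
  have h5 : 3 ≤ p := by have := hp.out.two_le; omega
  rcases n with _ | _ | n
  · have := (Nat.card_eq_one_iff_unique.1 hn).1
    exact absurd isCyclic_of_subsingleton hnc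
  · exact absurd (isCyclic_of_prime_card (hn.trans (pow_one p))) hnc
  · have : 3 ^ 2 ≤ p ^ (n + 1 + 1) :=
      (Nat.pow_le_pow_left h5 2).trans (Nat.pow_le_pow_right hp.out.pos (by omega))
    omega

theorem extra : IsExtraspecial 2 W := by
  obtain ⟨h3, hC⟩ := card_cfx hW h2 hE hab hnc hfix
  have h1 := commutator_le hW h2 hE hab hnc hfix
  rw [hC] at h3
  have h4 : commutator W = center W := by
    refine eq_of_le_of_card_ge h1 ?_
    obtain ⟨e, -, -, -, -, -, k, -⟩ := exists_two hW h2 hE hab hnc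
    have : commutator W ≠ ⊥ := fun c => k (le_top.trans
      (hC ▸ ((commutator_eq_bot_iff_center_eq_top W).1 c).ge))
    rw [h3]
    exact (one_lt_card_iff_ne_bot _).2 this
  exact ⟨⟨hW, le_antisymm (H5.frattini_le_center_of_card_commutator hW (h4 ▸ h3))
    (h4 ▸ H89.commutator_le_frattini hW), h4⟩, h3⟩

theorem card_W : Nat.card W = 2 ^ 5 ∨ Nat.card W = 2 ^ 7 ∨ Nat.card W = 2 ^ 9 := by
  obtain ⟨h3, hC⟩ := card_cfx hW h2 hE hab hnc hfix
  have h1 := commutator_le hW h2 hE hab hnc hfix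
  have h8 : ∀ g : E, g ≠ 1 → Nat.card (fxp g.1) ≤ 8 := fun g g1 => by
    rcases dich hW h2 hE hfix g.2 (fun c => g1 (Subtype.ext c)) (iv_fxp hab g.2) le_rfl with c | c
    · exact (card_le_of_le c).trans (by omega)
    · exact c.1.le
  have hs : ∀ (K : Subgroup W) (g : E), g ≠ 1 → cfx E ≤ K →
      Nat.card ↥(K ⊔ fxp g.1) ≤ Nat.card K * 4 := fun K g g1 c => by
    have : (fxp g.1).Normal := Normal.of_commutator_le _ (h1.trans (hC ▸ cfx_le g.2))
    have c1 := H7.card_sup_mul_card_inf K (fxp g.1)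
    have c2 := card_le_of_le (le_inf c (cfx_le g.2))
    have c3 := h8 g g1
    nlinarith
  obtain ⟨a, b, c, d, ha, hb, hc, hd, h⟩ := nine hab hnc (card_E hW h2 hE hab hnc hfix)
  have h4 : (⊤ : Subgroup W) ≤ fxp a.1 ⊔ fxp b.1 ⊔ fxp c.1 ⊔ fxp d.1 :=
    gen hab hnc (cop hW h2 hE) (iv_char ⊤) fun e he e1 => by
      have key : ∀ g : E, g ∈ zpowers (⟨e, he⟩ : E) → ⊤ ⊓ fxp e ≤ fxp g.1 := fun g hg x hx => by
        have : zpowers (⟨e, he⟩ : E) ≤ (MulAction.stabilizer (MulAut W) x).subgroupOf E :=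
          zpowers_le.2 hx.2
        exact this hg
      rcases h ⟨e, he⟩ (fun k => e1 (congrArg Subtype.val k)) with k | k | k | k
      · exact (key _ k).trans (le_sup_left.trans (le_sup_left.trans le_sup_left))
      · exact (key _ k).trans (le_sup_right.trans (le_sup_left.trans le_sup_left))
      · exact (key _ k).trans (le_sup_right.trans le_sup_left)
      · exact (key _ k).trans le_sup_right
  have h5 := card_le_of_le h4
  rw [card_top] at h5
  have k1 := cfx_le a.2
  have c1 := h8 a ha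
  have c2 := hs _ b hb k1
  have c3 := hs _ c hc (k1.trans (le_sup_left (b := fxp b.1)))
  have c4 := hs _ d hd (k1.trans ((le_sup_left (b := fxp b.1)).trans (le_sup_left (b := fxp c.1))))
  obtain ⟨n, n1, hn⟩ := S0095.result (extra hW h2 hE hab hnc hfix)
  have h6 : 2 ^ (2 * n + 1) ≤ 2 ^ 9 := by omega
  rw [Nat.pow_le_pow_iff_right (by norm_num)] at h6
  have h7 : n ≠ 1 := by
    rintro rfl
    obtain ⟨e, he, f, -, e1, -, k, k'⟩ := exists_two hW h2 hE hab hnc
    have := ((dich hW h2 hE hfix he e1 (iv_fxp hab he) le_rfl).resolve_left k).1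
    exact k' (le_top.trans (eq_top_of_card_eq _ (this.trans hn.symm)).ge)
  rw [hn]
  rcases (show n = 2 ∨ n = 3 ∨ n = 4 by omega) with rfl | rfl | rfl <;> simp

end Cfsg.Agent.H91.OI
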