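import Cfsg.Agent.H19.S93Kit

/-!
# Odd automorphisms centralising the component of an involution centraliser are trivial
-/

set_option autoImplicit false
open scoped Pointwise commutatorElement
open Subgroup

namespace Cfsg.Agent.H91.S93Odd
open Cfsg.Agent.H8 Cfsg.Agent.H23.D2 Cfsg.Agent.H46.S95 Cfsg.Agent.H19.S93Q

universe u

local notation "C[" A "]" => Subgroup.centralizer (SetLike.coe A)
local notation "N[" A "]" => Subgroup.normalizer (SetLike.coe A)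

variable {Γ Δ : Type} [Group Γ] [Group Δ] {G : Type u} [Group G] {p : Δ →* Γ} {φ : Δ →* G}

theorem cv_comp (hv : Cv p) (γ : MulAut Γ) : Cv (γ.toMonoidHom.comp p) := by
  have k : (γ.toMonoidHom.comp p).ker = p.ker := by
    ext a
    simp [MonoidHom.mem_ker]
  exact ⟨hv.base, hv.fin, γ.surjective.comp hv.surj,
    fun a h => hv.cen a (show a ∈ p.ker from k ▸ (show a ∈ (γ.toMonoidHom.comp p).ker from h)),
    k ▸ hv.odd, hv.perf⟩

theorem core [Finite G] (hv : Cv p) (hi : Function.Injective φ) {z : Γ} {Λ Z : Subgroup Γ} {a : Δ}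
    (rc : RC z (p a) Λ Z) (hZ : IsPGroup 2 Z) (ha : a * a = 1) {U : Subgroup G}
    (hU : Odd (Nat.card U)) (hN : U ≤ N[φ.range]) (hc : ∀ x ∈ U, x * φ a = φ a * x)
    (hl : ∀ l ∈ ⁅Cz a, Cz a⁆, φ l ∈ N[U]) : U ≤ C[φ.range] := by
  obtain ⟨θ, t1, t2⟩ := hv.exists_autHom hi
  have lift : ∀ l ∈ Λ, ∃ l', φ l' ∈ N[U] ∧ p l' = l := fun l h => by
    have e1 : Λ ≤ Cz (p a) := fun y hy =>
      mem_Cz.2 (mem_centralizer_iff.1 (rc.ZC rc.aZ) y hy)
    have e2 : l ∈ ⁅Cz (p a), Cz (p a)⁆ := commutator_mono e1 e1 (rc.perf.ge h)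
    rw [← hv.map_Cz ha, ← map_commutator] at e2
    obtain ⟨l', h1, h2⟩ := e2
    exact ⟨l', hl l' h1, h2⟩
  have two : ∀ e ∈ Z, ∃ k, e ^ 2 ^ k = 1 := fun e he => by
    obtain ⟨k, h⟩ := hZ ⟨e, he⟩
    exact ⟨k, congrArg Subtype.val h⟩
  have oU : ∀ x ∈ U, Odd (orderOf x) := fun x hx => hU.of_dvd_nat (U.orderOf_dvd_natCard hx)
  have oM : ∀ y ∈ Λ ⊓ (U.comap φ).map p, Odd (orderOf y) := by
    rintro _ ⟨-, y, hy, rfl⟩
    have := oU _ hy
    rw [orderOf_injective φ hi] at this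
    exact this.of_dvd_nat (orderOf_map_dvd p y)
  have nM : Λ ≤ N[Λ ⊓ (U.comap φ).map p] := fun l h => by
    obtain ⟨l', h1, rfl⟩ := lift l h
    have e1 : p l' ∈ N[(U.comap φ).map p] :=
      le_normalizer_map p (mem_map_of_mem p (le_normalizer_comap φ h1))
    have e2 : p l' ∈ N[Λ] := le_normalizer h
    rw [mem_normalizer_iff] at e1 e2 ⊢
    intro y
    rw [mem_inf, mem_inf, e1 y, e2 y]
  have M1 : ∀ y ∈ Λ ⊓ (U.comap φ).map p, y = 1 := fun y hy => by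
    rcases rc.nrm _ inf_le_left nM with h | ⟨w, hw, w2, w1, -⟩
    · obtain ⟨k, e⟩ := two y (h hy)
      exact eq_one_of_odd_two (oM y hy) e
    · exact absurd (eq_one_of_odd_two (oM w hw) (n := 1) (by rw [pow_one, pow_two, w2])) w1
  intro x hx
  obtain ⟨α, hα⟩ := exists_aut hi (hN hx)
  have b1 : θ ⟨x, hN hx⟩ (p a) = p a :=
    t1 _ a a (by change φ a = x * φ a * x⁻¹; rw [hc x hx, mul_inv_cancel_right])
  have b2 : ∀ l ∈ Λ, θ ⟨x, hN hx⟩ l = l := fun l h => by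
    have m := rc.inv _ b1 l h
    obtain ⟨l', h1, rfl⟩ := lift l h
    have e1 : θ ⟨x, hN hx⟩ (p l') = p (α l') := t1 _ l' _ (hα l')
    rw [e1] at m ⊢
    have e2 : l' * (α l')⁻¹ ∈ U.comap φ := by
      rw [mem_comap, map_mul, map_inv, hα]
      have e3 := mul_mem ((mem_normalizer_iff.1 h1 x).1 hx) (U.inv_mem hx)
      have e4 : φ l' * (x * φ l' * x⁻¹)⁻¹ = φ l' * x * (φ l')⁻¹ * x⁻¹ := by group
      rwa [e4]
    have e5 := M1 (p l' * (p (α l'))⁻¹) ⟨mul_mem h (Λ.inv_mem m),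
      ⟨_, e2, by rw [map_mul, map_inv]⟩⟩
    exact (mul_inv_eq_one.1 e5).symm
  obtain ⟨e, he, b3⟩ := rc.cen _ b1 b2
  obtain ⟨k, hk⟩ := two e he
  refine (t2 ⟨x, hN hx⟩).1 (eq_one_of_odd_two (n := k) ?_ ?_)
  · refine Odd.of_dvd_nat ?_ (orderOf_map_dvd θ _)
    rw [orderOf_mk]
    exact oU x hx
  · rw [b3, ← map_pow, hk, map_one]

theorem odd : H19.S93Q.OddStmt.{u} := by
  intro Γ Δ _ _ G _ _ p φ hv hi z b Λ Z rc hZ a ha hb U hU hN hc hl
  obtain ⟨c, hc'⟩ := isConj_iff.1 hb.symm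
  have e : ((MulAut.conj c).toMonoidHom.comp p) a = b := hc'
  exact core (cv_comp hv (MulAut.conj c)) hi (e ▸ rc) hZ ha hU hN hc hl

end Cfsg.Agent.H91.S93Odd
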