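import Mathlib
import Cfsg.Agent.H89.PNormal
import Cfsg.Agent.H5.UniqueP
import Cfsg.Agent.H9.Dihedral
import Cfsg.Agent.H3.Cores

/-!
Finite `p`-groups in which any two subgroups of the same order are isomorphic.
-/

set_option autoImplicit false

namespace Cfsg.Agent.H91

open Subgroup
open scoped commutatorElement

theorem normal_zpowers_of_mem_center {P : Type*} [Group P] {z : P} (hz : z ∈ center P) :
    (zpowers z).Normal := ⟨fun w hw g => by
  rw [mem_center_iff.mp (zpowers_le.mpr hz hw) g, mul_inv_cancel_right]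
  exact hw⟩

theorem quaternion_not_sameOrderIso {n : ℕ}
    (h : ∀ H K : Subgroup (QuaternionGroup (2 ^ (n + 2))), Nat.card H = Nat.card K →
      Nonempty (H ≃* K)) : False := by
  set α : QuaternionGroup (2 ^ (n + 2)) := QuaternionGroup.a 1 with hα
  have ho : orderOf α = 2 * 2 ^ (n + 2) := QuaternionGroup.orderOf_a_one
  have h8 : orderOf (α ^ 2 ^ n) = 8 := by
    rw [orderOf_pow' _ (by positivity), ho, show 2 * 2 ^ (n + 2) = 8 * 2 ^ n by ring,
      Nat.gcd_mul_left_left, Nat.mul_div_cancel _ (by positivity)]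
  have h4 : orderOf (α ^ 2 ^ (n + 1)) = 2 * 2 := by
    rw [orderOf_pow' _ (by positivity), ho, show 2 * 2 ^ (n + 2) = 4 * 2 ^ (n + 1) by ring,
      Nat.gcd_mul_left_left, Nat.mul_div_cancel _ (by positivity)]
  have hx : QuaternionGroup.xa 0 * α * (QuaternionGroup.xa 0)⁻¹ = α⁻¹ := by
    rw [mul_inv_eq_iff_eq_mul, eq_inv_mul_iff_mul_eq, hα]
    simp
  obtain ⟨e⟩ := H9.closure_equiv_quaternion (α ^ 2 ^ (n + 1)) (QuaternionGroup.xa 0) h4
    (by rw [← pow_mul, ← pow_succ, hα, QuaternionGroup.a_one_pow]; simp)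
    (by rw [← conj_pow, hx, inv_pow])
    (by
      rintro ⟨k, hk⟩
      have h1 : (α ^ 2 ^ (n + 1)) ^ k ∈ zpowers α :=
        zpow_mem (npow_mem_zpowers _ _) k
      obtain ⟨j, hj⟩ := mem_powers_iff_mem_zpowers.mpr h1
      simp only at hk hj
      rw [hk, hα, QuaternionGroup.a_one_pow] at hj
      cases hj)
  obtain ⟨f⟩ := h (zpowers (α ^ 2 ^ n)) (closure {α ^ 2 ^ (n + 1), QuaternionGroup.xa 0}) (by
    rw [Nat.card_zpowers, h8, Nat.card_congr e.toEquiv, H9.nat_card_quaternion])
  have h1 : IsCyclic (QuaternionGroup 2) := isCyclic_of_surjective (f.trans e) (f.trans e).surjective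
  have h2 := h1.isMulCommutative.is_comm.comm (QuaternionGroup.a 1) (QuaternionGroup.xa 0)
  revert h2
  decide

theorem sameOrderIso_of_mulEquiv {P Q : Type*} [Group P] [Group Q] (e : P ≃* Q)
    (h : ∀ H K : Subgroup P, Nat.card H = Nat.card K → Nonempty (H ≃* K)) :
    ∀ H K : Subgroup Q, Nat.card H = Nat.card K → Nonempty (H ≃* K) := by
  intro H K hHK
  obtain ⟨f⟩ := h (H.map e.symm.toMonoidHom) (K.map e.symm.toMonoidHom) (by
    rw [card_map_of_injective e.symm.injective, card_map_of_injective e.symm.injective, hHK])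
  exact ⟨((e.symm.subgroupMap H).trans f).trans (e.symm.subgroupMap K).symm⟩

theorem sameOrderIso_classification {P : Type*} [Group P] [Finite P] {p : ℕ} [hp : Fact p.Prime]
    (hP : IsPGroup p P) (h : ∀ H K : Subgroup P, Nat.card H = Nat.card K → Nonempty (H ≃* K)) :
    IsCyclic P ∨ (IsMulCommutative P ∧ ∀ a : P, a ^ p = 1) ∨
      (p = 2 ∧ Nonempty (P ≃* QuaternionGroup 2)) ∨
      (p ≠ 2 ∧ ¬ IsMulCommutative P ∧ Nat.card P = p ^ 3 ∧ Monoid.exponent P = p) := by
  have hzp : ∀ {x : P}, x ^ p = 1 → Nat.card (zpowers x) ∣ p := fun hx => by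
    rw [Nat.card_zpowers]; exact orderOf_dvd_of_pow_eq_one hx
  by_cases hexp : ∀ a : P, a ^ p = 1
  · by_cases hc : IsMulCommutative P
    · exact Or.inr (Or.inl ⟨hc, hexp⟩)
    right; right; right
    have hnt : Nontrivial P := by
      by_contra h1
      rw [not_nontrivial_iff_subsingleton] at h1
      exact hc ⟨⟨fun a b => Subsingleton.elim _ _⟩⟩
    refine ⟨?_, hc, ?_, ?_⟩
    · rintro rfl
      refine hc ⟨⟨fun a b => ?_⟩⟩
      have h1 : ∀ a : P, a⁻¹ = a := fun a => inv_eq_of_mul_eq_one_right (by rw [← sq, hexp])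
      rw [← h1 (a * b), mul_inv_rev, h1, h1]
    · obtain ⟨k, hk⟩ := hP.exists_card_eq
      rcases Nat.lt_trichotomy k 3 with h3 | rfl | h3
      · exfalso
        apply hc
        interval_cases k
        · exact absurd (Finite.one_lt_card (α := P)) (by simp [hk])
        · have := isCyclic_of_prime_card (hk.trans (pow_one p))
          infer_instance
        · exact IsPGroup.isMulCommutative_of_card_eq_prime_sq hk
      · exact hk
      · exfalso
        obtain ⟨B, -, hBc, hB⟩ := H89.exists_abelian_card_cube hP (hk ▸ pow_dvd_pow p h3)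
        have hlt : center P < ⊤ := lt_top_iff_ne_top.mpr fun e => hc (center_eq_top_iff.mp e)
        obtain ⟨L, -, hZL, -, hLi, hL⟩ := H89.exists_normal_relIndex_prime hP hlt
        obtain ⟨x, hxL, hxZ⟩ : ∃ x ∈ L, x ∉ center P := by
          by_contra h1
          push Not at h1
          rw [relIndex_eq_one.mpr h1] at hLi
          exact hp.out.one_lt.ne hLi
        rw [mem_center_iff] at hxZ
        push Not at hxZ
        obtain ⟨y, hy⟩ := hxZ
        have hcz : ⁅x, y⁆ ∈ center P := hL (commutator_mem_commutator hxL (mem_top y))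
        have hcn : (zpowers ⁅x, y⁆).Normal := normal_zpowers_of_mem_center hcz
        have h1 : Nat.card (zpowers x ⊔ zpowers ⁅x, y⁆ : Subgroup P) ∣ p * p :=
          (H3.card_sup_dvd _ _).trans (Nat.mul_dvd_mul (hzp (hexp _)) (hzp (hexp _)))
        have h2 : zpowers y ≤ normalizer ((zpowers x ⊔ zpowers ⁅x, y⁆ : Subgroup P) : Set P) := by
          rw [zpowers_le]
          refine mem_normalizer_fintype fun w hw => ?_
          have : zpowers x ⊔ zpowers ⁅x, y⁆ ≤
              (zpowers x ⊔ zpowers ⁅x, y⁆).comap (MulAut.conj y).toMonoidHom := by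
            refine sup_le (zpowers_le.mpr ?_) (zpowers_le.mpr ?_)
            · have : (MulAut.conj y).toMonoidHom x = ⁅x, y⁆⁻¹ * x := by
                simp [commutatorElement_def, mul_assoc]
              rw [mem_comap, this]
              exact mul_mem (mem_sup_right (inv_mem (mem_zpowers _))) (mem_sup_left (mem_zpowers _))
            · exact mem_sup_right (hcn.conj_mem _ (mem_zpowers _) y)
          exact this hw
        have h4 := (H3.card_sup_dvd_of_le_normalizer h2).trans (Nat.mul_dvd_mul (hzp (hexp _)) h1)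
        rw [show p * (p * p) = p ^ 3 by ring] at h4
        obtain ⟨j, hj, hj'⟩ := (Nat.dvd_prime_pow hp.out).mp h4
        obtain ⟨T, hT, hle⟩ := Sylow.exists_subgroup_card_pow_prime_le p
          (hk ▸ pow_dvd_pow p h3.le) _ hj' hj
        obtain ⟨f⟩ := h B T (hB.trans hT.symm)
        have hTc : IsMulCommutative T := ⟨⟨fun a b => f.symm.injective (by
          rw [map_mul, map_mul, hBc.is_comm.comm])⟩⟩
        exact hy (H89.comm_of_isMulCommutative hTc (hle (mem_sup_left (mem_zpowers y)))
          (hle (mem_sup_right (mem_sup_left (mem_zpowers x)))))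
    · exact (Monoid.exponent_eq_prime_iff hp.out).mpr fun g hg => orderOf_eq_prime (hexp g) hg
  · push Not at hexp
    obtain ⟨a, ha⟩ := hexp
    obtain ⟨k, hk⟩ := IsPGroup.iff_orderOf.mp hP a
    have hk2 : 2 ≤ k := by
      by_contra h1
      exact ha (orderOf_dvd_iff_pow_eq_one.mp (hk ▸ (pow_dvd_pow p (by omega)).trans (pow_one p).dvd))
    have hb : orderOf (a ^ (orderOf a / p ^ 2)) = p ^ 2 :=
      orderOf_pow_orderOf_div (orderOf_pos a).ne' (hk ▸ pow_dvd_pow p hk2)
    have hnt : (⊤ : Subgroup P) ≠ ⊥ := fun e => ha (by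
      rw [mem_bot.mp (e ▸ mem_top a : a ∈ (⊥ : Subgroup P)), one_pow])
    obtain ⟨z, -, hz, hzo⟩ := H89.exists_center_orderOf_of_normal hP hnt
    have hzn : (zpowers z).Normal := normal_zpowers_of_mem_center hz
    have key : ∀ x : P, orderOf x = p → zpowers x = zpowers z := by
      intro x hx
      have h1 : Nat.card (zpowers x ⊔ zpowers z : Subgroup P) ∣ p ^ 2 := by
        have := H3.card_sup_dvd (zpowers x) (zpowers z)
        rwa [Nat.card_zpowers, Nat.card_zpowers, hx, hzo, ← sq] at this
      obtain ⟨j, hj, hj'⟩ := (Nat.dvd_prime_pow hp.out).mp h1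
      rcases hj.eq_or_lt with rfl | hj
      · exfalso
        obtain ⟨f⟩ := h (zpowers (a ^ (orderOf a / p ^ 2))) (zpowers x ⊔ zpowers z)
          (by rw [Nat.card_zpowers, hb, hj'])
        have h2 : IsCyclic (zpowers x ⊔ zpowers z : Subgroup P) :=
          isCyclic_of_surjective f f.surjective
        have h3 : Monoid.exponent (zpowers x ⊔ zpowers z : Subgroup P) ∣ p := by
          refine Monoid.exponent_dvd_of_forall_pow_eq_one ?_
          rintro ⟨w, hw⟩
          rw [← SetLike.mem_coe, mul_normal] at hw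
          obtain ⟨_, ⟨i, rfl⟩, _, ⟨j, rfl⟩, rfl⟩ := hw
          refine Subtype.ext ?_
          have hxz : Commute x z := mem_center_iff.mp hz x
          change (x ^ i * z ^ j) ^ p = 1
          rw [(hxz.zpow_zpow i j).mul_pow, ← zpow_natCast, ← zpow_natCast, ← zpow_mul, ← zpow_mul,
            mul_comm i, mul_comm j, zpow_mul, zpow_mul, zpow_natCast, zpow_natCast]
          nth_rewrite 1 [← hx]
          rw [← hzo, pow_orderOf_eq_one, pow_orderOf_eq_one]
          simp
        rw [IsCyclic.exponent_eq_card, hj'] at h3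
        have := Nat.le_of_dvd hp.out.pos h3
        have := hp.out.one_lt
        nlinarith
      · have h2 : Nat.card (zpowers x ⊔ zpowers z : Subgroup P) ≤ p := by
          rw [hj']
          exact (Nat.pow_le_pow_right hp.out.pos (by omega)).trans (pow_one p).le
        rw [eq_of_le_of_card_ge (le_sup_left : zpowers x ≤ zpowers x ⊔ zpowers z)
          (by rwa [Nat.card_zpowers, hx])]
        exact (eq_of_le_of_card_ge le_sup_right (by rwa [Nat.card_zpowers, hzo])).symm
    rcases H5.isCyclic_or_quaternion_of_unique hP (fun x y hx hy => by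
      rw [key y hy, ← key x hx]; exact mem_zpowers x) with h1 | ⟨h1, n, ⟨e⟩⟩
    · exact Or.inl h1
    · rcases n with _ | _ | n
      · have := QuaternionGroup.quaternionGroup_one_isCyclic
        exact Or.inl (isCyclic_of_surjective (show QuaternionGroup 1 ≃* P from e.symm)
          e.symm.surjective)
      · exact Or.inr (Or.inr (Or.inl ⟨h1, ⟨e⟩⟩))
      · exact (quaternion_not_sameOrderIso (sameOrderIso_of_mulEquiv e h)).elim

end Cfsg.Agent.H91
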