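import Cfsg.Agent.H91.FrobA
import Cfsg.Agent.H8.FmK4
import Cfsg.Agent.H46.FMMerge

/-! Cosets consisting of elements of odd order: basic facts, norm arguments, and the
non-existence of transitive odd order subgroups. -/

set_option autoImplicit false
set_option linter.unusedSectionVars false

namespace Cfsg.Agent.H91.SPL

open Subgroup Cfsg Cfsg.Agent.H83 Cfsg.Agent.H53.FM
open Cfsg.Agent.H8.Fm (comm_cj tr_cj)
open scoped commutatorElement IsMulCommutative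

universe u

variable {Γ : Type u} [Group Γ]

/-- `s` normalizes `H` and all elements of the coset `H s` have odd order. -/
structure SP (H : Subgroup Γ) (s : Γ) : Prop where
  nrm : s ∈ normalizer (H : Set Γ)
  odd : ∀ h ∈ H, Odd (orderOf (h * s))

theorem eq_one_of_odd {Δ : Type*} [Group Δ] {t u : Δ} (h1 : Odd (orderOf (t * u)))
    (h2 : Odd (orderOf u)) (hc : Commute t u) {k : ℕ} (hk : t ^ 2 ^ k = 1) : t = 1 := by
  have h3 : t ^ (orderOf (t * u) * orderOf u) = 1 := by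
    have := hc.mul_pow (orderOf (t * u) * orderOf u)
    rw [pow_mul, pow_orderOf_eq_one, one_pow, mul_comm (orderOf (t * u)), pow_mul u,
      pow_orderOf_eq_one, one_pow, mul_one, mul_comm] at this
    exact this.symm
  exact orderOf_eq_one_iff.1 (Nat.eq_one_of_dvd_coprimes
    ((Nat.coprime_two_left.2 (h1.mul h2)).pow_left k) (orderOf_dvd_of_pow_eq_one hk)
    (orderOf_dvd_of_pow_eq_one h3))

variable {H K : Subgroup Γ} {s h t : Γ}

theorem SP.odd_self (a : SP H s) : Odd (orderOf s) := by simpa using a.odd 1 (one_mem _)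

theorem SP.odd_card (a : SP H s) : Odd (Nat.card (zpowers s)) := by
  rw [Nat.card_zpowers]; exact a.odd_self

theorem SP.sub (a : SP H s) (hK : K ≤ H) (hh : h ∈ H) (hn : h * s ∈ normalizer (K : Set Γ)) :
    SP K (h * s) :=
  ⟨hn, fun k hk => mul_assoc k h s ▸ a.odd _ (mul_mem (hK hk) hh)⟩

theorem SP.sub' (a : SP H s) (hK : K ≤ H) (hn : s ∈ normalizer (K : Set Γ)) : SP K s :=
  ⟨hn, fun k hk => a.odd k (hK hk)⟩

theorem SP.mul (a : SP H s) (hh : h ∈ H) : SP H (h * s) :=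
  a.sub le_rfl hh (mul_mem (le_normalizer hh) a.nrm)

theorem SP.eq_one (a : SP H s) (hh : h ∈ H) (ht : t ∈ H) (hc : Commute t (h * s)) {k : ℕ}
    (hk : t ^ 2 ^ k = 1) : t = 1 :=
  eq_one_of_odd ((a.mul hh).odd t ht) (a.odd h hh) hc hk

theorem SP.quo (a : SP H s) (hs : s ∈ normalizer (K : Set Γ)) :
    SP (H63.quo H K) (H63.coset K s) := by
  refine ⟨H63.quo_norm H K (H63.coset_mem_quo hs a.nrm), fun x hx => ?_⟩
  obtain ⟨g, hg, gn, rfl⟩ := H63.mem_quo.1 hx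
  rw [← H63.coset_mul gn hs]
  refine (a.odd g hg).of_dvd_nat (orderOf_dvd_of_pow_eq_one ?_)
  rw [← H63.coset_pow (mul_mem gn hs), pow_orderOf_eq_one, H63.coset_eq_one (one_mem _)]

variable [Finite Γ]

theorem exists_sylow (hn : s ∈ normalizer (K : Set Γ)) {p : ℕ}
    [Fact p.Prime] {P : Subgroup Γ} (hP : IsSylowIn p P K) :
    ∃ k ∈ K, k * s ∈ normalizer (P : Set Γ) := by
  obtain ⟨n, hn', b, hb, e⟩ := hP.frattini hn
  exact ⟨n⁻¹, inv_mem hn', by rw [e, inv_mul_cancel_left]; exact hb⟩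

/-- The norm argument. -/
theorem norm_mem {V M : Subgroup Γ} [IsMulCommutative V] {n v : Γ}
    (hn : n ∈ normalizer (V : Set Γ)) (hs : s ∈ normalizer (V : Set Γ)) (hv : v ∈ V) {k : ℕ}
    (hk : 0 < k) (h1 : ∀ i, 0 < i → i < k → s ^ i * v * (s ^ i)⁻¹ ∈ M ∧
      n * (s ^ i * v * (s ^ i)⁻¹) * n⁻¹ = s ^ i * v * (s ^ i)⁻¹)
    (h2 : n * (s ^ k * v * (s ^ k)⁻¹) * n⁻¹ = v) (hf : ∀ w ∈ V, Commute w (n * s) → w = 1) :
    v ∈ M := by
  obtain ⟨j, rfl⟩ : ∃ j, k = j + 1 := ⟨k - 1, by omega⟩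
  let σ := V.normalizerMonoidHom ⟨s, hs⟩
  let ν := V.normalizerMonoidHom ⟨n, hn⟩
  let f : ℕ → V := fun i => (σ ^ i) ⟨v, hv⟩
  have hf1 : ∀ i, (f i : Γ) = s ^ i * v * (s ^ i)⁻¹ := fun i => by
    simp only [f, σ, ← map_pow]
    rfl
  have h3 : ν (σ (∏ i ∈ Finset.range (j + 1), f i)) = ∏ i ∈ Finset.range (j + 1), f i := by
    rw [map_prod, map_prod, Finset.prod_range_succ, Finset.prod_range_succ']
    have e : ∀ i, σ (f i) = f (i + 1) := fun i => by simp only [f, pow_succ', MulAut.mul_apply]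
    congr 1
    · refine Finset.prod_congr rfl fun i hi => Subtype.ext ?_
      rw [e]
      change n * f (i + 1) * n⁻¹ = _
      rw [hf1]
      exact (h1 _ i.succ_pos (by simpa using hi)).2
    · apply Subtype.ext
      rw [e]
      change n * f (j + 1) * n⁻¹ = _
      rw [hf1, hf1, h2]
      simp
  have h4 : ∏ i ∈ Finset.range (j + 1), f i = 1 := by
    refine Subtype.ext (hf _ (Subtype.coe_prop _) ?_)
    have : n * (s * (∏ i ∈ Finset.range (j + 1), f i : V) * s⁻¹) * n⁻¹ = _ :=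
      congrArg Subtype.val h3
    rw [Commute, SemiconjBy, eq_comm, ← mul_inv_eq_iff_eq_mul]
    refine Eq.trans ?_ this
    simp only [mul_inv_rev, mul_assoc]
  rw [Finset.prod_range_succ'] at h4
  have h5 : f 0 ∈ M.subgroupOf V := by
    rw [eq_inv_of_mul_eq_one_right h4]
    refine inv_mem (prod_mem fun i hi => ?_)
    rw [mem_subgroupOf, hf1]
    exact (h1 _ i.succ_pos (by simpa using hi)).1
  simpa [mem_subgroupOf, hf1] using h5

/-- The product over an orbit of commuting elements. -/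
theorem ind_mem {Δ : Type*} [Group Δ] [Finite Δ] {N M : Subgroup Δ} {σ β : Δ} {B : Set Δ}
    (hB : B ⊆ N) (hσ : ∀ x ∈ B, σ * x * σ⁻¹ ∈ B) (hβ : β ∈ B)
    (hc : ∀ x ∈ B, ∀ y ∈ B, x * y = y * x) (hM : ∀ x ∈ B, x = β ∨ x ∈ M)
    (hf : ∀ t ∈ N, Commute t σ → t = 1) : β ∈ M := by
  have : IsMulCommutative (closure B) := isMulCommutative_closure hc
  have h1 : ∀ i : ℕ, ∀ x ∈ B, σ ^ i * x * (σ ^ i)⁻¹ ∈ B := fun i => by
    induction i with
    | zero => simp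
    | succ i ih =>
      intro x hx
      have := hσ _ (ih x hx)
      rwa [show σ * (σ ^ i * x * (σ ^ i)⁻¹) * σ⁻¹ = σ ^ (i + 1) * x * (σ ^ (i + 1))⁻¹ by
        rw [pow_succ']; group] at this
  have h2 : zpowers σ ≤ normalizer (closure B : Set Δ) := zpowers_le.2
    (mem_normalizer_fintype fun x hx => by
      have : closure B ≤ (closure B).comap (MulAut.conj σ).toMonoidHom :=
        (closure_le _).2 fun y hy => subset_closure (hσ y hy)
      exact this hx)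
  have h3 := FB.mem_of_orbit ((closure B).normalizerMonoidHom.comp (inclusion h2))
    (fun u hu => Subtype.ext (hf u ((closure_le N).2 hB u.2) (by
      have : σ * u * σ⁻¹ = u := congrArg Subtype.val (hu ⟨σ, mem_zpowers σ⟩)
      exact (mul_inv_eq_iff_eq_mul.1 this).symm)))
    (M.subgroupOf _) (z := ⟨β, subset_closure hβ⟩) fun g => by
      obtain ⟨i, hi⟩ := mem_powers_iff_mem_zpowers.2 g.2
      have e : (((closure B).normalizerMonoidHom.comp (inclusion h2)) g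
          ⟨β, subset_closure hβ⟩ : Δ) = σ ^ i * β * (σ ^ i)⁻¹ := by
        rw [show σ ^ i = g from hi]; rfl
      rcases hM _ (h1 i β hβ) with h | h
      · exact Or.inl (Subtype.ext (e.trans h))
      · exact Or.inr (by rw [mem_subgroupOf, e]; exact h)
  exact h3

theorem k4core {F V G₁ : Subgroup Γ} (hV : IsElementaryAbelian 2 V) (hFodd : Odd (Nat.card F))
    (hFV : F ≤ normalizer (V : Set Γ)) (hsV : s ∈ normalizer (V : Set Γ))
    (hsF : s ∈ normalizer (F : Set Γ)) (hf : ∀ f ∈ F, ∀ v ∈ V, Commute v (f * s) → v = 1)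
    (hGF : G₁ ≤ F) : ¬ Tr V G₁ := by
  classical
  intro htr
  have hM := H46.FMM.merge.{u}
  obtain ⟨A, hA⟩ : ∃ A, A = zpowers s := ⟨_, rfl⟩
  have hAV : A ≤ normalizer (V : Set Γ) := hA ▸ zpowers_le.2 hsV
  have hAF : A ≤ normalizer (F : Set Γ) := hA ▸ zpowers_le.2 hsF
  have hsA : ∀ i : ℕ, s ^ i ∈ A := fun i => hA ▸ pow_mem (mem_zpowers s) i
  have := hV.1
  have hGa : ∀ a ∈ A, cj a G₁ ≤ F := fun a ha => cj_le_of_norm hGF (hAF ha)
  let F₀ : Subgroup Γ := ⨆ a : A, cj (a : Γ) G₁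
  have hF₀ : F₀ ≤ F := iSup_le fun a => hGa a a.2
  have hle : ∀ a ∈ A, cj a G₁ ≤ F₀ := fun a ha => le_iSup (fun a : A => cj (a : Γ) G₁) ⟨a, ha⟩
  have hAF₀ : A ≤ normalizer (F₀ : Set Γ) := fun b hb => mem_normalizer_fintype fun x hx => by
    have : F₀ ≤ cj b⁻¹ F₀ := iSup_le fun a y hy => by
      rw [mem_cj]
      apply hle (b * a) (mul_mem hb a.2)
      rw [mem_cj] at hy ⊢
      convert hy using 1
      group
    simpa using mem_cj.1 (this hx)
  obtain ⟨⟨v, hv⟩, hv1⟩ := ne_bot_iff_exists_ne_one.1 htr.1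
  replace hv1 : v ≠ 1 := fun e => hv1 (Subtype.ext e)
  have hcV : ∀ X : Subgroup Γ, X ≤ F → ⁅V, X⁆ ≤ V := fun X hX =>
    H4.commutator_le_left_of_le_normalizer (hX.trans hFV)
  let R : Γ → Γ → Prop := fun x y => ∃ g ∈ F₀, g * x * g⁻¹ = y
  have Rs : ∀ {x y}, R x y → R y x := fun ⟨g, hg, e⟩ => ⟨g⁻¹, inv_mem hg, by rw [← e]; group⟩
  have Rt : ∀ {x y z}, R x y → R y z → R x z := fun ⟨g, hg, e⟩ ⟨g', hg', e'⟩ =>
    ⟨g' * g, mul_mem hg' hg, by rw [← e', ← e]; group⟩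
  have hva : ∀ a ∈ A, a * v * a⁻¹ ∈ ⁅V, cj a G₁⁆ := fun a ha => by
    rw [comm_cj (hAV ha)]; exact conj_mem_cj hv
  have hR : ∀ a ∈ A, ∀ x ∈ ⁅V, cj a G₁⁆, x ≠ 1 → R (a * v * a⁻¹) x := fun a ha x hx hx1 => by
    obtain ⟨g, hg, e⟩ := (tr_cj (hAV ha) htr).2 _ (hva a ha) x hx (by simpa using hv1) hx1
    exact ⟨g, hle a ha hg, e⟩
  have merge : ∀ a ∈ A, ∀ b ∈ A, ¬ R (a * v * a⁻¹) (b * v * b⁻¹) →
      ⁅V, cj a G₁⁆ ≤ centralizer ((cj b G₁ : Subgroup Γ) : Set Γ) := by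
    intro a ha b hb hn
    refine (hM Γ V _ _ hV (hFodd.of_dvd_nat (card_dvd_of_le (sup_le (hGa a ha) (hGa b hb))))
      ((hGa a ha).trans hFV) ((hGa b hb).trans hFV) (tr_cj (hAV ha) htr) (tr_cj (hAV hb) htr)
      (by rw [comm_cj (hAV ha), comm_cj (hAV hb), card_cj, card_cj])).resolve_right ?_
    rintro ⟨x, hx, hx1, g, hg, hg'⟩
    exact hn (Rt (Rt (hR a ha x hx hx1) ⟨g, sup_le (hle a ha) (hle b hb) hg, rfl⟩)
      (Rs (hR b hb _ hg' (by simpa using hx1))))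
  -- the span of the class of `x` and the group generated by the factors of the class
  let W : Γ → Subgroup Γ := fun x => ⨆ (a : A) (_ : R (a * v * (a : Γ)⁻¹) x), ⁅V, cj (a : Γ) G₁⁆
  let N : Γ → Subgroup Γ := fun x => ⨆ (a : A) (_ : R (a * v * (a : Γ)⁻¹) x), cj (a : Γ) G₁
  have hWV : ∀ x, W x ≤ V := fun x => iSup₂_le fun a _ => hcV _ (hGa a a.2)
  have hNF : ∀ x, N x ≤ F₀ := fun x => iSup₂_le fun a _ => hle a a.2
  have hWC : ∀ x, ∀ b ∈ A, ¬ R (b * v * b⁻¹) x →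
      cj b G₁ ≤ centralizer ((W x : Subgroup Γ) : Set Γ) := fun x b hb hn =>
    le_centralizer_iff.1 (iSup₂_le fun a h1 => merge a a.2 b hb fun h2 => hn (Rt (Rs h2) h1))
  have hWN : ∀ x, F₀ ≤ normalizer ((W x : Subgroup Γ) : Set Γ) := fun x => iSup_le fun b => by
    by_cases hb : R (b * v * (b : Γ)⁻¹) x
    · intro g hg
      refine mem_normalizer_fintype fun w hw => ?_
      have h1 : ⁅w⁻¹, g⁆ ∈ W x := le_iSup₂_of_le
        (f := fun (a : A) (_ : R (a * v * (a : Γ)⁻¹) x) => ⁅V, cj (a : Γ) G₁⁆) b hb le_rfl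
        (commutator_mem_commutator (inv_mem (hWV x hw)) hg)
      have e : g * w * g⁻¹ = w * ⁅w⁻¹, g⁆ := by rw [commutatorElement_def]; group
      rw [e]
      exact mul_mem hw h1
    · exact (hWC x b b.2 hb).trans (centralizer_le_normalizer _)
  have hXW : ∀ x, (∃ a ∈ A, R (a * v * a⁻¹) x) → x ∈ W x := by
    rintro x ⟨a, ha, g, hg, e⟩
    have h1 : a * v * a⁻¹ ∈ W x := le_iSup₂_of_le
      (f := fun (a : A) (_ : R (a * v * (a : Γ)⁻¹) x) => ⁅V, cj (a : Γ) G₁⁆) ⟨a, ha⟩ ⟨g, hg, e⟩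
      le_rfl (hva a ha)
    have := (mem_normalizer_iff.1 (hWN x hg) _).1 h1
    rwa [e] at this
  have hact : ∀ x, ∀ g ∈ F₀, ∃ n ∈ N x, ∀ w ∈ W x, n * w * n⁻¹ = g * w * g⁻¹ := by
    intro x
    let Z : Subgroup Γ :=
      { carrier := {g | ∃ n ∈ N x, ∀ w ∈ W x, n * w * n⁻¹ = g * w * g⁻¹}
        mul_mem' := by
          rintro g g' ⟨n, hn, h1⟩ ⟨n', hn', h2⟩
          refine ⟨n * n', mul_mem hn hn', fun w hw => ?_⟩
          calc n * n' * w * (n * n')⁻¹ = n * (n' * w * n'⁻¹) * n⁻¹ := by group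
            _ = g * (n' * w * n'⁻¹) * g⁻¹ :=
                h1 _ ((mem_normalizer_iff.1 (hWN x (hNF x hn')) w).1 hw)
            _ = _ := by rw [h2 w hw]; group
        one_mem' := ⟨1, one_mem _, fun _ _ => rfl⟩
        inv_mem' := by
          rintro g ⟨n, hn, h1⟩
          refine ⟨n⁻¹, inv_mem hn, fun w hw => ?_⟩
          have := h1 _ ((mem_normalizer_iff.1 (hWN x (hNF x (inv_mem hn))) w).1 hw)
          calc n⁻¹ * w * n⁻¹⁻¹ = g⁻¹ * (g * (n⁻¹ * w * n⁻¹⁻¹) * g⁻¹) * g := by group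
            _ = _ := by rw [← this]; group }
    have : F₀ ≤ Z := iSup_le fun b g hg => by
      by_cases hb : R (b * v * (b : Γ)⁻¹) x
      · exact ⟨g, le_iSup₂_of_le
          (f := fun (a : A) (_ : R (a * v * (a : Γ)⁻¹) x) => cj (a : Γ) G₁) b hb le_rfl hg,
          fun _ _ => rfl⟩
      · refine ⟨1, one_mem _, fun w hw => ?_⟩
        rw [← hWC x b b.2 hb hg w hw]
        group
    exact fun g hg => this hg
  have hXW' : ∀ x, ∀ a ∈ A, R (a * v * a⁻¹) x → a * v * a⁻¹ ∈ W x := fun x a ha h =>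
    le_iSup₂_of_le (f := fun (a : A) (_ : R (a * v * (a : Γ)⁻¹) x) => ⁅V, cj (a : Γ) G₁⁆)
      ⟨a, ha⟩ h le_rfl (hva a ha)
  have hvv : R (((1 : A) : Γ) * v * ((1 : A) : Γ)⁻¹) v := ⟨1, one_mem _, by simp⟩
  have hG₁ : G₁ ≤ N v := by
    have := le_iSup₂_of_le
      (f := fun (a : A) (_ : R (a * v * (a : Γ)⁻¹) v) => cj (a : Γ) G₁) 1 hvv le_rfl
    simpa [cj_one] using this
  have hex : ∃ k, 0 < k ∧ R (s ^ k * v * (s ^ k)⁻¹) v :=
    ⟨orderOf s, orderOf_pos s, 1, one_mem _, by simp⟩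
  obtain ⟨hk, g, hg, e⟩ := Nat.find_spec hex
  obtain ⟨n, hn, h1⟩ := hact v g hg
  have hcent : v ∈ centralizer (N v : Set Γ) := by
    refine norm_mem (hFV (hF₀ (hNF v hn))) hsV (hcV _ hGF hv) hk (fun i i0 ik => ?_)
      ((h1 _ (hXW' v _ (hsA _) ⟨g, hg, e⟩)).trans e) (hf n (hF₀ (hNF v hn)))
    have h2 : ¬ R (s ^ i * v * (s ^ i)⁻¹) v := fun h => Nat.find_min hex ik ⟨i0, h⟩
    have h3 : N v ≤ centralizer ((W (s ^ i * v * (s ^ i)⁻¹) : Subgroup Γ) : Set Γ) :=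
      iSup₂_le fun b hb => hWC _ b b.2 fun h3 => h2 (Rt (Rs h3) hb)
    have h4 := hXW (s ^ i * v * (s ^ i)⁻¹) ⟨_, hsA i, 1, one_mem _, by simp⟩
    refine ⟨fun x hx => (h3 hx _ h4).symm, ?_⟩
    rw [← h3 hn _ h4, mul_inv_cancel_right]
  have hcop : (Nat.card G₁).Coprime (Nat.card V) := by
    have : Fact (Nat.Prime 2) := ⟨Nat.prime_two⟩
    have h2 : IsPGroup 2 V := fun x => ⟨1, Subtype.ext (by simpa using hV.2 x x.2)⟩
    obtain ⟨j, hj⟩ := h2.exists_card_eq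
    rw [hj]
    exact (Nat.coprime_two_right.2 (hFodd.of_dvd_nat (card_dvd_of_le hGF))).pow_right j
  have := H4.centralizer_inf_commutator_eq_bot (hGF.trans hFV) hcop
  exact hv1 (mem_bot.1 (this ▸ ⟨centralizer_le hG₁ hcent, hv⟩))

theorem k4 {V G₀ : Subgroup Γ} (a : SP H s) (hs : Group.IsSolvable H) (hVH : V ≤ H)
    (hV : IsElementaryAbelian 2 V) (hHV : H ≤ normalizer (V : Set Γ))
    (hsV : s ∈ normalizer (V : Set Γ)) (hG₀ : G₀ ≤ H) (hodd₀ : Odd (Nat.card G₀)) : ¬ Tr V G₀ := by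
  intro htr₀
  obtain ⟨F, hF⟩ := H67.exists_hall ({2}ᶜ : Set ℕ) hs
  have hFodd : Odd (Nat.card F) :=
    Nat.not_even_iff_odd.1 fun h => hF.2.1 2 Nat.prime_two h.two_dvd rfl
  obtain ⟨h, hh, hGF⟩ := H67.exists_cj_le_hall hs hF hG₀ fun p hp hd e => by
    rw [show p = 2 from e] at hd
    exact (Nat.not_even_iff_odd.2 hodd₀) (even_iff_two_dvd.2 hd)
  obtain ⟨g, hg, hg'⟩ := H67.hall_conj hs hF (H67.hall_cj_of_mem_normalizer hF a.nrm)
  have hn : g⁻¹ * s ∈ normalizer (F : Set Γ) := H67.cj_eq_cj_iff.1 hg'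
  refine k4core (s := g⁻¹ * s) hV hFodd (hF.1.trans hHV) (mul_mem (inv_mem (hHV hg)) hsV) hn
    (fun f hf v hv hc => ?_) hGF (tr_cj (hHV hh) htr₀)
  exact (a.mul (inv_mem hg)).eq_one (hF.1 hf) (hVH hv) hc (k := 1) (hV.2 v hv)

end Cfsg.Agent.H91.SPL
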