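import Cfsg.Agent.H91.SpA
import Cfsg.Agent.H88.FPAb

/-! The core cases of the module lemma for cosets of odd order elements (port of the kit of
project FPF to a structure without coprime operators); the elementary abelian case. -/

set_option autoImplicit false
set_option linter.unusedSectionVars false
set_option linter.unusedVariables false

namespace Cfsg.Agent.H91.SPL

open Cfsg Cfsg.Agent.H63 Cfsg.Agent.H67 Cfsg.Agent.H69 Subgroup
open Cfsg.Agent.H85.FP (Small)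
open Cfsg.Agent.H88.FP (cj_W card_W_cj not_mem_cj)
open Cfsg.Agent.H88
open scoped IsMulCommutative commutatorElement

universe u

variable {X : Type u} [Group X] [Finite X]

/-- The data of the core case. -/
structure Core (p : ℕ) (s : X) (R P N : Subgroup X) : Prop where
  pp : p.Prime
  p2 : p ≠ 2
  ea : IsElementaryAbelian 2 R
  pP : IsPGroup p P
  pN : IsPGroup 2 N
  sp : SP (R ⊔ P ⊔ N) s
  sR : s ∈ N[R]
  sP : s ∈ N[P]
  sN : s ∈ N[N]
  NR : N ≤ N[R]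
  NP : N ≤ N[P]
  PR : P ≤ N[R]
  faith : P ⊓ C[R] = ⊥

variable {p : ℕ} {s : X} {R P N : Subgroup X}

section Core

variable (h : Core p s R P N)
include h

theorem pR : IsPGroup 2 R := isPGroup_of_elemAb h.ea

theorem cPR : (Nat.card P).Coprime (Nat.card R) := coprime_pp h.pp Nat.prime_two h.p2 h.pP (pR h)

theorem W_le {y : X} (hy : y ∈ P) : ⁅R, zpowers y⁆ ≤ R :=
  commutator_le_of_norm_left (zpowers_le.2 (h.PR hy))

theorem W_ti {y : X} (hy : y ∈ P) : ⁅R, zpowers y⁆ ⊓ C1[y] = ⊥ :=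
  centralizer_zpowers y ▸ coprime_abel_cent_TI (zpowers_le.2 (h.PR hy))
    (cop_le (cPR h) (zpowers_le.2 hy) le_rfl) h.ea.1

theorem card_W {y : X} (hy : y ∈ P) {V : Subgroup X} (hV : V ≤ R) (hn : y ∈ N[V]) :
    Nat.card V = Nat.card ↥⁅V, zpowers y⁆ * Nat.card ↥(V ⊓ C1[y]) :=
  centralizer_zpowers y ▸ (coprime_abelian_cent_dprod (zpowers_le.2 hn)
    (cop_le (cPR h) (zpowers_le.2 hy) hV) (isMulCommutative_of_le h.ea.1 hV)).card

theorem le_W {y : X} (hy : y ∈ P) {V : Subgroup X} (hV : V ≤ R) (hn : y ∈ N[V])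
    (h0 : V ⊓ C1[y] = ⊥) : ⁅V, zpowers y⁆ = V :=
  coprime_commutator_eq_of_cent_eq_bot (zpowers_le.2 hn) (cop_le (cPR h) (zpowers_le.2 hy) hV)
    (Or.inl (isSolvable_of_isCyclic inferInstance)) (by rwa [centralizer_zpowers])

theorem eq_one_of {y : X} (hy : y ∈ P) (h1 : ⁅R, zpowers y⁆ ≤ C1[y]) : y = 1 := by
  have h2 := W_ti h hy
  rw [inf_eq_left.2 h1] at h2
  exact mem_bot.1 (h.faith ▸ ⟨hy, cent_symm (le_cent_of_commutator_eq_bot h2) (mem_zpowers y)⟩)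

theorem sup_W {y : X} (hy : y ∈ P) : ⁅R, zpowers y⁆ ⊔ R ⊓ C1[y] = R :=
  centralizer_zpowers y ▸ (coprime_abelian_cent_dprod (zpowers_le.2 (h.PR hy))
    (cop_le (cPR h) (zpowers_le.2 hy) le_rfl) h.ea.1).sup

theorem card_zp {y : X} (h1 : y ≠ 1) (hy : y ^ p = 1) : Nat.card (zpowers y) = p := by
  have := Fact.mk h.pp
  rw [Nat.card_zpowers, orderOf_eq_prime hy h1]

theorem card_mod {y : X} (hy : y ^ p = 1) {V : Subgroup X} (hV : V ≤ R) (V1 : V ≠ ⊥) (hn : y ∈ N[V])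
    (h0 : V ⊓ C1[y] = ⊥) : Nat.card V ≡ 1 [MOD p] ∧ ∃ k, 2 ≤ k ∧ Nat.card V = 2 ^ k := by
  have := Fact.mk Nat.prime_two
  have y1 : y ≠ 1 := by
    rintro rfl
    exact V1 (h0 ▸ (inf_eq_left.2 fun x _ => mem_centralizer_singleton_iff.2 (by simp)).symm)
  have h1 := semiregular_modEq (zpowers_le.2 hn) (H69.semiregular_of_prime_card
    ((card_zp h y1 hy).symm ▸ h.pp) (by rwa [centralizer_zpowers]))
  rw [card_zp h y1 hy] at h1
  obtain ⟨k, hk⟩ := ((pR h).to_le hV).exists_card_eq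
  refine ⟨h1, k, ?_, hk⟩
  rcases k with _ | _ | k
  · exact absurd (card_eq_one.1 hk) V1
  · rw [hk] at h1
    exact absurd (Nat.le_of_dvd one_pos ((Nat.modEq_iff_dvd' (by norm_num)).1 h1.symm))
      h.pp.one_lt.not_ge
  · omega

theorem eq_three (h1 : 4 ≡ 1 [MOD p]) : p = 3 :=
  (Nat.prime_dvd_prime_iff_eq h.pp Nat.prime_three).1 ((Nat.modEq_iff_dvd' (by norm_num)).1 h1.symm)

theorem sq_cent {b : X} (hb : b ∈ N) (hs : Small R b) : b * b ∈ C[P] := fun g hg => by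
  have h1 : ⁅g, b * b⁆ ∈ P ⊓ C[R] := ⟨commutator_le_of_norm_left (zpowers_le.2 (h.NP (mul_mem hb hb)))
    (commutator_mem_commutator hg (mem_zpowers _)), commutator_le_of_norm_right
      (le_normalizer_centralizer h.PR) (commutator_mem_commutator hg hs.sq)⟩
  exact commutatorElement_eq_one_iff_mul_comm.1 (mem_bot.1 (h.faith ▸ h1))

theorem inv_comm {b g : X} (hb : b ∈ N) (hs : Small R b) (hg : g ∈ P) :
    b * ⁅g, b⁆ * b⁻¹ = ⁅g, b⁆⁻¹ := by
  have := sq_cent h hb hs g⁻¹ (inv_mem hg)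
  calc b * ⁅g, b⁆ * b⁻¹ = b * g * b⁻¹ * (b * b * g⁻¹) * (b * b)⁻¹ := by
        simp only [commutatorElement_def]; group
    _ = _ := by rw [← this]; simp only [commutatorElement_def]; group

theorem cent_of_sq {y : X} (hy : y ∈ P) : C1[y * y] ≤ C1[y] := fun x hx =>
  mem_centralizer_singleton_comm.1 (mem_of_pow_mem_of_coprime
    (Tu.ord_cop h.pp h.pP hy (Tu.cpp h.pp Nat.prime_two h.p2))
    (pow_two y ▸ mem_centralizer_singleton_comm.1 hx))

theorem cent_inv {b y : X} (hy : y ∈ P) (hi : b * y * b⁻¹ = y⁻¹) :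
    C1[b] ⊓ cj y C1[b] ≤ C1[y] := by
  refine le_trans (fun x hx => ?_) (cent_of_sq h hy)
  rw [cj_centralizer_singleton] at hx
  have e : y * y = y * b * y⁻¹ * b⁻¹ := by rw [mul_assoc, mul_assoc, ← mul_assoc b, ← inv_inv
    (b * y⁻¹ * b⁻¹), show (b * y⁻¹ * b⁻¹)⁻¹ = b * y * b⁻¹ by group, hi, inv_inv]
  rw [mem_centralizer_singleton_comm, e]
  exact mul_mem (mem_centralizer_singleton_comm.1 hx.2)
    (inv_mem (mem_centralizer_singleton_comm.1 hx.1))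

theorem le16 {b y : X} (hs : Small R b) (hy : y ∈ P) (hi : b * y * b⁻¹ = y⁻¹) :
    Nat.card ↥⁅R, zpowers y⁆ ≤ 16 ∧ (Nat.card ↥⁅R, zpowers y⁆ = 16 → R ⊓ C1[y] ≤ C1[b]) := by
  have h1 : cj y (R ⊓ C1[b]) ≤ R := cj_le_of_mem_normalizer (h.PR hy) inf_le_left
  have h2 := card_sup_mul_card_inf (H := R ⊓ C1[b]) (K := cj y (R ⊓ C1[b]))
    (le_normalizer_of_le_centralizer (le_cent_of_comm h.ea.1 inf_le_left h1))
  have h3 := card_le_of_le (sup_le (inf_le_left (b := C1[b])) h1)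
  have h4 : R ⊓ C1[b] ⊓ cj y (R ⊓ C1[b]) ≤ R ⊓ C1[y] := le_inf (inf_le_left.trans inf_le_left)
    ((inf_le_inf inf_le_right (cj_mono inf_le_right)).trans (cent_inv h hy hi))
  have h5 := card_le_of_le h4
  have h6 := card_W h hy le_rfl (h.PR hy)
  have h7 := hs.card
  rw [card_cj] at h2
  have h8 : Nat.card R ≤ 16 * Nat.card ↥(R ⊓ C1[b] ⊓ cj y (R ⊓ C1[b])) :=
    Nat.le_of_mul_le_mul_left (by nlinarith [Nat.mul_le_mul h7 h7, Nat.mul_le_mul_right (Nat.card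
      ↥(R ⊓ C1[b] ⊓ cj y (R ⊓ C1[b]))) h3]) (Nat.card_pos (α := R))
  refine ⟨Nat.le_of_mul_le_mul_right (h6 ▸ h8.trans (Nat.mul_le_mul_left _ h5)) Nat.card_pos,
    fun e => (eq_of_le_of_card_ge h4 ?_).ge.trans (inf_le_left.trans inf_le_right)⟩
  rw [e] at h6
  omega

theorem ne8 {b y : X} (hs : Small R b) (hy : y ∈ P) (hi : b * y * b⁻¹ = y⁻¹) :
    Nat.card ↥⁅R, zpowers y⁆ ≠ 8 := by
  intro e
  set W := ⁅R, zpowers y⁆
  have WR := W_le h hy
  have hW := isMulCommutative_of_le h.ea.1 WR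
  have bW : b ∈ N[W] := le_normalizer_commutator (zpowers_le.2 hs.nrm) (zpowers_le.2
    (cj_eq_self_iff.1 (by rw [cj_zpowers, hi, zpowers_inv]))) (mem_zpowers b)
  have h1 : cj y (W ⊓ C1[b]) ≤ W :=
    cj_le_of_mem_normalizer (le_norm_commutator_right _ _ (mem_zpowers y)) inf_le_left
  have h2 := card_sup_of_inf_eq_bot (H := W ⊓ C1[b]) (K := cj y (W ⊓ C1[b])) (Or.inl
    (le_normalizer_of_le_centralizer (le_cent_of_comm hW inf_le_left h1))) (le_bot_iff.1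
      (W_ti h hy ▸ le_inf (inf_le_left.trans inf_le_left)
        ((inf_le_inf inf_le_right (cj_mono inf_le_right)).trans (cent_inv h hy hi))))
  have h3 := card_le_of_le (sup_le (inf_le_left (b := C1[b])) h1)
  rw [h2, card_cj, e] at h3
  let f : W →* W := conjOn W b * MonoidHom.id W
  have hf : ∀ w : W, (f w : X) = b * w * b⁻¹ * w := fun w => by simp [f, conjOn_apply bW]
  have h4 : f.ker ≤ C1[b].subgroupOf W := fun w hw => by
    have h5 := (hf w).symm.trans (congrArg Subtype.val hw)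
    have h6 : (w : X) * w = 1 := by rw [← pow_two]; exact h.ea.2 w (WR w.2)
    exact mem_centralizer_singleton_iff.2 (mul_inv_eq_iff_eq_mul.1
      (mul_right_cancel (h5.trans h6.symm))).symm
  have h5 : f.range ≤ C1[b].subgroupOf W := by
    rintro _ ⟨w, rfl⟩
    rw [mem_subgroupOf, hf, mem_centralizer_singleton_iff, eq_comm, ← mul_inv_eq_iff_eq_mul]
    nth_rw 2 [comm_of_isMulCommutative hW (conj_mem_of_mem_normalizer bW w.2) w.2]
    calc b * (b * w * b⁻¹ * w) * b⁻¹ = b * b * w * (b * b)⁻¹ * (b * w * b⁻¹) := by group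
      _ = _ := by rw [conj_eq_of_mem_centralizer hs.sq (WR w.2)]
  have h6 := f.ker.card_mul_index
  have h7 : Nat.card (C1[b].subgroupOf W) = Nat.card ↥(W ⊓ C1[b]) := by
    rw [← inf_subgroupOf_left, card_subgroupOf inf_le_left]
  rw [index_ker, e] at h6
  have := Nat.mul_le_mul (card_le_of_le h4) (card_le_of_le h5)
  rw [h7, h6] at this
  have h8 : Nat.card ↥(W ⊓ C1[b]) = 2 ∨ 3 ≤ Nat.card ↥(W ⊓ C1[b]) ∨ Nat.card ↥(W ⊓ C1[b]) ≤ 1 := by
    omega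
  rcases h8 with h8 | h8 | h8 <;> nlinarith

theorem two_gen {g z : X} (hg : g ∈ P) (hz : z ∈ P) (g1 : g ^ p = 1) (z1 : z ^ p = 1) (z0 : z ≠ 1)
    (hc : Commute g z) (hn : g ∉ zpowers z) {V : Subgroup X} (hV : V ≤ R) (V1 : V ≠ ⊥)
    (gV : g ∈ N[V]) (zV : z ∈ N[V]) :
    ∃ g' ∈ zpowers g, ∃ z' ∈ zpowers z, g' * z' ≠ 1 ∧ V ⊓ C1[g' * z'] ≠ ⊥ := by
  have h1 : zpowers g ≤ C[zpowers z] :=
    zpowers_le.2 (centralizer_zpowers z ▸ mem_centralizer_singleton_iff.2 hc)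
  have h2 := le_normalizer_of_le_centralizer h1
  obtain ⟨e, he, e1, h3⟩ := exists_cent1_ne_bot (A := zpowers g ⊔ zpowers z) (K := V)
    (isMulCommutative_sup inferInstance inferInstance h1) (fun hcy => hn (by
      have h3 : Nat.card ↥(zpowers g ⊔ zpowers z) ∣ p := by
        rw [← IsCyclic.exponent_eq_card]
        refine Monoid.exponent_dvd_of_forall_pow_eq_one fun x => Subtype.ext ?_
        obtain ⟨_, ⟨i, rfl⟩, _, ⟨j, rfl⟩, e⟩ := (mem_sup_of_le_normalizer h2).1 x.2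
        rw [SubgroupClass.coe_pow, ← e, (hc.zpow_zpow i j).mul_pow, ← zpow_natCast, ← zpow_natCast,
          ← zpow_mul, ← zpow_mul, mul_comm i, mul_comm j, zpow_mul, zpow_mul, zpow_natCast,
          zpow_natCast, g1, z1]
        simp
      exact (eq_of_le_of_card_ge le_sup_right (by
        rw [card_zp h z0 z1]; exact Nat.le_of_dvd h.pp.pos h3)).ge (mem_sup_left (mem_zpowers g))))
    (sup_le (zpowers_le.2 gV) (zpowers_le.2 zV))
    (cop_le (cPR h) (sup_le (zpowers_le.2 hg) (zpowers_le.2 hz)) hV) V1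
  obtain ⟨a, ha, c, hc', rfl⟩ := (mem_sup_of_le_normalizer h2).1 he
  exact ⟨a, ha, c, hc', e1, h3⟩

theorem zp_symm {x y : X} (hy : y ^ p = 1) (x1 : x ≠ 1) (hx : x ∈ zpowers y) : y ∈ zpowers x := by
  have y1 : y ≠ 1 := by
    rintro rfl
    exact x1 (by simpa using hx)
  exact (H63.zpowers_eq_of_prime_card' ((card_zp h y1 hy).symm ▸ h.pp) hx x1).ge (mem_zpowers y)

theorem one_of_inv {y : X} (hy : y ∈ P) (h1 : y = y⁻¹) : y = 1 :=
  mem_bot.1 (mem_of_pow_mem_of_coprime (H := ⊥)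
    (Tu.ord_cop h.pp h.pP hy (Tu.cpp h.pp Nat.prime_two h.p2))
    (by rw [pow_two, mem_bot]; nth_rw 1 [h1]; exact inv_mul_cancel y))

theorem W_mod {y : X} (hy : y ∈ P) (yp : y ^ p = 1) (y1 : y ≠ 1) :
    Nat.card ↥⁅R, zpowers y⁆ ≡ 1 [MOD p] ∧ ∃ k, 2 ≤ k ∧ Nat.card ↥⁅R, zpowers y⁆ = 2 ^ k :=
  card_mod h yp (W_le h hy) (fun e => y1 (eq_one_of h hy (e ▸ bot_le)))
    (le_norm_commutator_right _ _ (mem_zpowers y)) (W_ti h hy)

theorem four_le {y : X} (hy : y ^ p = 1) {V : Subgroup X} (hV : V ≤ R) (V1 : V ≠ ⊥) (hn : y ∈ N[V])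
    (h0 : V ⊓ C1[y] = ⊥) : 4 ≤ Nat.card V := by
  obtain ⟨-, k, hk, e⟩ := card_mod h hy hV V1 hn h0
  exact e ▸ Nat.pow_le_pow_right two_pos hk

theorem stab_triv {t g v : X} (ht : t ∈ N) (hv : v ∈ P) (e : t * g * t⁻¹ = v * g)
    (hc : t * v * t⁻¹ = v) : v = 1 := by
  have h1 : ∀ k : ℕ, t ^ k * g * (t ^ k)⁻¹ = v ^ k * g := fun k => by
    induction k with
    | zero => simp
    | succ k ih =>
      calc t ^ (k + 1) * g * (t ^ (k + 1))⁻¹ = t * (t ^ k * g * (t ^ k)⁻¹) * t⁻¹ := by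
            rw [pow_succ']; group
        _ = (t * v * t⁻¹) ^ k * (t * g * t⁻¹) := by rw [ih, conj_pow]; group
        _ = v ^ (k + 1) * g := by rw [hc, e, pow_succ, mul_assoc]
  have h2 := h1 (orderOf t)
  rw [pow_orderOf_eq_one, one_mul, inv_one, mul_one, eq_comm, mul_eq_right] at h2
  exact mem_bot.1 (mem_of_pow_mem_of_coprime (H := ⊥) (Tu.ord_cop h.pp h.pP hv
    (Tu.ord_cop Nat.prime_two h.pN ht (Tu.cpp Nat.prime_two h.pp h.p2.symm)).symm) h2)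

/-- Independent small elements do not exist. -/
theorem indep_false {B : Set X} (hB : ∀ b ∈ B, b ∈ N ∧ Small R b)
    (hs : ∀ b ∈ B, s * b * s⁻¹ ∈ B)
    (hd : ∀ c ∈ B, ∀ c' ∈ B, c * c' ∈ C[P] ∨ ∀ g ∈ P, c * ⁅g, c'⁆ = ⁅g, c'⁆ * c)
    {b : X} (hb : b ∈ B) : b ∈ C[P] := by
  have bn : ∀ c ∈ B, c ∈ N[C[P]] := fun c hc => le_normalizer_centralizer h.NP (hB c hc).1
  have sn : s ∈ N[C[P]] := normalizer_le_normalizer_centralizer P h.sP
  have sq : ∀ c ∈ B, c * c ∈ C[P] := fun c hc => sq_cent h (hB c hc).1 (hB c hc).2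
  have e1 : ∀ c ∈ B, ∀ c' ∈ B, c * c' ∈ C[P] → coset C[P] c = coset C[P] c' := fun c hc c' hc' e => by
    rw [coset_eq_iff (bn c hc) (bn c' hc')]
    have := mul_mem (inv_mem (sq c hc)) e
    rwa [show (c * c)⁻¹ * (c * c') = c⁻¹ * c' by group] at this
  let M : Subgroup X := N ⊓ C[closure {x | ∃ g ∈ P, x = ⁅g, b⁆}]
  have a := (h.sp.sub' le_sup_right h.sN).quo sn
  have h1 := ind_mem (N := N /ᵍ C[P]) (M := M /ᵍ C[P]) (σ := coset C[P] s) (β := coset C[P] b)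
    (B := coset C[P] '' B)
    (by rintro _ ⟨c, hc, rfl⟩; exact coset_mem_quo (bn c hc) (hB c hc).1)
    (by
      rintro _ ⟨c, hc, rfl⟩
      exact ⟨_, hs c hc, by
        rw [coset_mul (mul_mem sn (bn c hc)) (inv_mem sn), coset_mul sn (bn c hc), coset_inv sn]⟩)
    ⟨b, hb, rfl⟩
    (by
      rintro _ ⟨c, hc, rfl⟩ _ ⟨c', hc', rfl⟩
      rcases hd c hc c' hc' with e | e
      · rw [e1 c hc c' hc' e]
      rcases hd c' hc' c hc with e' | e'
      · rw [e1 c' hc' c hc e']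
      rw [← coset_mul (bn c hc) (bn c' hc'), ← coset_mul (bn c' hc') (bn c hc),
        coset_eq_iff (mul_mem (bn c hc) (bn c' hc')) (mul_mem (bn c' hc') (bn c hc))]
      intro g hg
      have k1 := e g hg
      have k2 := e' g hg
      have k3 := e g⁻¹ (inv_mem hg)
      have k4 : c * c' * g * (c * c')⁻¹ = ⁅g, c'⁆⁻¹ * ⁅g, c⁆⁻¹ * g := by
        calc _ = (c * ⁅g, c'⁆ * c⁻¹)⁻¹ * ⁅g, c⁆⁻¹ * g := by
              simp only [commutatorElement_def]; group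
          _ = _ := by rw [k1, mul_inv_cancel_right]
      have k5 : c' * c * g * (c' * c)⁻¹ = ⁅g, c⁆⁻¹ * ⁅g, c'⁆⁻¹ * g := by
        calc _ = (c' * ⁅g, c⁆ * c'⁻¹)⁻¹ * ⁅g, c'⁆⁻¹ * g := by
              simp only [commutatorElement_def]; group
          _ = _ := by rw [k2, mul_inv_cancel_right]
      have k6 : Commute ⁅g, c⁆ ⁅g, c'⁆ := by
        have k7 : Commute (g * c * g⁻¹) ⁅g, c'⁆ := by
          have : Commute c ⁅g⁻¹, c'⁆⁻¹ := Commute.inv_right k3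
          have := this.map (MulAut.conj g)
          simp only [MulAut.conj_apply] at this
          rwa [show g * ⁅g⁻¹, c'⁆⁻¹ * g⁻¹ = ⁅g, c'⁆ by
            simp only [commutatorElement_def]; group] at this
        exact k7.mul_left (Commute.inv_left k1)
      have k8 : c * c' * g * (c * c')⁻¹ = c' * c * g * (c' * c)⁻¹ := by
        rw [k4, k5, k6.inv_inv.eq]
      calc g * ((c * c')⁻¹ * (c' * c))
          = (c * c')⁻¹ * (c * c' * g * (c * c')⁻¹) * (c' * c) := by group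
        _ = _ := by rw [k8]; group)
    (by
      rintro _ ⟨c, hc, rfl⟩
      refine (hd c hc b hb).imp (e1 c hc b hb) fun e => coset_mem_quo (bn c hc)
        ⟨(hB c hc).1, mem_centralizer_iff_le.2 ((closure_le _).2 ?_)⟩
      rintro _ ⟨g, hg, rfl⟩
      exact mem_centralizer_singleton_iff.2 (e g hg).symm)
    (fun t ht hc => by
      obtain ⟨k, hk⟩ := quo_isPGroup C[P] h.pN ⟨t, ht⟩
      exact a.eq_one (one_mem _) ht (by rwa [one_mul]) (congrArg Subtype.val hk))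
  obtain ⟨m, hm, mn, e⟩ := mem_quo.1 h1
  have h2 := (coset_eq_iff mn (bn b hb)).1 e
  intro g hg
  have hx := commutator_le_of_norm_left (zpowers_le.2 (h.NP (hB b hb).1))
    (commutator_mem_commutator hg (mem_zpowers b))
  refine commutatorElement_eq_one_iff_mul_comm.1 (one_of_inv h hx ?_)
  rw [← inv_comm h (hB b hb).1 (hB b hb).2 hg, eq_comm, mul_inv_eq_iff_eq_mul]
  have h3 := hm.2 _ (subset_closure ⟨g, hg, rfl⟩)
  have h4 := h2 _ hx
  calc b * ⁅g, b⁆ = m * (m⁻¹ * b * ⁅g, b⁆) := by group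
    _ = _ := by rw [← h4, ← mul_assoc, ← h3]; group

variable (hP : IsElementaryAbelian p P)
include hP

theorem norm_W {y : X} (hy : y ∈ P) : P ≤ N[⁅R, zpowers y⁆] :=
  le_normalizer_commutator h.PR (le_normalizer_of_le_centralizer
    (le_cent_of_comm hP.1 le_rfl (zpowers_le.2 hy)))

theorem norm_C {x y : X} (hx : x ∈ P) (hy : y ∈ P) : P ≤ N[⁅R, zpowers x⁆ ⊓ C1[y]] :=
  le_normalizer_inf (norm_W h hP hx) (centralizer_zpowers y ▸ le_normalizer_of_le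
    (le_cent_of_comm hP.1 le_rfl (zpowers_le.2 hy)))

theorem eq_min {y y' : X} (hy : y ∈ P) (y1 : y ≠ 1)
    (hm : ∀ x ∈ P, x ≠ 1 → Nat.card ↥⁅R, zpowers y⁆ ≤ Nat.card ↥⁅R, zpowers x⁆) (hy' : y' ∈ P)
    (hle : ⁅R, zpowers y'⁆ ≤ ⁅R, zpowers y⁆) : y' ∈ zpowers y := by
  by_contra hn
  obtain ⟨a, ha, c, hc, e1, h1⟩ := two_gen h hy' hy (hP.2 _ hy') (hP.2 _ hy) y1
    (comm_of_isMulCommutative hP.1 hy' hy) hn (W_le h hy)
    (fun e => y1 (eq_one_of h hy (e ▸ bot_le))) (norm_W h hP hy hy') (norm_W h hP hy hy)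
  have h2 : a * c ∈ P := mul_mem (zpowers_le.2 hy' ha) (zpowers_le.2 hy hc)
  have h3 : ⁅R, zpowers (a * c)⁆ ≤ ⁅R, zpowers y⁆ := (commutator_mono le_rfl (zpowers_le.2
    (mul_mem (mem_sup_left ha) (mem_sup_right hc)))).trans (commutator_sup_right_le
      (zpowers_le.2 (norm_W h hP hy hy')) (zpowers_le.2 (norm_W h hP hy hy)) hle le_rfl)
  exact h1 (eq_of_le_of_card_ge h3 (hm _ h2 e1) ▸ W_ti h h2)

theorem case4 {y : X} (hy : y ∈ P) (y1 : y ≠ 1) (h4 : Nat.card ↥⁅R, zpowers y⁆ = 4) : False := by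
  classical
  have := Fact.mk h.pp
  have p3 : p = 3 := eq_three h (h4 ▸ (W_mod h hy (hP.2 _ hy) y1).1)
  obtain ⟨k, hk⟩ := h.pP.exists_card_eq
  refine k4core (s := s) h.ea (hk ▸ (h.pp.odd_of_ne_two h.p2).pow) h.PR h.sR h.sP
    (fun f hf v hv hc => h.sp.eq_one (mem_sup_left (mem_sup_right hf))
      (mem_sup_left (mem_sup_left hv)) hc (k := 1) (h.ea.2 v hv)) (zpowers_le.2 hy)
    ⟨fun e => by simp [e] at h4, fun v hv w hw v1 w1 => ?_⟩
  have yW := le_norm_commutator_right R (zpowers y) (mem_zpowers y)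
  have h1 : ∀ x ∈ ⁅R, zpowers y⁆, y * x * y⁻¹ = x → x = 1 := fun x hx e =>
    mem_bot.1 (W_ti h hy ▸ ⟨hx, mem_centralizer_singleton_iff.2 (mul_inv_eq_iff_eq_mul.1 e).symm⟩)
  have h3 : y * (y * (y * v * y⁻¹) * y⁻¹) * y⁻¹ = v := by
    have : y ^ 3 = 1 := p3 ▸ hP.2 _ hy
    calc _ = y ^ 3 * v * (y ^ 3)⁻¹ := by rw [pow_three]; group
      _ = v := by rw [this]; group
  have m1 := conj_mem_of_mem_normalizer yW hv
  have m2 := conj_mem_of_mem_normalizer yW m1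
  have n1 : y * v * y⁻¹ ≠ 1 := by simpa using v1
  have n2 : y * (y * v * y⁻¹) * y⁻¹ ≠ 1 := by simpa using v1
  have d1 : v ≠ y * v * y⁻¹ := fun e => v1 (h1 v hv e.symm)
  have d2 : y * v * y⁻¹ ≠ y * (y * v * y⁻¹) * y⁻¹ := fun e => n1 (h1 _ m1 e.symm)
  have d3 : v ≠ y * (y * v * y⁻¹) * y⁻¹ := fun e => n2 (h1 _ m2 (h3.trans e))
  have h5 : ({1, v, y * v * y⁻¹, y * (y * v * y⁻¹) * y⁻¹} : Set X) = ⁅R, zpowers y⁆ := by
    refine Set.eq_of_subset_of_ncard_le (by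
      rintro x (rfl | rfl | rfl | rfl)
      exacts [one_mem _, hv, m1, m2]) ?_
    rw [Set.ncard_insert_of_notMem (by simp only [Set.mem_insert_iff, Set.mem_singleton_iff]; push Not; exact ⟨v1.symm, n1.symm, n2.symm⟩),
      Set.ncard_insert_of_notMem (by simp only [Set.mem_insert_iff, Set.mem_singleton_iff]; push Not; exact ⟨d1, d3⟩),
      Set.ncard_pair d2]
    exact h4.le
  have h6 : w ∈ ({1, v, y * v * y⁻¹, y * (y * v * y⁻¹) * y⁻¹} : Set X) := h5 ▸ hw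
  rcases h6 with rfl | rfl | rfl | rfl
  · exact absurd rfl w1
  · exact ⟨1, one_mem _, by simp⟩
  · exact ⟨y, mem_zpowers y, rfl⟩
  · exact ⟨y * y, mul_mem (mem_zpowers y) (mem_zpowers y), by group⟩

variable (hm : ∀ x ∈ P, x ≠ 1 → 16 ≤ Nat.card ↥⁅R, zpowers x⁆)
include hm

theorem refl {b y : X} (hb : b ∈ N) (hs : Small R b) (hy : y ∈ P) (y1 : y ≠ 1)
    (hi : b * y * b⁻¹ = y⁻¹) : Nat.card ↥⁅R, zpowers y⁆ = 16 ∧ ∀ g ∈ P, ⁅g, b⁆ ∈ zpowers y := by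
  obtain ⟨h1, h2⟩ := le16 h hs hy hi
  have h3 := le_antisymm h1 (hm y hy y1)
  refine ⟨h3, fun g hg => eq_min h hP hy y1 (h3 ▸ hm) (commutator_le_of_norm_left
    (zpowers_le.2 (h.NP hb)) (commutator_mem_commutator hg (mem_zpowers b))) ?_⟩
  have bW : zpowers b ≤ N[⁅R, zpowers y⁆] := le_normalizer_commutator (zpowers_le.2 hs.nrm)
    (zpowers_le.2 (cj_eq_self_iff.1 (by rw [cj_zpowers, hi, zpowers_inv])))
  have h4 : zpowers b ≤ stabMod R ⁅R, zpowers y⁆ := le_stabMod_of_le (W_le h hy) (by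
    nth_rw 1 [← sup_W h hy]
    exact commutator_sup_left_le le_normalizer (inf_le_left.trans (le_norm_commutator_left _ _))
      (commutator_le_of_norm_left bW)
      ((commutator_eq_bot_of_cent (centralizer_zpowers b ▸ h2 h3)).le.trans bot_le))
  exact commutator_le_of_le_stabMod (zpowers_le.2 (commutator_le_of_norm_right
    (le_norm_stabMod h.PR (norm_W h hP hy)) (commutator_mem_commutator hg (h4 (mem_zpowers b)))))

theorem tri {y y' v : X} (hy : y ∈ P) (hy' : y' ∈ P) (y1 : y ≠ 1) (hn : y' ∉ zpowers y)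
    (c1 : Nat.card ↥⁅R, zpowers y⁆ = 16) (c2 : Nat.card ↥⁅R, zpowers y'⁆ = 16)
    (hv : v ∈ zpowers y) (v1 : v ≠ 1) (c3 : Nat.card ↥⁅R, zpowers (y' * v)⁆ = 16) :
    p = 3 ∧ ⁅R, zpowers y⁆ ⊓ C1[y'] ⊔ ⁅R, zpowers y'⁆ ⊓ C1[y] = ⁅R, zpowers (y' * v)⁆ := by
  have y1' : y' ≠ 1 := fun e => hn (e ▸ one_mem _)
  have key : ∀ x ∈ P, ∀ x' ∈ P, x' ≠ 1 → x ∉ zpowers x' → Nat.card ↥⁅R, zpowers x'⁆ = 16 →
      Nat.card ↥(⁅R, zpowers x⁆ ⊓ C1[x']) ≡ 1 [MOD p] ∧ 4 ≤ Nat.card ↥(⁅R, zpowers x⁆ ⊓ C1[x']) := by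
    intro x hx x' hx' x1 hn c
    have h1 : ⁅R, zpowers x⁆ ⊓ C1[x'] ≠ ⊥ := fun e => hn (eq_min h hP hx' x1 (c ▸ hm) hx
      ((le_W h hx' (W_le h hx) (norm_W h hP hx hx') e).ge.trans (commutator_mono (W_le h hx) le_rfl)))
    have h2 := le_bot_iff.1 (W_ti h hx ▸ inf_le_inf_right C1[x] (inf_le_left (b := C1[x'])))
    exact ⟨(card_mod h (hP.2 _ hx) (inf_le_left.trans (W_le h hx)) h1 (norm_C h hP hx hx' hx) h2).1,
      four_le h (hP.2 _ hx) (inf_le_left.trans (W_le h hx)) h1 (norm_C h hP hx hx' hx) h2⟩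
  obtain ⟨a1, a2⟩ := key y hy y' hy' y1' (fun e => hn (zp_symm h (hP.2 _ hy') y1 e)) c2
  obtain ⟨-, a3⟩ := key y' hy' y hy y1 hn c1
  have vP := zpowers_le.2 hy hv
  have uP := mul_mem hy' vP
  have h1 : ∀ x ∈ P, ∀ x' ∈ P, ⁅R, zpowers x⁆ ⊓ C1[x'] ⊓ C1[y' * v] ≤ C1[x] →
      ⁅R, zpowers x⁆ ⊓ C1[x'] ≤ ⁅R, zpowers (y' * v)⁆ := fun x hx x' hx' e =>
    (le_W h uP (inf_le_left.trans (W_le h hx)) (norm_C h hP hx hx' uP) (le_bot_iff.1
      (W_ti h hx ▸ le_inf (inf_le_left.trans inf_le_left) e))).ge.trans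
      (commutator_mono (inf_le_left.trans (W_le h hx)) le_rfl)
  have h2 := sup_le (h1 y hy y' hy' fun w hw => mem_centralizer_singleton_comm.1
    (zpowers_le.2 ((mul_mem_cancel_left (mem_centralizer_singleton_comm.1 hw.1.2)).1
      (mem_centralizer_singleton_comm.1 hw.2)) (zp_symm h (hP.2 _ hy) v1 hv)))
    (h1 y' hy' y hy fun w hw => mem_centralizer_singleton_comm.1 ((mul_mem_cancel_right
      (zpowers_le.2 (mem_centralizer_singleton_comm.1 hw.1.2) hv)).1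
      (mem_centralizer_singleton_comm.1 hw.2)))
  have h3 := card_sup_of_inf_eq_bot (H := ⁅R, zpowers y⁆ ⊓ C1[y']) (K := ⁅R, zpowers y'⁆ ⊓ C1[y])
    (Or.inl (le_normalizer_of_le_centralizer (le_cent_of_comm h.ea.1
      (inf_le_left.trans (W_le h hy)) (inf_le_left.trans (W_le h hy')))))
    (le_bot_iff.1 (W_ti h hy ▸ inf_le_inf inf_le_left inf_le_right))
  have h4 := card_le_of_le h2
  rw [h3, c3] at h4
  refine ⟨eq_three h (by rwa [show Nat.card ↥(⁅R, zpowers y⁆ ⊓ C1[y']) = 4 by nlinarith] at a1),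
    eq_of_le_of_card_ge h2 (by rw [h3, c3]; exact Nat.mul_le_mul a2 a3)⟩

theorem refl_comm {b b' y y' : X} (hb : b ∈ N) (hs : Small R b) (hb' : b' ∈ N) (hs' : Small R b')
    (hy : y ∈ P) (hy' : y' ∈ P) (y1 : y ≠ 1) (hi : b * y * b⁻¹ = y⁻¹) (hi' : b' * y' * b'⁻¹ = y'⁻¹)
    (hn : y' ∉ zpowers y) : b * y' * b⁻¹ = y' := by
  by_contra h1
  have y1' : y' ≠ 1 := fun e => hn (e ▸ one_mem _)
  have h2 := (refl h hP hm hb hs hy y1 hi).2 _ (inv_mem hy')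
  have h3 := inv_comm h hb hs (inv_mem hy')
  set x := ⁅y'⁻¹, b⁆ with hx
  have h4 : b * y' * b⁻¹ = y' * x := by rw [hx, commutatorElement_def]; group
  have x1 : x ≠ 1 := fun e => h1 (by rw [h4, e, mul_one])
  have xP := zpowers_le.2 hy h2
  have hn' : y' ∉ zpowers x := fun e => hn (zpowers_le.2 h2 e)
  have c1 := (refl h hP hm hb hs xP x1 h3).1
  obtain ⟨c2, h5⟩ := refl h hP hm hb' hs' hy' y1' hi'
  have c3 : Nat.card ↥⁅R, zpowers (y' * x)⁆ = 16 := by rw [← h4, card_W_cj hs.nrm, c2]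
  obtain ⟨p3, t1⟩ := tri h hP hm xP hy' x1 hn' c1 c2 (mem_zpowers x) x1 c3
  have hc := comm_of_isMulCommutative hP.1 xP hy'
  have t2 : Nat.card ↥⁅R, zpowers (x * y'⁻¹)⁆ ≠ 16 := fun c4 => by
    rw [← zpowers_inv, mul_inv_rev, inv_inv] at c4
    have t3 := (tri h hP hm xP hy' x1 hn' c1 c2 (inv_mem (mem_zpowers x)) (inv_ne_one.2 x1) c4).2
    have uP := mul_mem hy' xP
    have u1 : y' * x ≠ 1 := fun e => hn' (eq_inv_of_mul_eq_one_left e ▸ inv_mem (mem_zpowers x))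
    have t4 := eq_min h hP uP u1 (c3 ▸ hm) (mul_mem hy' (inv_mem xP)) (t3.symm.trans t1).le
    have t5 : x ∈ zpowers (y' * x) := mem_of_pow_mem_of_coprime
      (Tu.ord_cop h.pp h.pP xP (Tu.cpp h.pp Nat.prime_two h.p2)) (by
        have := mul_mem (inv_mem t4) (mem_zpowers (y' * x))
        rwa [show (y' * x⁻¹)⁻¹ * (y' * x) = x ^ 2 by rw [pow_two]; group] at this)
    exact hn' ((mul_mem_cancel_right (mem_zpowers x)).1 (zp_symm h (hP.2 _ uP) x1 t5))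
  obtain ⟨k, hk, e⟩ : ∃ k < 3, y' ^ k = ⁅x⁻¹, b'⁆ := by
    classical
    obtain ⟨k, hk, e⟩ := Finset.mem_image.1 (mem_zpowers_iff_mem_range_orderOf.1 (h5 _ (inv_mem xP)))
    rw [← Nat.card_zpowers, card_zp h y1' (hP.2 _ hy'), p3, Finset.mem_range] at hk
    exact ⟨k, hk, e⟩
  have h6 : b' * x * b'⁻¹ = x * y' ^ k := by rw [e, commutatorElement_def]; group
  interval_cases k
  · refine t2 ?_
    rw [← c3, ← card_W_cj hs'.nrm (y' * x), ← conj_mul, hi', h6, pow_zero, mul_one,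
      (Commute.inv_right hc).eq]
  · have g1 : b * b' * x * (b * b')⁻¹ = y' := by
      rw [show b * b' * x * (b * b')⁻¹ = b * (b' * x * b'⁻¹) * b⁻¹ by group, h6, pow_one, ← conj_mul,
        h3, h4, ← hc, inv_mul_cancel_left]
    have g2 : b * b' * y' * (b * b')⁻¹ = (y' * x)⁻¹ := by
      rw [show b * b' * y' * (b * b')⁻¹ = b * (b' * y' * b'⁻¹) * b⁻¹ by group, hi', ← h4]; group
    set g := b * b'
    have g3 : g ^ 3 * x * (g ^ 3)⁻¹ = x := by
      rw [show g ^ 3 * x * (g ^ 3)⁻¹ = g * (g * (g * x * g⁻¹) * g⁻¹) * g⁻¹ by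
        rw [pow_three]; simp only [mul_inv_rev, mul_assoc], g1, g2, ← conj_inv, ← conj_mul, g1, g2]
      group
    have g4 := mem_of_pow_mem_of_coprime (H := C1[x]) (Tu.ord_cop Nat.prime_two h.pN (mul_mem hb hb')
      (n := 3) (by norm_num)) (mem_centralizer_singleton_iff.2 (mul_inv_eq_iff_eq_mul.1 g3))
    rw [mem_centralizer_singleton_iff.1 g4, mul_inv_cancel_right] at g1
    exact hn' (g1 ▸ mem_zpowers x)
  · refine t2 ?_
    have : y' ^ 2 = y'⁻¹ := eq_inv_of_mul_eq_one_left (by rw [← pow_succ]; exact (p3 ▸ hP.2 _ hy' : y' ^ 3 = 1))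
    rw [← this, ← h6, card_W_cj hs'.nrm, c1]

theorem case16 {b : X} (hb : b ∈ N) (hs : Small R b) : b ∈ C[P] := by
  by_contra hn
  have key : ∀ c ∈ N, Small R c → c ∉ C[P] → ∃ y ∈ P, y ≠ 1 ∧ c * y * c⁻¹ = y⁻¹ :=
    fun c hc hs hn => by
      obtain ⟨g, hg, e⟩ : ∃ g ∈ P, ¬ g * c = c * g := by
        by_contra! k
        exact hn k
      exact ⟨_, commutator_le_of_norm_left (zpowers_le.2 (h.NP hc))
        (commutator_mem_commutator hg (mem_zpowers c)),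
        fun e' => e (commutatorElement_eq_one_iff_mul_comm.1 e'), inv_comm h hc hs hg⟩
  have h4 : ∀ n x e : X, x ∈ zpowers e → (n * e * n⁻¹ = e → n * x * n⁻¹ = x) ∧
      (n * e * n⁻¹ = e⁻¹ → n * x * n⁻¹ = x⁻¹) := by
    rintro n _ e ⟨k, rfl⟩
    exact ⟨fun h => by rw [← conj_zpow, h], fun h => by rw [← conj_zpow, h, inv_zpow]⟩
  refine hn (indep_false h (B := {c | c ∈ N ∧ Small R c ∧ c ∉ C[P]}) (fun c hc => ⟨hc.1, hc.2.1⟩)
    (fun c hc => ⟨conj_mem_of_mem_normalizer h.sN hc.1, hc.2.1.conj h.sR, fun e => hc.2.2 (by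
      simpa [mul_assoc] using conj_mem_of_mem_normalizer'
        (normalizer_le_normalizer_centralizer P h.sP) e)⟩) (fun c hc c' hc' => ?_) ⟨hb, hs, hn⟩)
  obtain ⟨y, hy, y1, hi⟩ := key c hc.1 hc.2.1 hc.2.2
  obtain ⟨y', hy', y1', hi'⟩ := key c' hc'.1 hc'.2.1 hc'.2.2
  have r1 := (refl h hP hm hc.1 hc.2.1 hy y1 hi).2
  have r2 := (refl h hP hm hc'.1 hc'.2.1 hy' y1' hi').2
  by_cases e : y' ∈ zpowers y
  · refine Or.inl fun g hg => ?_
    have e' := zp_symm h (hP.2 _ hy) y1' e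
    have k1 := zpowers_le.2 e (r2 g hg)
    have k2 := r1 g hg
    have k3 : c * c' * y * (c * c')⁻¹ = y := by
      rw [show c * c' * y * (c * c')⁻¹ = c * (c' * y * c'⁻¹) * c⁻¹ by group, (h4 _ _ _ e').2 hi',
        ← conj_inv, hi, inv_inv]
    have k4 : (c * ⁅g, c'⁆ * c⁻¹)⁻¹ * ⁅g, c⁆⁻¹ ∈ zpowers y := by
      rw [(h4 _ _ _ k1).2 hi]
      exact mul_mem (inv_mem (inv_mem k1)) (inv_mem k2)
    have k5 : c * c' * g * (c * c')⁻¹ = (c * ⁅g, c'⁆ * c⁻¹)⁻¹ * ⁅g, c⁆⁻¹ * g := by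
      simp only [commutatorElement_def]; group
    rw [stab_triv h (mul_mem hc.1 hc'.1) (zpowers_le.2 hy k4) k5 ((h4 _ _ _ k4).1 k3), one_mul,
      mul_inv_eq_iff_eq_mul] at k5
    exact k5.symm
  · refine Or.inr fun g hg => mul_inv_eq_iff_eq_mul.1 ((h4 _ _ _ (r2 g hg)).1 ?_)
    exact refl_comm h hP hm hc.1 hc.2.1 hc'.1 hc'.2.1 hy hy' y1 hi hi' e

end Core

theorem coreAb (h : Core p s R P N) (hP : IsElementaryAbelian p P) {b : X} (hb : b ∈ N)
    (hs : Small R b) : b ∈ C[P] := by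
  intro g hg
  by_contra hn
  have y1 : ⁅g, b⁆ ≠ 1 := fun e => hn (commutatorElement_eq_one_iff_mul_comm.1 e)
  have hy := commutator_le_of_norm_left (zpowers_le.2 (h.NP hb))
    (commutator_mem_commutator hg (mem_zpowers b))
  have hi := inv_comm h hb hs hg
  have h1 : ∀ x ∈ P, x ≠ 1 → Nat.card ↥⁅R, zpowers x⁆ ≡ 1 [MOD p] ∧
      (Nat.card ↥⁅R, zpowers x⁆ = 8 ∨ 16 ≤ Nat.card ↥⁅R, zpowers x⁆) := fun x hx x1 => by
    obtain ⟨h1, k, hk, e⟩ := W_mod h hx (hP.2 _ hx) x1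
    refine ⟨h1, ?_⟩
    rcases k with _ | _ | _ | _ | k
    · omega
    · omega
    · exact (case4 h hP hx x1 e).elim
    · exact Or.inl e
    · exact Or.inr (e ▸ Nat.pow_le_pow_right two_pos (by omega : 4 ≤ k + 4))
  have h35 : p = 3 ∨ p = 5 := by
    obtain ⟨h2, h3⟩ := h1 _ hy y1
    rw [le_antisymm (le16 h hs hy hi).1 (h3.resolve_left (ne8 h hs hy hi))] at h2
    exact ((Nat.Prime.dvd_mul h.pp (m := 3) (n := 5)).1 ((Nat.modEq_iff_dvd' (by norm_num)).1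
      h2.symm)).imp (Nat.prime_dvd_prime_iff_eq h.pp Nat.prime_three).1
      (Nat.prime_dvd_prime_iff_eq h.pp Nat.prime_five).1
  refine hn (case16 h hP (fun x hx x1 => (h1 x hx x1).2.resolve_left fun e => ?_) hb hs g hg)
  have := (h1 x hx x1).1
  rw [e] at this
  rcases h35 with rfl | rfl <;> exact absurd this (by decide)

end Cfsg.Agent.H91.SPL
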