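import Cfsg.Agent.H91.SpB
import Cfsg.Agent.H88.FPSp

/-! The class two core case of the module lemma for cosets of odd order elements. -/

set_option autoImplicit false
set_option linter.unusedSectionVars false
set_option linter.unusedVariables false

namespace Cfsg.Agent.H91.SPL

open Cfsg Cfsg.Agent.H63 Cfsg.Agent.H67 Cfsg.Agent.H69 Subgroup
open Cfsg.Agent.H85.FP (Small)
open Cfsg.Agent.H88.FP (cj_W card_W_cj not_mem_cj)
open Cfsg.Agent.H88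
open scoped IsMulCommutative commutatorElement

universe u

variable {X : Type u} [Group X] [Finite X] {p : ℕ} {s : X} {R P N : Subgroup X}

section Core

variable (h : Core p s R P N) (he : ∀ x ∈ P, x ^ p = 1) (hc : ⁅P, P⁆ ≤ C[P])
include h he hc

theorem comm_Z {x y : X} (hx : x ∈ P) (hy : y ∈ P) : ⁅x, y⁆ ∈ Z[P] :=
  ⟨commutator_le_of_le le_rfl le_rfl (commutator_mem_commutator hx hy),
    hc (commutator_mem_commutator hx hy)⟩

theorem exists_comm {x y v : X} (hx : x ∈ P) (hy : y ∈ P) (hv : v ∈ zpowers ⁅y, x⁆) :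
    ∃ g ∈ zpowers y, ⁅g, x⁆ = v := by
  obtain ⟨n, rfl⟩ := mem_powers_iff_mem_zpowers.2 hv
  exact ⟨y ^ n, pow_mem (mem_zpowers y) n, H7.comm_pow_left ((comm_Z h he hc hy hx).2 y hy) n⟩

theorem norm_WZ {z : X} (hz : z ∈ Z[P]) : P ≤ N[⁅R, zpowers z⁆] :=
  le_normalizer_commutator h.PR (le_normalizer_of_le_centralizer' (zpowers_le.2 hz.2))

variable {x y : X} (hx : x ∈ P) (hy : y ∈ P) (z1 : ⁅x, y⁆ ≠ 1) (h16 : Nat.card ↥⁅R, zpowers x⁆ ≤ 16)
include hx hy z1 h16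

theorem irr {V : Subgroup X} (hV : V ≤ ⁅R, zpowers ⁅x, y⁆⁆) (V1 : V ≠ ⊥) (xV : x ∈ N[V])
    (yV : y ∈ N[V]) : p = 3 ∧ Nat.card V = 64 ∧ Nat.card ↥(V ⊓ C1[x]) = 4 := by
  have hz := comm_Z h he hc hx hy
  set z := ⁅x, y⁆ with hz'
  have VR := hV.trans (W_le h hz.1)
  have zV : z ∈ N[V] := commutator_le_of_le le_rfl le_rfl (commutator_mem_commutator xV yV)
  have h0 : V ⊓ C1[z] = ⊥ := le_bot_iff.1 (W_ti h hz.1 ▸ inf_le_inf_right _ hV)
  have h1 : ∀ v ∈ zpowers z, Nat.card ↥(V ⊓ C1[x * v]) = Nat.card ↥(V ⊓ C1[x]) := fun v hv => by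
    obtain ⟨g, hg, e⟩ := exists_comm h he hc hx hy (v := v) (by
      rwa [← commutatorElement_inv, zpowers_inv])
    rw [← card_cj g (V ⊓ C1[x]), cj_inf, cj_eq_self (zpowers_le.2 yV hg), cj_centralizer_singleton,
      (zpowers_le.2 hz hv).2 x hx, ← e, commutatorElement_def, inv_mul_cancel_right]
  have hxz : ∀ v ∈ zpowers z, Commute x v := fun v hv => (zpowers_le.2 hz hv).2 x hx
  have h2 : V ⊓ C1[x] ≠ ⊥ := by
    obtain ⟨a, ha, c, hc', e1, h2⟩ := two_gen h hx hz.1 (he _ hx) (he _ hz.1) z1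
      (hxz z (mem_zpowers z)) (fun e => z1 (commutatorElement_eq_one_iff_mul_comm.2
        ((zpowers_le.2 hz e).2 y hy).symm)) VR V1 xV zV
    have a1 : a ≠ 1 := fun e => h2 (by
      rw [e, one_mul] at e1 ⊢
      exact le_bot_iff.1 (h0 ▸ inf_le_inf_left _ fun w hw => mem_centralizer_singleton_comm.1
        (zpowers_le.2 (mem_centralizer_singleton_comm.1 hw) (zp_symm h (he _ hz.1) e1 hc'))))
    obtain ⟨j, hj⟩ := mem_powers_iff_mem_zpowers.2 (zp_symm h (he _ hx) a1 ha)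
    have h3 : (a * c) ^ j = x * c ^ j := by
      rw [Commute.mul_pow ((zpowers_le.2 hz hc').2 a (zpowers_le.2 hx ha)), show a ^ j = x from hj]
    intro e
    have h4 := h1 _ (pow_mem hc' j)
    rw [e, card_bot, card_eq_one, ← h3] at h4
    exact h2 (le_bot_iff.1 (h4 ▸ inf_le_inf_left _ fun w hw => mem_centralizer_singleton_comm.1
      (pow_mem (mem_centralizer_singleton_comm.1 hw) j)))
  have h3 : z ∈ N[V ⊓ C1[x]] := le_normalizer_inf (zpowers_le.2 zV) (centralizer_zpowers x ▸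
    le_normalizer_of_le (zpowers_le.2 (centralizer_anti (zpowers_le.2 hx) hz.2))) (mem_zpowers z)
  have h4 := le_bot_iff.1 (h0 ▸ inf_le_inf_right C1[z] (inf_le_left (b := C1[x])))
  have h5 := (card_mod h (he _ hz.1) (inf_le_left.trans VR) h2 h3 h4).1
  have h6 := four_le h (he _ hz.1) (inf_le_left.trans VR) h2 h3 h4
  have h7 : ∀ v ∈ zpowers z, v ≠ 1 → V ⊓ C1[x * v] ≤ ⁅V, zpowers x⁆ := fun v hv v1 =>
    (le_W h hx (inf_le_left.trans VR) (le_normalizer_inf (zpowers_le.2 xV)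
      (centralizer_zpowers (x * v) ▸ le_normalizer_of_le (zpowers_le.2 (centralizer_zpowers (x * v) ▸
        mem_centralizer_singleton_iff.2 ((Commute.refl x).mul_right (hxz v hv))))) (mem_zpowers x))
      (le_bot_iff.1 (h0 ▸ fun w hw => ⟨hw.1.1, mem_centralizer_singleton_comm.1 (zpowers_le.2
        ((mul_mem_cancel_left (mem_centralizer_singleton_comm.1 hw.2)).1
          (mem_centralizer_singleton_comm.1 hw.1.2)) (zp_symm h (he _ hz.1) v1 hv))⟩))).ge.trans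
      (commutator_mono inf_le_left le_rfl)
  have z2 : z * z ≠ 1 := fun e => z1 (one_of_inv h hz.1 (eq_inv_of_mul_eq_one_left e))
  have zz := mul_mem (mem_zpowers z) (mem_zpowers z)
  have h8 := card_le_of_le (sup_le (h7 z (mem_zpowers z) z1) (h7 _ zz z2))
  rw [card_sup_of_inf_eq_bot (Or.inl (le_normalizer_of_le_centralizer (le_cent_of_comm h.ea.1
    (inf_le_left.trans VR) (inf_le_left.trans VR)))) (le_bot_iff.1 (h0 ▸ fun w hw => ⟨hw.1.1,
      mem_centralizer_singleton_comm.1 ((mul_mem_cancel_left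
        (mem_centralizer_singleton_comm.1 hw.1.2)).1 (mul_assoc x z z ▸
          mem_centralizer_singleton_comm.1 hw.2.2))⟩)), h1 _ (mem_zpowers z), h1 _ zz] at h8
  have h9 := (card_le_of_le (commutator_mono VR le_rfl)).trans h16
  have h10 : Nat.card ↥(V ⊓ C1[x]) = 4 := by nlinarith
  rw [h10] at h5 h8
  refine ⟨eq_three h h5, ?_, h10⟩
  rw [card_W h hx VR xV, h10, le_antisymm h9 h8]

theorem W_ne : ⁅R, zpowers ⁅x, y⁆⁆ ≠ ⊥ := fun e =>
  z1 (eq_one_of h (comm_Z h he hc hx hy).1 (e ▸ bot_le))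

theorem irr_top : p = 3 ∧ Nat.card ↥⁅R, zpowers ⁅x, y⁆⁆ = 64 ∧
    Nat.card ↥(⁅R, zpowers ⁅x, y⁆⁆ ⊓ C1[x]) = 4 :=
  irr h he hc hx hy z1 h16 le_rfl (W_ne h he hc hx hy z1 h16)
    (norm_WZ h he hc (comm_Z h he hc hx hy) hx) (norm_WZ h he hc (comm_Z h he hc hx hy) hy)

theorem cent_or {g : X} (hg : g ∈ P) (g1 : ⁅g, x⁆ ∈ C[⁅R, zpowers ⁅x, y⁆⁆])
    (g2 : ⁅g, y⁆ ∈ C[⁅R, zpowers ⁅x, y⁆⁆]) (h0 : ⁅R, zpowers ⁅x, y⁆⁆ ⊓ C1[g] ≠ ⊥) :
    g ∈ C[⁅R, zpowers ⁅x, y⁆⁆] := by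
  have PW := norm_WZ h he hc (comm_Z h he hc hx hy)
  have h1 : ∀ a ∈ P, ⁅g, a⁆ ∈ C[⁅R, zpowers ⁅x, y⁆⁆] → a ∈ N[⁅R, zpowers ⁅x, y⁆⁆ ⊓ C1[g]] :=
    fun a ha e => centralizer_zpowers g ▸ Tu.norm_fix (zpowers_le.2 (PW ha))
      (commutator_zpowers_zpowers_le (le_normalizer_centralizer PW hg)
        (le_normalizer_centralizer PW ha) e) (mem_zpowers a)
  exact mem_centralizer_iff_le.2 ((eq_of_le_of_card_ge inf_le_left (by
    rw [(irr h he hc hx hy z1 h16 inf_le_left h0 (h1 x hx g1) (h1 y hy g2)).2.1,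
      (irr_top h he hc hx hy z1 h16).2.1])).ge.trans inf_le_right)

theorem rk {g : X} (hg : g ∈ P) (g1 : ⁅g, x⁆ ∈ C[⁅R, zpowers ⁅x, y⁆⁆])
    (g2 : ⁅g, y⁆ ∈ C[⁅R, zpowers ⁅x, y⁆⁆]) :
    g ∈ zpowers ⁅x, y⁆ ⊔ P ⊓ C[⁅R, zpowers ⁅x, y⁆⁆] := by
  have hz := comm_Z h he hc hx hy
  have PW := norm_WZ h he hc hz
  by_cases hn : g ∈ zpowers ⁅x, y⁆
  · exact mem_sup_left hn
  obtain ⟨a, ha, c, hc', e1, h2⟩ := two_gen h hg hz.1 (he _ hg) (he _ hz.1) z1 (hz.2 g hg) hn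
    (W_le h hz.1) (W_ne h he hc hx hy z1 h16) (PW hg) (PW hz.1)
  have h3 : ∀ t ∈ P, ⁅g, t⁆ ∈ C[⁅R, zpowers ⁅x, y⁆⁆] → ⁅a * c, t⁆ ∈ C[⁅R, zpowers ⁅x, y⁆⁆] :=
    fun t ht e => (mul_mem (zpowers_le (H := Tu.cm t _).2 ⟨le_normalizer_centralizer PW hg, e⟩ ha)
      (zpowers_le (H := Tu.cm t _).2 ⟨le_normalizer_centralizer PW hz.1, by
        rw [commutatorElement_eq_one_iff_mul_comm.2 (hz.2 t ht).symm]; exact one_mem _⟩ hc')).2
  have h4 := mul_mem (zpowers_le.2 hg ha) (zpowers_le.2 hz.1 hc')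
  have h5 := cent_or h he hc hx hy z1 h16 h4 (h3 x hx g1) (h3 y hy g2) h2
  have a1 : a ≠ 1 := fun e => h2 (by
    rw [e, one_mul] at e1 ⊢
    exact le_bot_iff.1 (W_ti h hz.1 ▸ inf_le_inf_left _ fun w hw => mem_centralizer_singleton_comm.1
      (zpowers_le.2 (mem_centralizer_singleton_comm.1 hw) (zp_symm h (he _ hz.1) e1 hc'))))
  exact zpowers_le.2 ((mul_mem_cancel_right (mem_sup_left hc')).1 (mem_sup_right (mem_inf.2 ⟨h4, h5⟩)))
    (zp_symm h (he _ hg) a1 ha)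

theorem rkZ {g : X} (hg : g ∈ Z[P]) : g ∈ zpowers ⁅x, y⁆ ⊔ P ⊓ C[⁅R, zpowers ⁅x, y⁆⁆] :=
  rk h he hc hx hy z1 h16 hg.1
    (by rw [commutatorElement_eq_one_iff_mul_comm.2 (hg.2 x hx).symm]; exact one_mem _)
    (by rw [commutatorElement_eq_one_iff_mul_comm.2 (hg.2 y hy).symm]; exact one_mem _)

theorem indep {z : X} (hz : z ∈ Z[P]) (h64 : Nat.card ↥⁅R, zpowers z⁆ = 64)
    (hn : z ∉ zpowers ⁅x, y⁆) : z ∈ C[⁅R, zpowers ⁅x, y⁆⁆] := by
  have hz' := comm_Z h he hc hx hy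
  have PW := norm_WZ h he hc hz'
  refine cent_or h he hc hx hy z1 h16 hz.1
    (by rw [commutatorElement_eq_one_iff_mul_comm.2 (hz.2 x hx).symm]; exact one_mem _)
    (by rw [commutatorElement_eq_one_iff_mul_comm.2 (hz.2 y hy).symm]; exact one_mem _) fun e => ?_
  have h1 := eq_of_le_of_card_ge ((le_W h hz.1 (W_le h hz'.1) (PW hz.1) e).ge.trans
    (commutator_mono (W_le h hz'.1) le_rfl)) (by rw [h64, (irr_top h he hc hx hy z1 h16).2.1])
  obtain ⟨v, hv, c, hc', rfl⟩ := (mem_sup_of_le_normalizer (zpowers_le.2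
    (le_normalizer_inf le_normalizer (le_normalizer_centralizer PW) hz'.1))).1
    (rkZ h he hc hx hy z1 h16 hz)
  have h2 : R ⊓ C1[⁅x, y⁆] ≤ C[zpowers (v * c)] := le_cent_of_commutator_eq_bot (le_bot_iff.1
    (W_ti h hz'.1 ▸ le_inf (h1 ▸ commutator_mono inf_le_left le_rfl) (commutator_le_of_le
      inf_le_right (zpowers_le.2 (centralizer_le_centralizer_singleton hz'.1 hz.2)))))
  have h3 : c ∈ C[R] := by
    rw [← sup_W h hz'.1, centralizer_sup]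
    exact ⟨hc'.2, (mul_mem_cancel_left (zpowers_le.2 (mem_centralizer_iff_le.2 inf_le_right) hv)).1
      (cent_symm h2 (mem_zpowers _))⟩
  rw [mem_bot.1 (h.faith ▸ ⟨hc'.1, h3⟩ : c ∈ ⊥), mul_one] at hn
  exact hn hv

variable {b : X} (hb : b ∈ N) (hs : Small R b) (hZ : b ∈ C[Z[P]]) (ix : b * x * b⁻¹ = x⁻¹)
include hb hs hZ ix

theorem cent_C : b ∈ C[R ⊓ C1[⁅x, y⁆]] := by
  have hz := comm_Z h he hc hx hy
  obtain ⟨-, c64, c4⟩ := irr_top h he hc hx hy z1 h16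
  have h1 := card_W h hx (W_le h hz.1) (norm_WZ h he hc hz hx)
  rw [c64, c4] at h1
  have h2 : ⁅⁅R, zpowers ⁅x, y⁆⁆, zpowers x⁆ ≤ ⁅R, zpowers x⁆ := commutator_mono (W_le h hz.1) le_rfl
  have h3 := card_le_of_le h2
  have h4 : ⁅R, zpowers x⁆ ≤ ⁅R, zpowers ⁅x, y⁆⁆ := (eq_of_le_of_card_ge h2 (by omega)).ge.trans
    (commutator_le_of_norm_left (zpowers_le.2 (norm_WZ h he hc hz hx)))
  have h5 : R ⊓ C1[⁅x, y⁆] ≤ C[zpowers x] := le_cent_of_commutator_eq_bot (le_bot_iff.1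
    (W_ti h hz.1 ▸ le_inf ((commutator_mono inf_le_left le_rfl).trans h4) (commutator_le_of_le
      inf_le_right (zpowers_le.2 (mem_centralizer_singleton_iff.2 (hz.2 x hx))))))
  exact mem_centralizer_iff_le.2 ((le_inf inf_le_left (centralizer_zpowers x ▸ h5)).trans
    ((le16 h hs hx ix).2 (by omega)))

omit z1 h16 hy in
theorem comm_inv {g : X} (hg : g ∈ P) : ⁅g * (b * g * b⁻¹), x⁆ = 1 := by
  have h1 := conj_mem_of_mem_normalizer (h.NP hb) hg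
  have h2 : ⁅b * g * b⁻¹, x⁆ = ⁅g, x⁻¹⁆ := by
    have h3 : b * x⁻¹ * b⁻¹ = x := by rw [← conj_inv, ix, inv_inv]
    conv_lhs => rw [← h3, ← conjugate_commutatorElement,
      ← hZ _ (comm_Z h he hc hg (inv_mem hx)), mul_inv_cancel_right]
  rw [commutatorElement_mul_left', h2, (comm_Z h he hc hg (inv_mem hx)).2 g hg,
    mul_inv_cancel_right]
  have h3 := (comm_Z h he hc hg hx).2 x hx
  calc ⁅g, x⁻¹⁆ * ⁅g, x⁆ = g * x⁻¹ * g⁻¹ * (x * ⁅g, x⁆) := by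
        simp only [commutatorElement_def]; group
    _ = 1 := by rw [h3]; simp only [commutatorElement_def]; group

theorem inv_mod (iy : b * y * b⁻¹ = y⁻¹) {g : X} (hg : g ∈ P) :
    g * (b * g * b⁻¹) ∈ zpowers ⁅x, y⁆ ⊔ P ⊓ C[⁅R, zpowers ⁅x, y⁆⁆] :=
  rk h he hc hx hy z1 h16 (mul_mem hg (conj_mem_of_mem_normalizer (h.NP hb) hg))
    (by rw [comm_inv h he hc hx hb hs hZ ix hg]; exact one_mem _)
    (by rw [comm_inv h he hc hy hb hs hZ iy hg]; exact one_mem _)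

end Core

theorem exists_pair (h : Core p s R P N) (he : ∀ x ∈ P, x ^ p = 1) (hc : ⁅P, P⁆ ≤ C[P]) {b : X}
    (hb : b ∈ N) (hs : Small R b) (hZ : b ∈ C[Z[P]]) (hn : b ∉ C[P]) :
    ∃ x ∈ P, ∃ y ∈ P, ⁅x, y⁆ ≠ 1 ∧ b * x * b⁻¹ = x⁻¹ ∧ b * y * b⁻¹ = y⁻¹ := by
  have k : ∀ g ∈ P, ⁅g, b⁆ ∈ P := fun g hg => commutator_le_of_norm_left (zpowers_le.2 (h.NP hb))
    (commutator_mem_commutator hg (mem_zpowers b))
  obtain ⟨g, hg, e⟩ : ∃ g ∈ P, ¬ g * b = b * g := by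
    by_contra! k
    exact hn k
  have hx := k g hg
  have hi := inv_comm h hb hs hg
  obtain ⟨y, hy, e'⟩ : ∃ y ∈ P, ¬ y * ⁅g, b⁆ = ⁅g, b⁆ * y := by
    by_contra! k'
    refine e (commutatorElement_eq_one_iff_mul_comm.1 (one_of_inv h hx ?_))
    rw [← hi, ← hZ _ ⟨hx, k'⟩, mul_inv_cancel_right]
  refine ⟨_, hx, _, k y hy, fun e2 => e' ?_, hi, inv_comm h hb hs hy⟩
  generalize ⁅g, b⁆ = x at hx hi e2 ⊢
  have h1 := comm_inv h he hc hx hb hs hZ hi hy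
  have h2 : ⁅y, b⁆ * (b * y * b⁻¹) = y := by simp only [commutatorElement_def]; group
  have h3 : Commute x (y * (b * y * b⁻¹)) := (commutatorElement_eq_one_iff_commute.1 h1).symm
  have h4 : Commute x ⁅y, b⁆ := commutatorElement_eq_one_iff_commute.1 e2
  have h5 : y * y ∈ C1[x] := by
    have h6 : y * y = y * ⁅y, b⁆ * y⁻¹ * (y * (b * y * b⁻¹)) := by
      simp only [commutatorElement_def]; group
    have h7 : y * ⁅y, b⁆ * y⁻¹ = ⁅y, ⁅y, b⁆⁆ * ⁅y, b⁆ := by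
      rw [commutatorElement_def y ⁅y, b⁆]; group
    rw [h6, h7]
    exact mul_mem (mul_mem (mem_centralizer_singleton_iff.2
      ((comm_Z h he hc hy (k y hy)).2 x hx).symm) (mem_centralizer_singleton_iff.2 h4.symm))
      (mem_centralizer_singleton_iff.2 h3.symm)
  exact mem_centralizer_singleton_iff.1 (mem_centralizer_singleton_comm.1
    (cent_of_sq h hy (mem_centralizer_singleton_comm.1 h5)))

theorem coreSp (h : Core p s R P N) (he : ∀ x ∈ P, x ^ p = 1) (hc : ⁅P, P⁆ ≤ C[P]) {b : X}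
    (hb : b ∈ N) (hs : Small R b) (hZ : b ∈ C[Z[P]]) : b ∈ C[P] := by
  by_contra hn
  refine hn (indep_false h (B := {c | c ∈ N ∧ Small R c ∧ c ∈ C[Z[P]] ∧ c ∉ C[P]})
    (fun c hc => ⟨hc.1, hc.2.1⟩)
    (fun c hc => ⟨conj_mem_of_mem_normalizer h.sN hc.1, hc.2.1.conj h.sR,
      conj_mem_of_mem_normalizer (normalizer_le_normalizer_centralizer _
        (normalizer_le_normalizer_center P h.sP)) hc.2.2.1, fun e => hc.2.2.2 (by
      simpa [mul_assoc] using conj_mem_of_mem_normalizer'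
        (normalizer_le_normalizer_centralizer P h.sP) e)⟩) ?_ ⟨hb, hs, hZ, hn⟩)
  rintro c ⟨c1, c2, c3, c4⟩ c' ⟨d1, d2, d3, d4⟩
  obtain ⟨x, hx, y, hy, z1, ix, iy⟩ := exists_pair h he hc c1 c2 c3 c4
  obtain ⟨x', hx', y', hy', z1', ix', iy'⟩ := exists_pair h he hc d1 d2 d3 d4
  have h16 := (le16 h c2 hx ix).1
  have h16' := (le16 h d2 hx' ix').1
  have hz := comm_Z h he hc hx hy
  have hz' := comm_Z h he hc hx' hy'
  have k1 := cent_C h he hc hx hy z1 h16 c1 c2 c3 ix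
  have k2 := cent_C h he hc hx' hy' z1' h16' d1 d2 d3 ix'
  have nC : ∀ z ∈ Z[P], P ≤ N[C[R ⊓ C1[z]]] := fun z hz => le_normalizer_centralizer
    (le_normalizer_inf h.PR (centralizer_zpowers z ▸ le_normalizer_of_le
      (cent_symm (zpowers_le.2 hz.2))))
  have ti : ∀ z ∈ Z[P], ∀ g ∈ P, g ∈ C[R ⊓ C1[z]] → g ∈ C[⁅R, zpowers z⁆] → g = 1 :=
    fun z hz g hg a1 a2 => mem_bot.1 (h.faith ▸ ⟨hg, by
      rw [← sup_W h hz.1, centralizer_sup]; exact ⟨a2, a1⟩⟩)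
  have kP : ∀ t ∈ N, ∀ g ∈ P, ⁅t, g⁆ ∈ P := fun t ht g hg =>
    commutator_le_of_norm_right h.NP (commutator_mem_commutator ht hg)
  by_cases e : ⁅x, y⁆ ∈ zpowers ⁅x', y'⁆
  · refine Or.inl fun g hg => ?_
    have e1 : zpowers ⁅x', y'⁆ = zpowers ⁅x, y⁆ := le_antisymm
      (zpowers_le.2 (zp_symm h (he _ hz'.1) z1 e)) (zpowers_le.2 e)
    have a1 := inv_mod h he hc hx hy z1 h16 c1 c2 c3 ix iy hg
    have a2 := inv_mod h he hc hx' hy' z1' h16' d1 d2 d3 ix' iy' hg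
    rw [← centralizer_zpowers, e1, centralizer_zpowers] at k2
    rw [e1] at a2
    have PW := norm_WZ h he hc hz
    have PC : P ≤ N[P ⊓ C[⁅R, zpowers ⁅x, y⁆⁆]] :=
      le_normalizer_inf le_normalizer (le_normalizer_centralizer PW)
    have cz : c ∈ C[zpowers ⁅x, y⁆] := centralizer_anti (zpowers_le.2 hz) c3
    have PK : P ≤ N[zpowers ⁅x, y⁆ ⊔ P ⊓ C[⁅R, zpowers ⁅x, y⁆⁆]] := le_normalizer_sup
      (le_normalizer_of_le_centralizer' (zpowers_le.2 hz.2)) PC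
    have cn : zpowers c ≤ N[zpowers ⁅x, y⁆] := le_normalizer_of_le_centralizer (zpowers_le.2 cz)
    have cK := le_normalizer_sup cn (le_normalizer_inf (zpowers_le.2 (h.NP c1))
      (le_normalizer_centralizer (le_normalizer_commutator (zpowers_le.2 c2.nrm) cn)))
      (mem_zpowers c)
    have a3 : ⁅c * c', g⁆ ∈ zpowers ⁅x, y⁆ ⊔ P ⊓ C[⁅R, zpowers ⁅x, y⁆⁆] := by
      have := mul_mem (inv_mem a1) (conj_mem_of_mem_normalizer (PK hg)
        (conj_mem_of_mem_normalizer cK a2))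
      rwa [show (g * (c * g * c⁻¹))⁻¹ * (g * (c * (g * (c' * g * c'⁻¹)) * c⁻¹) * g⁻¹) =
        ⁅c * c', g⁆ by simp only [commutatorElement_def]; group] at this
    obtain ⟨v, hv, w, hw, e2⟩ := (mem_sup_of_le_normalizer (zpowers_le.2 (PC hz.1))).1 a3
    have a4 : ⁅c * c', g⁆ ∈ C[R ⊓ C1[⁅x, y⁆]] := commutator_le_of_norm_left (nC _ hz)
      (commutator_mem_commutator (mul_mem k1 k2) hg)
    have a5 : v ∈ C[R ⊓ C1[⁅x, y⁆]] := zpowers_le.2 (mem_centralizer_iff_le.2 inf_le_right) hv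
    rw [ti _ hz w hw.1 ((mul_mem_cancel_left a5).1 (e2 ▸ a4)) hw.2, mul_one] at e2
    have a6 : c * c' * g * (c * c')⁻¹ = v * g := by
      rw [e2, commutatorElement_def, inv_mul_cancel_right]
    have a7 := mul_mem c3 d3 v (zpowers_le.2 hz hv)
    rw [stab_triv h (mul_mem c1 d1) (zpowers_le.2 hz.1 hv) a6 (by rw [← a7, mul_inv_cancel_right]),
      one_mul, mul_inv_eq_iff_eq_mul] at a6
    exact a6.symm
  · refine Or.inr fun g hg => ?_
    have a1 := indep h he hc hx' hy' z1' h16' hz (irr_top h he hc hx hy z1 h16).2.1 e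
    have a2 : c ∈ C[⁅R, zpowers ⁅x', y'⁆⁆] := centralizer_anti
      (le_inf (W_le h hz'.1) (mem_centralizer_iff_le.1 a1)) k1
    have dP : ⁅g, c'⁆ ∈ P := commutator_le_of_norm_left h.NP (commutator_mem_commutator hg d1)
    have a3 : ⁅g, c'⁆ ∈ C[R ⊓ C1[⁅x', y'⁆]] := commutator_le_of_norm_right (nC _ hz')
      (commutator_mem_commutator hg k2)
    have cn : zpowers c ≤ N[C[R ⊓ C1[⁅x', y'⁆]]] := le_normalizer_centralizer
      (le_normalizer_inf (zpowers_le.2 c2.nrm) (centralizer_zpowers ⁅x', y'⁆ ▸ le_normalizer_of_le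
        (zpowers_le.2 (centralizer_anti (zpowers_le.2 hz') c3))))
    refine commutatorElement_eq_one_iff_mul_comm.1 (ti _ hz' _ (kP c c1 _ dP) ?_ ?_)
    · exact commutator_le_of_norm_right cn (commutator_mem_commutator (mem_zpowers c) a3)
    · exact commutator_le_of_norm_left (le_normalizer_centralizer (norm_WZ h he hc hz'))
        (commutator_mem_commutator a2 dP)

end Cfsg.Agent.H91.SPL
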