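import Cfsg.Agent.H91.SpC
import Cfsg.Agent.H69.FmNS

/-! Small elements lie in `O₂(H mod C(R))`, for cosets of odd order elements (port of FPM M1). -/

set_option autoImplicit false
set_option linter.unusedSectionVars false

namespace Cfsg.Agent.H91.SPL

open Subgroup Cfsg Cfsg.Agent.H63 Cfsg.Agent.H67
open Cfsg.Agent.H69.FmNS (small_le small_quo small_conj small_congr)
open Cfsg.Agent.H83 (PMod)
open Cfsg.Agent.H85.FP (Small Rad)
open scoped commutatorElement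

universe u

variable {Γ : Type u} [Group Γ] [Finite Γ] {H K N P R : Subgroup Γ} {a b c g : Γ} {p : ℕ}

theorem core (c : Core p a R P N) (hb : b ∈ N)
    (s : Small R b) : b ∈ C[P] := by
  have := Fact.mk c.pp
  by_contra n
  obtain ⟨A, hA⟩ : ∃ A, A = zpowers a := ⟨_, rfl⟩
  have aA : a ∈ A := hA ▸ mem_zpowers a
  have AN : A ≤ N[N] := hA ▸ zpowers_le.2 c.sN
  have AR : A ≤ N[R] := hA ▸ zpowers_le.2 c.sR
  have AP : A ≤ N[P] := hA ▸ zpowers_le.2 c.sP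
  obtain ⟨M, hM⟩ : ∃ M, M = closure {x | x ∈ N ∧ Small R x} := ⟨_, rfl⟩
  have le : M ≤ N := hM ▸ (closure_le _).2 fun _ h => h.1
  have nM : N ⊔ A ≤ N[M] := fun g hg => mem_normalizer_of_cj_le (by
    rw [hM, cj_closure]
    refine closure_mono ?_
    rintro _ ⟨x, hx, rfl⟩
    exact ⟨conj_mem_of_mem_normalizer (sup_le le_normalizer AN hg) hx.1,
      small_conj hx.2 (sup_le c.NR AR hg)⟩)
  have cb : ∀ U : Subgroup Γ, ⁅U, M⁆ = ⊥ ↔ ∀ x ∈ N, Small R x → x ∈ C[U] := fun U => by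
    rw [commutator_eq_bot_iff_le_centralizer, le_centralizer_iff, hM, closure_le]
    exact ⟨fun h x h1 h2 => h ⟨h1, h2⟩, fun h x hx => h x hx.1 hx.2⟩
  obtain ⟨Q, QP, ⟨h1, h2⟩, hm⟩ := exists_minimal_le (fun U => N ⊔ A ≤ N[U] ∧ ⁅U, M⁆ ≠ ⊥)
    (H := P) ⟨sup_le c.NP AP, fun e => n ((cb P).1 e b hb s)⟩
  have hm' : ∀ U < Q, N ⊔ A ≤ N[U] → ⁅U, M⁆ = ⊥ := fun U hU hn =>
    by_contra fun e => hU.ne (hm U ⟨hn, e⟩ hU.le)
  have c0 : Core p a R Q N := { c with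
    pP := c.pP.to_le QP
    sp := c.sp.sub' (sup_le_sup_right (sup_le_sup_left QP _) _)
      (le_normalizer_sup (le_normalizer_sup AR (le_sup_right.trans h1)) AN aA)
    sP := h1 (mem_sup_right aA)
    NP := le_sup_left.trans h1
    PR := QP.trans c.PR
    faith := eq_bot_iff.2 ((inf_le_inf_right _ QP).trans c.faith.le) }
  obtain ⟨k, hk⟩ := IsPGroup.iff_card.1 (c.pN.to_le le)
  obtain ⟨-, h3, -, h4⟩ := S3736.result (N ⊔ A) M Q c0.pP h1 (le.trans le_sup_left) nM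
    (hk ▸ ((Nat.coprime_primes Nat.prime_two c.pp).2 c.p2.symm).pow_left k) h2 hm'
  refine h2 ((cb Q).2 fun x hx hs => ?_)
  by_cases ab : Q ≤ C[Q]
  · exact coreAb c0 ⟨le_centralizer_iff_isMulCommutative.1 ab, h4 c.p2⟩ hx hs
  obtain h3 | h3 := h3
  · exact coreAb c0 h3 hx hs
  refine coreSp c0 (h4 c.p2) ?_ hx hs ((cb _).1 (hm' _
    (inf_le_left.lt_of_ne fun e => ab (inf_eq_left.1 e))
    (h1.trans (normalizer_le_normalizer_center Q))) x hx hs)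
  rw [← map_subtype_subgroupOf (H83.comm_le_left (le_normalizer (H := Q))), commutator_subgroupOf_self, h3.2.2,
    map_center_subtype]
  exact inf_le_right

theorem core' (pp : p.Prime) (p2 : p ≠ 2)
    (ea : IsElementaryAbelian 2 R) (pP : IsPGroup p P) (pN : IsPGroup 2 N) (op : SP (R ⊔ P ⊔ N) a)
    (AR : a ∈ N[R]) (AP : a ∈ N[P]) (AN : a ∈ N[N]) (NR : N ≤ N[R]) (NP : N ≤ N[P]) (PR : P ≤ N[R])
    (hb : b ∈ N) (s : Small R b) (hg : g ∈ P) : ⁅g, b⁆ ∈ C[R] := by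
  have := Fact.mk pp
  have k : ∀ {X : Subgroup Γ}, X ≤ N[P] → X ≤ N[R] → X ≤ N[P ⊓ C[R]] := fun h1 h2 =>
    le_normalizer_inf h1 (le_normalizer_centralizer h2)
  have h1 : R ≤ N[P ⊓ C[R]] := le_normalizer_of_le_centralizer' inf_le_right
  have h2 := k le_normalizer PR
  have h3 := k NP NR
  have pO := pP.to_le (inf_le_left : P ⊓ C[R] ≤ P)
  have h0 := k (zpowers_le.2 AP) (zpowers_le.2 AR) (mem_zpowers a)
  have op' := op.quo h0
  rw [quo_sup (sup_le h1 h2) h3, quo_sup h1 h2] at op'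
  have c := core ⟨pp, p2, quo_isElementaryAbelian _ ea, quo_isPGroup _ pP,
    quo_isPGroup _ pN, op', quo_norm _ _ (coset_mem_quo h0 AR),
    quo_norm _ _ (coset_mem_quo h0 AP), quo_norm _ _ (coset_mem_quo h0 AN), quo_norms _ NR,
    quo_norms _ NP, quo_norms _ PR, eq_bot_iff.2 fun y hy => ?_⟩ (coset_mem_quo (h3 hb) hb)
    (small_quo s h1 (h3 hb))
  · refine ((coset_eq_one_iff (h2 (H83.comm_le_left NP (commutator_mem_commutator hg hb)))).1 ?_).2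
    rw [coset_commutator (h2 hg) (h3 hb), commutatorElement_eq_one_iff_mul_comm]
    exact c _ (coset_mem_quo (h2 hg) hg)
  obtain ⟨x, hx, n, rfl⟩ := mem_quo.1 hy.1
  refine coset_eq_one ⟨hx, fun r hr => commutatorElement_eq_one_iff_mul_comm.1 ?_⟩
  have m := H83.comm_le_left PR (commutator_mem_commutator hr hx)
  refine (IsPGroup.disjoint_of_ne p 2 p2 _ _ pO (elemAb_isPGroup ea)).le_bot
    ⟨(coset_eq_one_iff (h1 m)).1 ?_, m⟩
  rw [coset_commutator (h1 hr) n, commutatorElement_eq_one_iff_mul_comm]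
  exact hy.2 _ (coset_mem_quo (h1 hr) hr)

theorem irred (op : SP H a) (sol : Group.IsSolvable H)
    (le : R ≤ H) (ea : IsElementaryAbelian 2 R) (HR : H ≤ N[R]) (aR : a ∈ N[R]) (ne : R ≠ ⊥)
    (hm : ∀ U ≤ R, H ⊔ zpowers a ≤ N[U] → U ≠ ⊥ → U = R) (hb : b ∈ H) (s : Small R b) : b ∈ C[R] := by
  by_contra n
  have AR := zpowers_le.2 aR
  have AH := zpowers_le.2 op.nrm
  have hC := le_normalizer_centralizer (sup_le HR AR)
  have HC := le_sup_left.trans hC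
  obtain ⟨X, hX⟩ : ∃ X : ℕ → Subgroup Γ, ∀ q, X q = H ⊓ cosetpre C[R] O[{q}](H /ᵍ C[R]) :=
    ⟨_, fun _ => rfl⟩
  have XH : ∀ q, X q ≤ H := fun q => (hX q).le.trans inf_le_left
  have nX : ∀ q, H ⊔ zpowers a ≤ N[X q] := fun q => hX q ▸ le_normalizer_inf (sup_le le_normalizer AH)
    (le_norm_cosetpre hC (le_normalizer_piCoreOf (quo_norms _ (sup_le le_normalizer AH))))
  have pX : ∀ q, q.Prime → PMod q (X q) C[R] := fun q hq x hx => by
    obtain ⟨h1, h2⟩ := mem_cosetpre.1 ((hX q).le hx).2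
    obtain ⟨k, hk⟩ := isPGroup_pCoreOf hq _ ⟨_, h2⟩
    exact ⟨k, (coset_eq_one_iff (pow_mem h1 _)).1 (coset_pow h1 _ ▸ congrArg Subtype.val hk)⟩
  have qX : ∀ q, X q /ᵍ C[R] = O[{q}](H /ᵍ C[R]) := fun q => by
    rw [hX, quo_inf_cosetpre, inf_eq_right.2 (piCoreOf_le _ _)]
  have h2 : O[{2}](H /ᵍ C[R]) = ⊥ := qX 2 ▸ quo_eq_bot_of_le (le_centralizer_iff.1 (inf_eq_left.1
    (hm _ inf_le_left (le_normalizer_inf (sup_le HR AR) (le_normalizer_centralizer (nX 2)))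
      (H83.inf_cent_ne_bot_of_pMod (elemAb_isPGroup ea) ((XH 2).trans HR) (pX 2 Nat.prime_two) ne))))
  obtain ⟨p, pp, hp⟩ : ∃ p : ℕ, p.Prime ∧ ¬ O[{p}](H /ᵍ C[R]) ≤ C1[coset C[R] b] := by
    by_contra! k
    have m := cent_sub_Fitting (quo_isSolvable _ sol) ⟨coset_mem_quo (HC hb) hb,
      mem_centralizer_iff_le.2 (fittingOf_le_of_forall fun q hq _ => k q hq)⟩
    exact n ((coset_eq_one_iff (HC hb)).1 (h2.le (le_pCoreOf_of_le_fittingOf Nat.prime_two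
      (zpowers_le.2 m) (H83.isPGroup_zpowers (k := 1) (by
        rw [pow_one, sq, ← coset_mul (HC hb) (HC hb), coset_eq_one s.sq])) (mem_zpowers _))))
  have := Fact.mk pp
  obtain ⟨P, hP⟩ := H83.exists_isSylowIn p (X p)
  obtain ⟨k1, m1, AP⟩ := exists_sylow (nX p (mem_sup_right (mem_zpowers a))) hP
  have PH := hP.le.trans (XH p)
  have XP := hP.le_sup_of_pMod ((XH p).trans HC) (pX p pp)
  have op1 := op.mul (XH p m1)
  obtain ⟨N, hN⟩ := H83.exists_isSylowIn 2 (H ⊓ N[P])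
  obtain ⟨k2, m2, AN⟩ := exists_sylow (le_normalizer_inf (zpowers_le.2 op1.nrm)
    (le_normalizer_normalizer (zpowers_le.2 AP)) (mem_zpowers _)) hN
  have op2 := op1.mul m2.1
  have AR2 := mul_mem (HR m2.1) (mul_mem (HR (XH p m1)) aR)
  have AP2 := mul_mem m2.2 AP
  have NH := hN.le.trans inf_le_left
  obtain ⟨a', ha, x, hx, e⟩ := hP.frattini' (nX p (mem_sup_left hb))
  obtain ⟨y, hy, c, hc, rfl⟩ := (mem_sup_of_le_normalizer (PH.trans HC)).1 (sup_comm _ P ▸ XP hx)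
  have m : a' * y ∈ H ⊓ N[P] := ⟨mul_mem ((mul_mem_cancel_right (XH p hx)).1 (e ▸ hb)) (PH hy),
    mul_mem ha (le_normalizer hy)⟩
  obtain ⟨j, k, h3, h4⟩ := H83.exists_coprime_pow_pelt (p := 2) (a' * y)
  obtain ⟨j, rfl⟩ := Nat.coprime_two_right.1 h3
  have e' : a' * y = b * c⁻¹ := by rw [e]; group
  have s1 := e' ▸ small_congr s (inv_mem hc)
  have c1 : (a' * y) ^ (2 * j) ∈ C[R] := by rw [pow_mul, sq]; exact pow_mem s1.sq j
  have s2 := pow_succ' (a' * y) _ ▸ small_congr s1 c1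
  have m' := pow_mem m (2 * j + 1)
  obtain ⟨h, hh, h5⟩ := hN.exists_conj_le (zpowers_le.2 m') (H83.isPGroup_zpowers h4)
  refine hp (qX p ▸ (quo_mono _ XP).trans ((sup_quo_left (PH.trans HC)).trans_le fun z hz => ?_))
  obtain ⟨g, hg, gn, rfl⟩ := mem_quo.1 hz
  have := core' pp (fun e => hp (e ▸ h2 ▸ bot_le)) ea hP.isPGroup hN.isPGroup (op2.sub'
    (sup_le (sup_le le PH) NH) (le_normalizer_sup (le_normalizer_sup (zpowers_le.2 AR2)
      (zpowers_le.2 AP2)) (zpowers_le.2 AN) (mem_zpowers _))) AR2 AP2 AN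
    (NH.trans HR) (hN.le.trans inf_le_right) (PH.trans HR) (h5 (H83.conj_mem_cj (mem_zpowers _)))
    (small_conj s2 (HR hh.1)) (conj_mem_of_mem_normalizer hh.2 hg)
  rw [← conjugate_commutatorElement, ← (mem_normalizer_iff.1 (HC hh.1) _)] at this
  have e2 : coset C[R] ((a' * y) ^ (2 * j + 1)) = coset C[R] b := by
    rw [eq_comm, coset_eq_iff (HC hb) (HC m'.1), pow_succ', ← mul_assoc]
    exact mul_mem (by rw [e', inv_mul_cancel_left]; exact inv_mem hc) c1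
  rw [mem_centralizer_singleton_iff, ← e2, ← commutatorElement_eq_one_iff_mul_comm,
    ← coset_commutator gn (HC m'.1), coset_eq_one this]

theorem ns : ∀ (Γ : Type u) [Group Γ] [Finite Γ] (H : Subgroup Γ) (a : Γ) (R : Subgroup Γ),
    SP H a → Group.IsSolvable H → R ≤ H → IsElementaryAbelian 2 R → H ≤ N[R] → a ∈ N[R] →
    ∀ b ∈ H, Small R b → Rad H R b := by
  intro Γ _ _ H a R
  induction' hn : Nat.card R using Nat.strong_induction_on with n ih generalizing Γ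
  intro op sol le ea HR AR b hb s
  by_cases h0 : R = ⊥
  · exact ⟨H, hb, le_rfl, le_normalizer, .of_le (by rw [h0, centralizer_bot]; exact le_top)⟩
  by_cases hm : ∀ U ≤ R, H ⊔ zpowers a ≤ N[U] → U ≠ ⊥ → U = R
  · exact ⟨H ⊓ C[R], ⟨hb, irred op sol le ea HR AR h0 hm hb s⟩, inf_le_left,
      (inf_centralizer_normalIn HR).norm, .of_le inf_le_right⟩
  push Not at hm
  obtain ⟨U, lU, nU, ne, ne'⟩ := hm
  have HU := le_sup_left.trans nU
  have AU := nU (mem_sup_right (mem_zpowers a))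
  obtain ⟨K1, b1, l1, n1, m1⟩ := ih _ (hn ▸ card_lt_of_lt (lU.lt_of_ne ne')) Γ H a U rfl op sol
    (lU.trans le) ⟨isMulCommutative_of_le ea.1 lU, fun a ha => ea.2 a (lU ha)⟩ HU AU b hb
    (small_le s lU (HU hb))
  obtain ⟨K2, b2, -, n2, m2⟩ := ih _ (hn ▸ card_quo_lt ⟨lU, le.trans HU⟩ ne) _ (H /ᵍ U) (coset U a)
    (R /ᵍ U) rfl (op.quo AU) (quo_isSolvable _ sol)
    (quo_mono _ le) (quo_isElementaryAbelian _ ea) (quo_norms _ HR) (quo_norm _ _ (coset_mem_quo AU AR)) _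
    (coset_mem_quo (HU hb) hb) (small_quo s (le.trans HU) (HU hb))
  refine ⟨K1 ⊓ cosetpre U K2, ⟨b1, mem_cosetpre.2 ⟨HU hb, b2⟩⟩, inf_le_left.trans l1,
    le_normalizer_inf n1 (le_norm_cosetpre HU n2), fun d hd => ?_⟩
  obtain ⟨k, hk⟩ := m1 d hd.1
  obtain ⟨j, hj⟩ := m2 _ (mem_cosetpre.1 hd.2).2
  have dn := HU (l1 hd.1)
  refine ⟨k + j + 1, fun r hr => ?_⟩
  have h1 : d ^ 2 ^ (k + j) ∈ C[U] := by rw [pow_add, pow_mul]; exact pow_mem hk _
  have h2 : coset U (d ^ 2 ^ (k + j)) ∈ C[R /ᵍ U] := by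
    rw [coset_pow dn, add_comm, pow_add, pow_mul]; exact pow_mem hj _
  have h3 := pow_mem dn (2 ^ (k + j))
  rw [pow_succ, pow_mul, sq]
  generalize d ^ 2 ^ (k + j) = e at *
  have rn := HU (le hr)
  have h4 : (r * e)⁻¹ * (e * r) ∈ U := (coset_eq_iff (mul_mem rn h3) (mul_mem h3 rn)).1 (by
    rw [coset_mul rn h3, coset_mul h3 rn, h2 _ (coset_mem_quo rn hr)])
  have h5 := ea.2 _ (lU h4)
  have h6 := h1 _ h4
  generalize ht : (r * e)⁻¹ * (e * r) = t at *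
  have h7 : e * r = r * e * t := by rw [← ht, mul_inv_cancel_left]
  rw [mul_assoc e, h7, ← mul_assoc e, ← mul_assoc e, h7, mul_assoc _ t, h6, mul_assoc (r * e),
    mul_assoc e t, ← sq t, h5, mul_one, mul_assoc]

end Cfsg.Agent.H91.SPL
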