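import Cfsg.Agent.H1.SpD
import Cfsg.Agent.H38.MlExt

/-!
Project SP4, piece TX: the twisted version of the extension theorem of `H38.MlExt`.
-/

set_option autoImplicit false
set_option linter.unusedSectionVars false

namespace Cfsg.Agent.H91.SpTx

open Subgroup Cfsg.Agent.H38.MlExt
open scoped IsMulCommutative

universe u v

section
variable {S : Type u} {L : Type v} [Group S] [Group L] {X : Type v} [MulAction L X]

open Classical in
/-- The projection to the kernel. -/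
noncomputable def ck (θ : S →* L) (s : S) : θ.ker := if h : s ∈ θ.ker then ⟨s, h⟩ else 1

theorem ck_eq {θ : S →* L} {s : S} (h : s ∈ θ.ker) : ck θ s = ⟨s, h⟩ := dif_pos h

variable [Fintype X] {θ : S →* L} [IsMulCommutative θ.ker] (ρ : L →* MulAut θ.ker) {r : X → L}

/-- The twisted product of the coordinates. -/
noncomputable def nu (y : G1 θ r) : θ.ker := ∏ x, ρ (r x) (ck θ (y.1.left x))

theorem nu_mul {y z : G1 θ r} (hy : y.1.right = 1) (hz : z.1.right = 1) :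
    nu ρ (y * z) = nu ρ y * nu ρ z := by
  rw [nu, nu, nu, ← Finset.prod_mul_distrib]
  refine Finset.prod_congr rfl fun x _ => ?_
  rw [Subgroup.coe_mul, mul_left, hy, inv_one, one_smul, ck_eq (left_ker hy x),
    ck_eq (left_ker hz x), ck_eq (mul_mem (left_ker hy x) (left_ker hz x)), ← map_mul]
  rfl

theorem nu_one : nu ρ (1 : G1 θ r) = 1 := by
  refine Finset.prod_eq_one fun x _ => ?_
  have : ck θ ((1 : G1 θ r).1.left x) = 1 := ck_eq (one_mem _)
  rw [this, map_one]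

theorem nu_conj (hk : θ.ker ≤ center S) (hρ : ∀ s, ρ (θ s) = 1) {y : G1 θ r}
    (hy : y.1.right = 1) (z : G1 θ r) : nu ρ (z * y * z⁻¹) = ρ z.1.right (nu ρ y) := by
  rw [nu, nu, ← Equiv.prod_comp (MulAction.toPerm z.1.right⁻¹)
    (fun x => ρ (r x) (ck θ (y.1.left x))), map_prod]
  refine Finset.prod_congr rfl fun x _ => ?_
  have h1 : r x * θ (z.1.left x) = z.1.right * r (z.1.right⁻¹ • x) := by
    rw [z.2 x]; group
  have h2 : ρ (r x) = ρ z.1.right * ρ (r (z.1.right⁻¹ • x)) := by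
    rw [← map_mul, ← h1, map_mul, hρ, mul_one]
  rw [h2, MulAut.mul_apply, MulAction.toPerm_apply]
  congr 3
  rw [Subgroup.coe_mul, Subgroup.coe_mul, Subgroup.coe_inv, mul_left, mul_left, inv_left,
    SemidirectProduct.mul_right, hy, mul_one, smul_inv_smul,
    mem_center_iff.1 (hk (left_ker hy _)), mul_inv_cancel_right]

theorem right_conj {y : G1 θ r} (hy : y.1.right = 1) (z : G1 θ r) :
    (z * y * z⁻¹ : G1 θ r).1.right = 1 := by
  rw [Subgroup.coe_mul, Subgroup.coe_mul, Subgroup.coe_inv, SemidirectProduct.mul_right,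
    SemidirectProduct.mul_right, SemidirectProduct.inv_right, hy, mul_one, mul_inv_cancel]

/-- The elements of the base group with twisted product one. -/
def A0 (r : X → L) : Subgroup (G1 θ r) where
  carrier := {y | y.1.right = 1 ∧ nu ρ y = 1}
  one_mem' := ⟨rfl, nu_one ρ⟩
  mul_mem' {a b} ha hb := ⟨by rw [Subgroup.coe_mul, SemidirectProduct.mul_right, ha.1, hb.1,
    one_mul], by rw [nu_mul ρ ha.1 hb.1, ha.2, hb.2, one_mul]⟩
  inv_mem' {a} ha := by
    have h : (a⁻¹ : G1 θ r).1.right = 1 := by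
      rw [Subgroup.coe_inv, SemidirectProduct.inv_right, ha.1, inv_one]
    refine ⟨h, ?_⟩
    have := nu_mul ρ h ha.1
    rwa [inv_mul_cancel, nu_one, ha.2, mul_one, eq_comm] at this

theorem A0_normal (hk : θ.ker ≤ center S) (hρ : ∀ s, ρ (θ s) = 1) (r : X → L) :
    (A0 ρ r).Normal where
  conj_mem y hy z := ⟨right_conj hy.1 z, by rw [nu_conj ρ hk hρ hy.1, hy.2, map_one]⟩

theorem mk_eq {y z : G1 θ r} (hy : y.1.right = 1) (hz : z.1.right = 1) :
    (y : G1 θ r ⧸ A0 ρ r) = z ↔ nu ρ y = nu ρ z := by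
  have h : (y⁻¹ : G1 θ r).1.right = 1 := by
    rw [Subgroup.coe_inv, SemidirectProduct.inv_right, hy, inv_one]
  have h1 := nu_mul ρ h hy
  rw [inv_mul_cancel, nu_one, eq_comm, mul_eq_one_iff_eq_inv] at h1
  rw [QuotientGroup.eq]
  change ((y⁻¹ * z : G1 θ r).1.right = 1 ∧ nu ρ (y⁻¹ * z) = 1) ↔ _
  rw [nu_mul ρ h hz, h1, inv_mul_eq_one, Subgroup.coe_mul, SemidirectProduct.mul_right, h, hz,
    one_mul]
  simp

/-- The projection to `L` on the quotient. -/
def pi1 (r : X → L) [(A0 ρ r).Normal] : G1 θ r ⧸ A0 ρ r →* L :=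
  QuotientGroup.lift _ (pi0 θ r) fun _ h => h.1

theorem pi1_mk [(A0 ρ r).Normal] (y : G1 θ r) : pi1 ρ r y = y.1.right := rfl

end

theorem tx : H1.SP.TxStmt.{u} := by
  intro S L _ _ _ _ p _ hS θ hk hp ρ hρ hφ
  classical
  have : IsMulCommutative θ.ker :=
    ⟨⟨fun a b => Subtype.ext (mem_center_iff.1 (hk b.2) a)⟩⟩
  choose φ hφ1 hφ2 using hφ
  obtain ⟨g, u, hg, hu⟩ := exists_data θ
  have : Fintype (L ⧸ θ.range) := Fintype.ofFinite _
  let r : L ⧸ θ.range → L := fun x => θ (u x) * g x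
  have := A0_normal ρ hk hρ r
  have hr : ∀ (l : L) x, (r x)⁻¹ * l * r (l⁻¹ • x) ∈ θ.range := by
    intro l x
    rw [mul_assoc, ← QuotientGroup.eq, ← smul_eq_mul, ← MulAction.Quotient.smul_mk]
    simp only [r, hu, smul_inv_smul]
  have hw : ∀ (s : S) x, (g x)⁻¹ * θ ((u x)⁻¹ * s * u ((θ s)⁻¹ • x)) * (g x)⁻¹⁻¹ =
      (r x)⁻¹ * θ s * r ((θ s)⁻¹ • x) := by
    intro s x
    simp only [r]
    rw [← map_inv θ s, hg, map_mul, map_mul, map_inv]
    group
  have hw' : ∀ (s : S) x, (g x)⁻¹ * θ ((u x)⁻¹ * s * u ((θ s)⁻¹ • x)) * (g x)⁻¹⁻¹ ∈ θ.range :=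
    fun s x => (hw s x).symm ▸ hr (θ s) x
  let i0 : S → G1 θ r := fun s =>
    ⟨⟨fun x => φ (g x)⁻¹ ((u x)⁻¹ * s * u ((θ s)⁻¹ • x)), θ s⟩, fun x =>
      ((hφ2 _ _ (hw' s x)).1).trans (hw s x)⟩
  have hi0 : ∀ s t, i0 (s * t) = i0 s * i0 t := by
    intro s t
    refine Subtype.ext (SemidirectProduct.ext (funext fun x => ?_) (map_mul θ s t))
    change φ (g x)⁻¹ ((u x)⁻¹ * (s * t) * u ((θ (s * t))⁻¹ • x)) =
      φ (g x)⁻¹ ((u x)⁻¹ * s * u ((θ s)⁻¹ • x)) *
        φ (g ((θ s)⁻¹ • x))⁻¹ ((u ((θ s)⁻¹ • x))⁻¹ * t * u ((θ t)⁻¹ • (θ s)⁻¹ • x))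
    have h := hw' t ((θ s)⁻¹ • x)
    have e : g ((θ s)⁻¹ • x) = g x := by rw [← map_inv θ s, hg]
    rw [e] at h ⊢
    rw [← (hφ2 _ _ (hw' s x)).2 _ h, map_mul, mul_inv_rev, mul_smul]
    congr 1
    group
  let i1 : S →* G1 θ r := MonoidHom.mk' i0 hi0
  have hnu : ∀ a : θ.ker, nu ρ (i0 a) = a ^ θ.range.index := by
    intro a
    rw [Subgroup.index, Nat.card_eq_fintype_card, ← Finset.card_univ, ← Finset.prod_const]
    refine Finset.prod_congr rfl fun x _ => ?_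
    change ρ (θ (u x) * g x) (ck θ (φ (g x)⁻¹ ((u x)⁻¹ * a * u ((θ a)⁻¹ • x)))) = _
    rw [MonoidHom.mem_ker.1 a.2, inv_one, one_smul, mul_assoc, ← mem_center_iff.1 (hk a.2),
      inv_mul_cancel_left, hφ1, ck_eq (SetLike.coe_mem _), map_mul, hρ, one_mul, Subtype.coe_eta,
      ← MulAut.mul_apply, ← map_mul, mul_inv_cancel, map_one, MulAut.one_apply]
  have hcop : (Nat.card S).Coprime θ.range.index := by
    obtain ⟨n, hn⟩ := IsPGroup.iff_card.1 hS
    rw [hn]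
    exact Nat.Coprime.pow_left _ ((Nat.Prime.coprime_iff_not_dvd Fact.out).2 hp)
  have hc : (Nat.card θ.ker).Coprime θ.range.index :=
    Nat.Coprime.coprime_dvd_left (card_subgroup_dvd_card _) hcop
  have hfin : Finite (W S L (L ⧸ θ.range)) :=
    Finite.of_equiv _ SemidirectProduct.equivProd.symm
  refine ⟨G1 θ r ⧸ A0 ρ r, inferInstance, inferInstance, pi1 ρ r,
    (QuotientGroup.mk' _).comp i1, fun l => ?_, ?_, fun s => rfl, ?_, ?_⟩
  · choose n hn using hr l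
    exact ⟨((⟨⟨n, l⟩, hn⟩ : G1 θ r) : G1 θ r ⧸ A0 ρ r), rfl⟩
  · rw [injective_iff_map_eq_one]
    intro a ha
    have h : i0 a ∈ A0 ρ r := (QuotientGroup.eq_one_iff _).1 ha
    have h1 : a ∈ θ.ker := h.1
    have h2 := (hnu ⟨a, h1⟩).symm.trans h.2
    exact congrArg Subtype.val ((powCoprime hc).injective (h2.trans (one_pow _).symm))
  · ext y
    obtain ⟨y, rfl⟩ := QuotientGroup.mk_surjective y
    rw [MonoidHom.mem_ker, pi1_mk]
    constructor
    · intro hy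
      obtain ⟨a, ha⟩ := (powCoprime hc).surjective (nu ρ y)
      refine ⟨a, a.2, ?_⟩
      change ((i0 a : G1 θ r) : G1 θ r ⧸ A0 ρ r) = y
      rw [mk_eq ρ (y := i0 a) a.2 hy, hnu a]
      exact ha
    · rintro ⟨a, ha, e⟩
      have := congrArg (pi1 ρ r) e
      rw [pi1_mk] at this
      rw [← this]
      exact ha
  · intro z a
    obtain ⟨z, rfl⟩ := QuotientGroup.mk_surjective z
    change (z : G1 θ r ⧸ A0 ρ r) * (i0 a : G1 θ r) * (z : G1 θ r ⧸ A0 ρ r)⁻¹ =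
      (i0 (ρ z.1.right a) : G1 θ r)
    rw [← QuotientGroup.mk_inv, ← QuotientGroup.mk_mul, ← QuotientGroup.mk_mul,
      mk_eq ρ (right_conj (y := i0 a) a.2 z) (z := i0 (ρ z.1.right a)) (ρ z.1.right a).2,
      nu_conj ρ hk hρ (y := i0 a) a.2, hnu, hnu, map_pow]

end Cfsg.Agent.H91.SpTx
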