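import Cfsg.Agent.H7.T3Cx
import Cfsg.Agent.H62.T3Ba1

/-! Project T3, piece PANEL: a panel opposite a whole ordinary polygon. -/

set_option autoImplicit false
set_option linter.unusedSectionVars false

namespace Cfsg.Agent.H91.T3Panel

open Cfsg.Agent.H35 Cfsg.Agent.Lead.T3 Cfsg.Agent.H7.T3Cx Cfsg.Agent.H62.T3B

universe u

variable {I W : Type} [Group W] {X : Cox I W} {C : Type u} (B : Bld X C)

/-- the third chamber of a panel -/
theorem third {i : I} {x y : C} (h : B.δ x y = X.s i) :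
    ∃ z, B.δ x z = X.s i ∧ B.δ y z = X.s i := by
  obtain ⟨a, b, n, h1, h2⟩ := B.thick i x
  by_cases e : y = a
  · exact ⟨b, h2, adj_of_ne B h h2 (e ▸ n)⟩
  · exact ⟨a, h1, adj_of_ne B h h1 e⟩

theorem up {k : I} {x y z : C} {u : W} (h : B.δ x y = X.s k) (e : B.δ y z = u)
    (l : X.len u ≤ X.len (X.s k * u)) : B.δ x z = X.s k * u :=
  e ▸ B.step_up k x y z h (e ▸ l)

variable [Finite W] {σ : W → C} {i j : I}

theorem two (hσ : B.Apt σ) (m : X.m i j = 2) : ∃ e ∈ B.res {i, j} (σ 1), ∀ w ∈ X.WJ {i, j},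
    B.δ (σ w) e = X.wJ {i, j} ∨ B.δ (σ w) e = X.wJ {i, j} * X.s j := by
  have br := wp_altw_m X i j
  have hw := wJ_pair X i j
  have l2 := len_altw X (i := j) (j := i) (n := 2) (by rw [m_symm, m])
  have l1 := len_s X i
  rw [m] at br hw
  simp only [InvGen.altw, InvGen.wp_cons, InvGen.wp_nil, mul_one] at br hw l2
  obtain ⟨e, e1, e2⟩ := third B (x := σ 1) (y := σ (X.s i)) (i := i) (by rw [hσ]; simp)
  have v1 : B.δ (σ (X.s j)) e = X.s j * X.s i := up B (by rw [hσ]; simp) e1 (by omega)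
  have v2 : B.δ (σ (X.s i * X.s j)) e = X.s j * X.s i := up B (by rw [hσ]; simp) e2 (by omega)
  refine ⟨e, show _ ∈ X.WJ _ from e1 ▸ s_mem X (by simp), fun w hw' => ?_⟩
  obtain ⟨n, hn, h⟩ := exists_altw X hw'
  rw [m] at hn
  rw [hw, InvGen.s_mul_s_cancel_right]
  interval_cases n <;> simp only [InvGen.altw, InvGen.wp_cons, InvGen.wp_nil, mul_one] at h <;>
    rcases h with rfl | rfl
  exacts [.inr e1, .inr e1, .inr e2, .inl (v1.trans br.symm), .inl (v2.trans br.symm),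
    .inl (br ▸ v2.trans br.symm)]

theorem three (hσ : B.Apt σ) (m : X.m i j = 3) : ∃ e ∈ B.res {i, j} (σ 1), ∀ w ∈ X.WJ {i, j},
    B.δ (σ w) e = X.wJ {i, j} ∨ B.δ (σ w) e = X.wJ {i, j} * X.s j := by
  have br := wp_altw_m X i j
  have hw := wJ_pair X i j
  have l2 := len_altw X (i := j) (j := i) (n := 2) (by rw [m_symm, m]; decide)
  have l3 := len_altw X (i := i) (j := j) (n := 3) (by rw [m])
  have l1 := len_s X i
  rw [m] at br hw
  simp only [InvGen.altw, InvGen.wp_cons, InvGen.wp_nil, mul_one] at br hw l2 l3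
  obtain ⟨a, a1, a2⟩ := third B (x := σ 1) (y := σ (X.s i)) (i := i) (by rw [hσ]; simp)
  have h1 : B.δ a (σ (X.s i * (X.s j * X.s i))) = X.s j * (X.s i * X.s j) :=
    (up B (adj_symm B a2) (u := X.s j * X.s i) (by rw [hσ]; simp) (by omega)).trans br
  obtain ⟨b, b1, b2⟩ := first B h1
  obtain ⟨c, c1, c2⟩ := first B b2
  obtain ⟨e, e1, e2⟩ := third B c1
  have n : σ (X.s j * X.s i) ≠ c := fun h => by
    have p := up B b1 c1 (by omega)
    rw [← h, up B (adj_symm B a1) (u := X.s j * X.s i) (by rw [hσ]; simp) (by omega)] at p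
    rw [p] at l3
    omega
  have c3 : B.δ (σ (X.s j * X.s i)) c = X.s j :=
    adj_of_ne B (by rw [hσ, br]; simp [mul_assoc, X.s_mul_s]) (adj_symm B c2) n
  have ae := up B b1 e1 (by omega)
  have v1 := up B a1 ae (by omega)
  have v2 := up B a2 ae (by omega)
  have v3 := up B (adj_symm B c2) e2 (by omega)
  have v4 := up B c3 e2 (by omega)
  have v5 : B.δ (σ (X.s j)) e = _ := up B (k := i) (by rw [hσ]; simp) v4 (by omega)
  have v6 : B.δ (σ (X.s i * X.s j)) e = _ :=
    up B (k := i) (by rw [hσ]; simp [mul_assoc, X.s_mul_s]) v3 (by omega)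
  refine ⟨e, show _ ∈ X.WJ _ from v1 ▸ mul_mem (s_mem X (by simp))
    (mul_mem (s_mem X (by simp)) (s_mem X (by simp))), fun w hw' => ?_⟩
  obtain ⟨n, hn, h⟩ := exists_altw X hw'
  rw [m] at hn
  rw [hw, show X.s i * (X.s j * X.s i) * X.s j = X.s j * X.s i by rw [br]; simp [mul_assoc, X.s_mul_s]]
  interval_cases n <;> simp only [InvGen.altw, InvGen.wp_cons, InvGen.wp_nil, mul_one] at h <;>
    rcases h with rfl | rfl
  exacts [.inl v1, .inl v1, .inl v2, .inl v5, .inl v6, .inr v4, .inr v3, .inr (br ▸ v3)]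

theorem four (hσ : B.Apt σ) (m : X.m i j = 4) : ∃ e ∈ B.res {i, j} (σ 1), ∀ w ∈ X.WJ {i, j},
    B.δ (σ w) e = X.wJ {i, j} ∨ B.δ (σ w) e = X.wJ {i, j} * X.s j := by
  have br := wp_altw_m X i j
  have hw := wJ_pair X i j
  have l2 := len_altw X (i := j) (j := i) (n := 2) (by rw [m_symm, m]; decide)
  have l2' := len_altw X (i := i) (j := j) (n := 2) (by rw [m]; decide)
  have l3 := len_altw X (i := i) (j := j) (n := 3) (by rw [m]; decide)
  have l3' := len_altw X (i := j) (j := i) (n := 3) (by rw [m_symm, m]; decide)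
  have l4 := len_altw X (i := i) (j := j) (n := 4) (by rw [m])
  have l4' := len_altw X (i := j) (j := i) (n := 4) (by rw [m_symm, m])
  have l1 := len_s X i
  have l1' := len_s X j
  rw [m] at br hw
  simp only [InvGen.altw, InvGen.wp_cons, InvGen.wp_nil, mul_one] at br hw l2 l2' l3 l3' l4 l4'
  obtain ⟨a, a1, a2⟩ := third B (x := σ 1) (y := σ (X.s i)) (i := i) (by rw [hσ]; simp)
  have h1 : B.δ a (σ (X.s i * (X.s j * (X.s i * X.s j)))) = X.s j * (X.s i * (X.s j * X.s i)) :=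
    (up B (adj_symm B a2) (u := X.s j * (X.s i * X.s j)) (by rw [hσ]; simp) (by omega)).trans br
  obtain ⟨b, b1, b2⟩ := first B h1
  obtain ⟨c, c1, c2⟩ := first B b2
  obtain ⟨d, d1, d2⟩ := first B c2
  obtain ⟨e, e1, e2⟩ := third B c1
  have n : σ (X.s j * (X.s i * X.s j)) ≠ d := fun h => by
    have p := up B b1 (up B c1 d1 (by omega)) (by omega)
    rw [← h, up B (adj_symm B a1) (u := X.s j * (X.s i * X.s j)) (by rw [hσ]; simp)
      (by omega)] at p
    rw [p] at l4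
    omega
  have d3 : B.δ (σ (X.s j * (X.s i * X.s j))) d = X.s i :=
    adj_of_ne B (by rw [hσ, br]; simp [mul_assoc, X.s_mul_s]) (adj_symm B d2) n
  have ae := up B b1 e1 (by omega)
  have de := up B (adj_symm B d1) e2 (by omega)
  have v1 := up B a1 ae (by omega)
  have v2 := up B a2 ae (by omega)
  have v3 := up B (adj_symm B d2) de (by omega)
  have v4 := up B d3 de (by omega)
  have v5 : B.δ (σ (X.s j)) e = _ := (up B (k := j) (by rw [hσ]; simp) v1 (by omega)).trans br.symm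
  have v6 : B.δ (σ (X.s i * X.s j)) e = _ :=
    (up B (k := j) (by rw [hσ]; simp) v2 (by omega)).trans br.symm
  have v7 : B.δ (σ (X.s i * (X.s j * X.s i))) e = _ :=
    (up B (k := j) (by rw [hσ]; simp [mul_assoc, X.s_mul_s]) v3 (by omega)).trans br.symm
  have v8 : B.δ (σ (X.s j * X.s i)) e = _ :=
    (up B (k := j) (by rw [hσ]; simp [mul_assoc, X.s_mul_s]) v4 (by omega)).trans br.symm
  refine ⟨e, show _ ∈ X.WJ _ from v1 ▸ mul_mem (s_mem X (by simp))
    (mul_mem (s_mem X (by simp)) (s_mem X (by simp))), fun w hw' => ?_⟩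
  obtain ⟨n, hn, h⟩ := exists_altw X hw'
  rw [m] at hn
  rw [hw, show X.s i * (X.s j * (X.s i * X.s j)) * X.s j = X.s i * (X.s j * X.s i) by
    simp [mul_assoc, X.s_mul_s]]
  interval_cases n <;> simp only [InvGen.altw, InvGen.wp_cons, InvGen.wp_nil, mul_one] at h <;>
    rcases h with rfl | rfl
  exacts [.inr v1, .inr v1, .inr v2, .inl v5, .inl v6, .inl v8, .inl v7, .inr v4, .inr v3,
    .inr (br ▸ v3)]

theorem panelStmt : PanelStmt.{u} := by
  intro I W _ _ X C _ B σ i j hσ _ h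
  obtain ⟨e, h1, h2⟩ := h.elim (two B hσ) fun h => h.elim (three B hσ) (four B hσ)
  exact ⟨e, h1, j, .inr rfl, h2⟩

end Cfsg.Agent.H91.T3Panel
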