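import Cfsg.Agent.H97.U4Fin

/-!
# The five automizers over the field with nine elements
-/

set_option autoImplicit false
set_option maxRecDepth 100000
set_option exponentiation.threshold 10000

namespace Cfsg.Agent.H91.U4G3

open Cfsg.Agent.H97 Cfsg.Agent.H97.U4 Cfsg.Agent.H28 Subgroup

/-- The code of a vector. -/
def enc (w : W F9) : ℕ := w.1.re.val + 3 * w.1.im.val + 9 * (w.2.re.val + 3 * w.2.im.val)

/-- The vector of a code. -/
def dec (v : ℕ) : W F9 := (⟨(v : ℕ), (v / 3 : ℕ)⟩, ⟨(v / 9 : ℕ), (v / 27 : ℕ)⟩)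

theorem enc_spec : ∀ w, enc w < 81 ∧ dec (enc w) = w := by decide +kernel

theorem enc_inj {w w' : W F9} (h : enc w = enc w') : w = w' := by
  rw [← (enc_spec w).2, h, (enc_spec w').2]

theorem enc_D : ∀ y : F9, ∃ x < 9, enc (0, y) = 9 * x := by decide +kernel

theorem enc_D' : ∀ x < 9, ∃ y : F9, enc (0, y) = 9 * x := by decide +kernel

/-- Table lookup. -/
def tab (B a v : ℕ) : ℕ := (B >>> (7 * (81 * a + v))) % 128

/-- Evaluation of a word on codes. -/
def ec (B : ℕ) (w : List ℕ) (v : ℕ) : ℕ := w.foldr (tab B) v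

/-- The generators as maps. -/
def gf (k : Fin 5) (a : ℕ) (x : W F9) : W F9 :=
  if a = 0 then (x.1, x.2 - ⟨0, 1⟩ * x.1) else if a = 1 then sg k x else
    (⟨1, 1⟩ ^ ((Lg k).getD (a - 2) (0, 0, false)).1 * ⟨2, 1⟩ ^ ((Lg k).getD (a - 2) (0, 0, false)).2.1 *
      s9 ((Lg k).getD (a - 2) (0, 0, false)).2.2 x.1,
    ⟨1, 1⟩ ^ ((Lg k).getD (a - 2) (0, 0, false)).1 *
      star (⟨1, 1⟩ ^ ((Lg k).getD (a - 2) (0, 0, false)).2.1) *
      s9 ((Lg k).getD (a - 2) (0, 0, false)).2.2 x.2)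

/-- The signature of a word. -/
def sig (B : ℕ) (w : List ℕ) : ℕ := ec B w 1 + 81 * (ec B w 3 + 81 * (ec B w 9 + 81 * ec B w 27))

/-- The stabilizer of the fixed space. -/
def N0 : Subgroup (Equiv.Perm (W F9)) where
  carrier := {g | ∀ x, (g (0, x)).1 = 0}
  one_mem' := fun _ => rfl
  mul_mem' {a b} ha hb x := by
    rw [Equiv.Perm.mul_apply, show b (0, x) = (0, (b (0, x)).2) from Prod.ext (hb x) rfl, ha]
  inv_mem' {a} ha y := by
    obtain ⟨x, e⟩ := Finite.injective_iff_surjective.1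
      (show Function.Injective fun x => (a (0, x)).2 from fun x x' e =>
        congrArg Prod.snd (a.injective (Prod.ext ((ha x).trans (ha x').symm) e))) y
    rw [show ((0, y) : W F9) = a (0, x) from Prod.ext (ha x).symm e.symm,
      Equiv.Perm.coe_inv, Equiv.symm_apply_apply]

/-- The elements induced by the normalizer of the Sylow subgroup. -/
def R (k : Fin 5) : Submonoid (Equiv.Perm (W F9)) where
  carrier := {g | g ∈ N0 ∧ ∃ s : U T9, ∃ l ∈ L3 k, (∀ x ∈ Q T9, l x ∈ Q T9) ∧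
    ∀ x ∈ Q T9, g (wv x) = wv (s * l x * s⁻¹)}
  one_mem' := ⟨one_mem _, 1, 1, one_mem _, fun _ h => h, fun x _ => by simp⟩
  mul_mem' := by
    rintro a b ⟨a0, s, l, a1, a2, a3⟩ ⟨b0, s', l', b1, b2, b3⟩
    refine ⟨mul_mem a0 b0, s * l s', l * l', mul_mem a1 b1, fun x hx => a2 _ (b2 x hx),
      fun x hx => ?_⟩
    rw [Equiv.Perm.mul_apply, b3 x hx, a3 _ ((nQ (T := T9)).conj_mem _ (b2 x hx) s')]
    simp [mul_assoc]

theorem w9_R {k : Fin 5} {c : ℕ × ℕ × Bool} (hc : c ∈ Lg k) : w9 c ∈ R k := by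
  refine ⟨fun x => ?_, 1, l9 c, subset_closure ⟨c, hc, rfl⟩, fun x hx => ?_, fun x _ => ?_⟩
  · rw [w9, lamW_apply, map_zero, mul_zero]
  · rw [mem_Q, l9, MulAut.mul_apply, tor_d, fld_d, show x.d = 0 from hx, map_zero, mul_zero]
  · rw [one_mul, inv_one, mul_one, l9, wv_lam, w9]

theorem uW_R (k : Fin 5) (b : F9) (hb : b + T9.σ b = 0) : uW b ∈ R k := by
  refine ⟨fun _ => rfl, xd T9 b hb, 1, one_mem _, fun _ h => h, fun x hx => ?_⟩
  rw [MulAut.one_apply, wv_conj _ hx]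
  rfl

theorem card_ge {G : Type*} [Group G] [Finite G] (H N : Subgroup G) (n m : ℕ) (t s : ℕ → G)
    (ht : ∀ j < n, t j ∈ H) (hs : ∀ i < m, s i ∈ H ∧ s i ∈ N)
    (h1 : ∀ j < n, ∀ j' < n, (t j')⁻¹ * t j ∈ N → j = j')
    (h2 : ∀ i < m, ∀ i' < m, s i = s i' → i = i') : n * m ≤ Nat.card H := by
  have := Nat.card_le_card_of_injective (fun p : Fin n × Fin m =>
    (⟨t p.1 * s p.2, mul_mem (ht _ p.1.2) (hs _ p.2.2).1⟩ : H)) fun p q e => by
      have e' : t p.1 * s p.2 = t q.1 * s q.2 := congrArg Subtype.val e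
      have e1 := h1 _ p.1.2 _ q.1.2 (by
        rw [show (t q.1)⁻¹ * t p.1 = s q.2 * (s p.2)⁻¹ by
          rw [inv_mul_eq_iff_eq_mul, ← mul_assoc, ← e', mul_inv_cancel_right]]
        exact mul_mem (hs _ q.2.2).2 (inv_mem (hs _ p.2.2).2))
      rw [e1] at e'
      exact Prod.ext (Fin.ext e1) (Fin.ext (h2 _ p.2.2 _ q.2.2 (mul_left_cancel e')))
  simpa using this

theorem skew : ∀ b : F9, b + T9.σ b = 0 → b = 0 ∨ b = ⟨0, 1⟩ ∨ b = ⟨0, 1⟩ + ⟨0, 1⟩ := by decide

theorem main (k : Fin 5) (B C n m : ℕ) (tw mw : List (List ℕ))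
    (c0 : ∀ a < (Lg k).length + 2, ∀ w, enc (gf k a w) = tab B a (enc w))
    (c1 : ∀ v < 81, ∀ v' < 81, tab B 1 v = tab B 1 v' → v = v')
    (c2 : (∀ j < n, ∀ a ∈ tw.getD j [], a < (Lg k).length + 2) ∧
      ∀ i < m, ∀ a ∈ mw.getD i [], a < (Lg k).length + 2 ∧ a ≠ 1)
    (c3 : ∀ a < (Lg k).length + 2, ∀ j < n, (C >>> (16 * (n * a + j))) % 64 < n ∧
      (C >>> (16 * (n * a + j) + 6)) % 128 < m ∧ ∀ v < 81, tab B a (ec B (tw.getD j []) v) =
        ec B (tw.getD ((C >>> (16 * (n * a + j))) % 64) [])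
          (ec B (mw.getD ((C >>> (16 * (n * a + j) + 6)) % 128) []) v))
    (c4 : 0 < n ∧ tw.getD 0 [] = [] ∧ 2 * M3 k ≤ 243 * (n * m))
    (c5 : ∀ j < n, ∀ j' < n, (∀ x < 9, ∃ y < 9,
      ec B (tw.getD j []) (9 * x) = ec B (tw.getD j' []) (9 * y)) → j = j')
    (c6 : ∀ i < m, i + 1 < m → sig B (mw.getD i []) < sig B (mw.getD (i + 1) [])) : G3Stmt k := by
  have l1 : 1 < (Lg k).length + 2 := by omega
  let σ : Equiv.Perm (W F9) := Equiv.ofBijective (sg k) (Finite.injective_iff_bijective.1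
    fun w w' e => enc_inj (c1 _ (enc_spec w).1 _ (enc_spec w').1 (by
      rw [← c0 1 l1, ← c0 1 l1]; exact congrArg enc e)))
  let gp : ℕ → Equiv.Perm (W F9) := fun a =>
    if a = 0 then uW ⟨0, 1⟩ else if a = 1 then σ else w9 ((Lg k).getD (a - 2) (0, 0, false))
  have g1 : ∀ a w, gp a w = gf k a w := fun a w => by
    simp only [gp, gf]
    split_ifs
    exacts [rfl, rfl, w9_apply _ _]
  have g2 : ∀ a < (Lg k).length + 2, a ≠ 0 → a ≠ 1 → (Lg k).getD (a - 2) (0, 0, false) ∈ Lg k :=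
    fun a h h0 h1 => by
      rw [List.getD_eq_getElem _ _ (by omega)]; exact List.getElem_mem _
  have g3 : ∀ a < (Lg k).length + 2, gp a ∈ G3 k := fun a h => by
    simp only [gp]
    split_ifs with h0 h1
    · exact mem_sup_left ⟨_, by decide, rfl⟩
    · exact mem_sup_right (subset_closure (Or.inr fun _ => rfl))
    · exact mem_sup_right (subset_closure (Or.inl ⟨_, g2 a h h0 h1, rfl⟩))
  have g4 : ∀ a < (Lg k).length + 2, a ≠ 1 → gp a ∈ R k := fun a h h1 => by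
    simp only [gp, if_neg h1]
    split_ifs with h0
    · exact uW_R k _ (by decide)
    · exact w9_R (g2 a h h0 h1)
  let ew : List ℕ → Equiv.Perm (W F9) := fun w => (w.map gp).prod
  have e1 : ∀ w : List ℕ, (∀ a ∈ w, a < (Lg k).length + 2) → ∀ x, enc (ew w x) = ec B w (enc x) :=
    fun w => by
      induction w with
      | nil => exact fun _ _ => rfl
      | cons a w ih =>
        intro h x
        change enc (gp a (ew w x)) = tab B a (ec B w (enc x))
        rw [g1, c0 a (h a (by simp)), ih fun b hb => h b (by simp [hb])]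
  have e2 : ∀ w : List ℕ, (∀ a ∈ w, a < (Lg k).length + 2) → ew w ∈ G3 k := fun w h =>
    list_prod_mem (by
      intro g hg
      obtain ⟨a, ha, rfl⟩ := List.mem_map.1 hg
      exact g3 a (h a ha))
  have e3 : ∀ i < m, ew (mw.getD i []) ∈ R k := fun i hi => list_prod_mem (by
    intro g hg
    obtain ⟨a, ha, rfl⟩ := List.mem_map.1 hg
    exact g4 a (c2.2 i hi a ha).1 (c2.2 i hi a ha).2)
  have e4 : ∀ j < n, ∀ j' < n, (ew (tw.getD j' []))⁻¹ * ew (tw.getD j []) ∈ N0 → j = j' :=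
    fun j hj j' hj' h => c5 j hj j' hj' fun x hx => by
      obtain ⟨y, e⟩ := enc_D' x hx
      obtain ⟨z, hz, e'⟩ := enc_D (((ew (tw.getD j' []))⁻¹ * ew (tw.getD j [])) (0, y)).2
      refine ⟨z, hz, ?_⟩
      have e'' : ((0, (((ew (tw.getD j' []))⁻¹ * ew (tw.getD j [])) (0, y)).2) : W F9) =
          ((ew (tw.getD j' []))⁻¹ * ew (tw.getD j [])) (0, y) := Prod.ext (h y).symm rfl
      rw [← e, ← e', ← e1 _ (c2.1 j hj), ← e1 _ (c2.1 j' hj'), e'',
        Equiv.Perm.mul_apply, Equiv.Perm.coe_inv, Equiv.apply_symm_apply]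
  refine ⟨c4.2.2.trans (Nat.mul_le_mul_left _ (card_ge _ N0 n m (fun j => ew (tw.getD j []))
    (fun i => ew (mw.getD i [])) (fun j hj => e2 _ (c2.1 j hj))
    (fun i hi => ⟨e2 _ fun a ha => (c2.2 i hi a ha).1, (e3 i hi).1⟩) e4 fun i hi i' hi' e => ?_)),
    fun g hg hN => ?_⟩
  · have mono : ∀ d i, i + d + 1 < m → sig B (mw.getD i []) < sig B (mw.getD (i + d + 1) []) :=
      fun d => by
        induction d with
        | zero => exact fun i h => c6 i (by omega) h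
        | succ d ih => exact fun i h => (ih i (by omega)).trans (c6 _ (by omega) h)
    have s1 : sig B (mw.getD i []) = sig B (mw.getD i' []) := by
      have k1 : ∀ v < 81, v = enc (dec v) := by decide +kernel
      have k2 : ∀ v < 81, ec B (mw.getD i []) v = ec B (mw.getD i' []) v := fun v hv => by
        rw [k1 v hv, ← e1 _ fun a ha => (c2.2 i hi a ha).1, ← e1 _ fun a ha => (c2.2 i' hi' a ha).1]
        exact congrArg (fun g : Equiv.Perm (W F9) => enc (g (dec v))) e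
      rw [sig, sig, k2 1 (by decide), k2 3 (by decide), k2 9 (by decide), k2 27 (by decide)]
    rcases lt_trichotomy i i' with h | h | h
    · obtain ⟨d, rfl⟩ := Nat.exists_eq_add_of_lt h
      exact absurd s1 (mono d i hi').ne
    · exact h
    · obtain ⟨d, rfl⟩ := Nat.exists_eq_add_of_lt h
      exact absurd s1 (mono d i' hi).ne'
  let M : Submonoid (Equiv.Perm (W F9)) :=
    { carrier := {g | ∀ s, (∃ j < n, ∃ r ∈ R k, s = ew (tw.getD j []) * r) →
        ∃ j < n, ∃ r ∈ R k, g * s = ew (tw.getD j []) * r}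
      one_mem' := fun s h => by rwa [one_mul]
      mul_mem' := fun {a b} ha hb s h => by rw [mul_assoc]; exact ha _ (hb s h) }
  let H : Subgroup (Equiv.Perm (W F9)) :=
    { M with
      inv_mem' := fun {a} ha => by
        have : a⁻¹ = a ^ (orderOf a - 1) := inv_eq_of_mul_eq_one_right (by
          rw [← pow_succ', Nat.sub_add_cancel (orderOf_pos a), pow_orderOf_eq_one])
        rw [this]
        exact M.pow_mem ha _ }
  have m1 : ∀ a < (Lg k).length + 2, gp a ∈ H := by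
    rintro a ha _ ⟨j, hj, r, hr, rfl⟩
    obtain ⟨d1, d2, d3⟩ := c3 a ha j hj
    refine ⟨_, d1, _, mul_mem (e3 _ d2) hr, ?_⟩
    rw [← mul_assoc, ← mul_assoc]
    congr 1
    refine Equiv.ext fun x => enc_inj ?_
    rw [Equiv.Perm.mul_apply, Equiv.Perm.mul_apply, g1, c0 a ha, e1 _ (c2.1 j hj), e1 _ (c2.1 _ d1),
      e1 _ fun a ha => (c2.2 _ d2 a ha).1, d3 _ (enc_spec x).1]
  have m2 : G3 k ≤ H := sup_le (by
    have u : uW (⟨0, 1⟩ : F9) ∈ H := m1 0 (by omega)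
    rintro _ ⟨b, hb, rfl⟩
    rcases skew b hb with rfl | rfl | rfl
    · rw [uW_zero]; exact one_mem _
    · exact u
    · rw [← uW_mul]; exact mul_mem u u) ((closure_le _).2 (by
    rintro g (⟨c, hc, rfl⟩ | h)
    · obtain ⟨r, hr, rfl⟩ := List.getElem_of_mem hc
      have := m1 (r + 2) (by omega)
      simp only [gp, if_neg (show r + 2 ≠ 0 by omega), if_neg (show r + 2 ≠ 1 by omega),
        Nat.add_sub_cancel, List.getD_eq_getElem _ _ hr] at this
      exact this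
    · rw [show g = gp 1 from Equiv.ext h]
      exact m1 1 l1))
  obtain ⟨j, hj, r, hr, e⟩ := m2 hg 1 ⟨0, c4.1, 1, one_mem _, by rw [c4.2.1]; rfl⟩
  rw [mul_one] at e
  have e0 : ew (tw.getD 0 []) = 1 := by rw [c4.2.1]; rfl
  obtain rfl := e4 j hj 0 c4.1 (by
    rw [e0, inv_one, one_mul, ← mul_inv_eq_iff_eq_mul.2 e]
    exact mul_mem (fun x => nor_AW T9 hN x) (inv_mem hr.1))
  rw [e0, one_mul] at e
  obtain ⟨-, s, l, h1, -, h2⟩ := hr
  exact ⟨s, l, h1, e ▸ h2⟩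

theorem g3_0 : G3Stmt 0 := main 0 (nat_lit 0x163080f143869112e1cbd78dddba7cd97b068cd73262d569d3c8909c407d19b2854c98265cb1a25061468b022438efe54b9f3a4cd99424264ead52552a1624040c386021420800d18ae6ac97b360b67cc93426ca9d2e4192c4cd172860a9256a12ac5299527491a1c08f120c584fc80d144470b1e304a23e711a03a84f1b7ae9bbe76e1e396c1c201101410606027509f2e6cc912a4c4870a0c07f1e3456ed9c3d78f9d3976bd72d6ad19b262c15aa58a13a94a9131e407cd9d38851a22c54b932450c98342458a1e4480c1c344070c142030404011571429f72517481089e17632c5a57e69a4e1ca210238da39054ec21e944d6be0e866966104524a0659c41a9dc0136b230f40e81af92491bd0cca6154d004b59e614c31875b80)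
  (nat_lit 0x8903c4014703c2008501880481018604830480048900c6000500c800070002000300040001000001c901440048008201060187018001850183018102470483054501880189018103060184018201c0) 10 24
    [[], [1], [0, 1], [1, 1], [0, 0, 1], [1, 0, 1], [3, 0, 1], [1, 0, 0, 1], [3, 0, 0, 1], [0,
    1, 0, 1]]
    [[2], [0, 2], [2, 0], [2, 2, 2], [2, 2, 2, 0], [2, 2, 0, 2], [], [0], [0, 0], [3, 2], [3, 2,
    0], [3, 0, 2], [3, 2, 2], [3, 2, 0, 2], [3, 2, 2, 0], [2, 2], [2, 0, 2], [2, 2, 0], [3],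
    [3, 0], [3, 0, 0], [2, 3], [0, 2, 3], [2, 3, 0]]
  (by decide +kernel) (by decide +kernel) (by decide +kernel) (by decide +kernel)
  (by decide +kernel) (by decide +kernel) (by decide +kernel)

theorem g3_1 : G3Stmt 1 := main 1 (nat_lit 0x396ef9c3c74f5db62a4cd143058c97249d2ac4ca942b529060a222c78d203849e388cea13e8901b972684a9d327cd90c17355ecd8b464b61408f062c38d11f830220106081c28058ad529509d32548d5a3364c582f5cb51a24280f9e3a70dc78d16243850603fa13e74d992e54990f9ebc76e9cb86ed88901e3868c162849a3260b962a50992101c305080c101011a1c08f120c584fd5a84ab14a6549d2101a2888e163c6099f324d09b2a74b90d18ae6ac97b360b4c962668b94305493d74ddf3b70f1cb6447ce23407509e361c201101410606027509f2e6cc912a4c4870a0c07f1e3456ed9c3d78f9d3976bd72d6ad19b262c15aa58a13a94a9131e407cd9d38851a22c54b932450c98342458a1e4480c1c344070c142030404011571429f72517481089e17632c5a57e69a4e1ca210238da39054ec21e944d6be0e866966104524a0659c41a9dc0136b230f40e81af92491bd0cca6154d004b59e614c31875b80)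
  (nat_lit 0xa890a880a8704c60a850a840a830a820a810a8003c90b050302004405480186078103070783078009c90688004407c209c5004701c1030601c301c003890b07054409c207060308030003050303030104880ac507830047030903010006030403020380) 10 48
    [[], [1], [0, 1], [1, 1], [0, 0, 1], [1, 0, 1], [2, 0, 1], [3, 0, 1], [1, 0, 0, 1], [0, 1,
    0, 1]]
    [[2, 2, 2], [3, 2], [2, 2, 2, 0, 0], [0, 3, 2], [2, 2, 2, 0], [3, 2, 0], [3, 2, 2, 2], [2],
    [3, 2, 2, 2, 0], [2, 0], [0, 3, 2, 2, 2], [2, 0, 0], [], [3, 2, 2], [0], [3, 2, 2, 0], [0,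
    0], [0, 3, 2, 2], [4, 3], [4, 2, 2], [4, 3, 0], [4, 2, 2, 0], [4, 0, 3], [4, 2, 2, 0, 0],
    [2, 4, 3], [4, 2], [2, 4, 0, 3], [4, 2, 0, 0], [2, 4, 3, 0], [4, 2, 0], [3], [2, 2], [0,
    3], [2, 2, 0, 0], [3, 0], [2, 2, 0], [2, 4], [4, 3, 2], [2, 4, 0], [4, 3, 2, 0], [2, 4, 0,
    0], [4, 0, 3, 2], [4], [4, 3, 2, 2], [4, 0, 0], [4, 0, 3, 2, 2], [4, 0], [4, 3, 2, 2, 0]]
  (by decide +kernel) (by decide +kernel) (by decide +kernel) (by decide +kernel)
  (by decide +kernel) (by decide +kernel) (by decide +kernel)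

theorem g3_2 : G3Stmt 2 := main 2 (nat_lit 0x64c583568cd7ae5aa542758ad5264a9101f3c8d1213a70dcd992e84f9d2a4c8890e1478d160c07eedd397cf5e386ed8b962a68c98284c90e1a308901e2c5090a101880e1810100d18ae6ac97b360b67cc93426ca9d2e4192c4cd172860a9256a12ac5299527491a1c08f120c584fc80d144470b1e304a23e711a03a84f1b7ae9bbe76e1e396c1c20110141060600f4d1b2059c1e8e7b58c1a204600973f4ad8a3d30b0b277621a45650c1c102b49a470ade1a745548c4130dca15388a26e4931954f94392f2c71f12764a1a04238766158c25f00011571429f72517481089e17632c5a57e69a4e1ca210238da39054ec21e944d6be0e866966104524a0659c41a9dc0136b230f40e81af92491bd0cca6154d004b59e614c31875b80)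
  (nat_lit 0x4cb040e024803cc04cf04070449024d040a000400020006000100050003048001cb010e054800cc01cf01070149030d010a05440542030605410305030300c0000e018d03cf000603030005000c000a030b0309030803840307028002c203010009030700c8018d030f030e000b030c030a0305030303010306030403020340) 16 24
    [[], [1], [0, 1], [2, 1], [0, 0, 1], [2, 0, 1], [0, 2, 1], [1, 2, 1], [1, 2, 0, 1], [1, 0,
    2, 1], [0, 1, 2, 1], [1, 1, 2, 1], [0, 1, 2, 0, 1], [2, 1, 2, 0, 1], [0, 0, 1, 2, 1], [0,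
    1, 1, 2, 1]]
    [[3, 2], [3, 2, 0], [3, 0, 2], [2], [0, 2], [2, 0], [2, 2, 2], [2, 2, 2, 0], [2, 2, 0, 2],
    [2, 3], [2, 0, 3], [2, 3, 0], [], [0], [0, 0], [3, 2, 2], [3, 2, 0, 2], [3, 2, 2, 0], [3],
    [3, 0], [0, 3], [2, 2], [2, 0, 2], [2, 2, 0]]
  (by decide +kernel) (by decide +kernel) (by decide +kernel) (by decide +kernel)
  (by decide +kernel) (by decide +kernel) (by decide +kernel)

theorem g3_3 : G3Stmt 3 := main 3 (nat_lit 0x3262c1ab466bd72d52a13ac56a93254880f9e468909d386e6cc97427ce9526444870a3c68b0603f76e9cbe7af1c376c5cb153464c14264870d184480f1628485080c4070c0808058ad529509d32548d5a3364c582f5cb51a24280f9e3a70dc78d16243850603fa13e74d992e54990f9ebc76e9cb86ed88901e3868c162849a3260b962a50992101c305080c101011a1c08f120c584fd5a84ab14a6549d2101a2888e163c6099f324d09b2a74b90d18ae6ac97b360b4c962668b94305493d74ddf3b70f1cb6447ce23407509e361c20110141060600f4d1b2059c1e8e7b58c1a204600973f4ad8a3d30b0b277621a45650c1c102b49a470ade1a745548c4130dca15388a26e4931954f94392f2c71f12764a1a04238766158c25f00011571429f72517481089e17632c5a57e69a4e1ca210238da39054ec21e944d6be0e866966104524a0659c41a9dc0136b230f40e81af92491bd0cca6154d004b59e614c31875b80)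
  (nat_lit 0x80f09ce0606048b048c018809c9034a0605060d060706010742074306040940074f0609048b0606048d0048060e004a0107060c010500430044010101020a80018f0389004c048d0ac6018a038e03480b05060b07470b020ac107440603034002cd010904cb00440a0f06030107004c060e060a0705060806060500058206010108060c09c602cb038e060f09cd010a07430609060106070744060506020680) 16 48
    [[], [1], [0, 1], [2, 1], [4, 1], [0, 0, 1], [1, 2, 1], [0, 4, 1], [1, 4, 1], [0, 1, 2, 1],
    [1, 1, 2, 1], [2, 1, 2, 1], [3, 1, 2, 1], [4, 1, 2, 1], [1, 0, 4, 1], [0, 1, 1, 2, 1]]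
    [[2, 4], [4, 3, 2], [2, 4, 0], [4, 3, 2, 0], [2, 0, 4], [4, 0, 3, 2], [2, 2, 2], [3, 2], [4,
    2, 0, 4], [0, 3, 2], [2, 2, 2, 0], [3, 2, 0], [3, 2, 2, 2], [2], [3, 2, 2, 2, 0], [2, 0],
    [0, 3, 2, 2, 2], [2, 0, 0], [2, 4, 3], [4, 2], [2, 4, 0, 3], [0, 4, 2], [2, 4, 3, 0], [4,
    2, 0], [], [3, 2, 2], [0], [3, 2, 2, 0], [0, 0], [0, 3, 2, 2], [4, 2, 2], [4, 3], [0, 4, 2,
    2], [4, 0, 3], [4, 2, 2, 0], [4, 3, 0], [4, 3, 2, 2], [4], [4, 3, 2, 2, 0], [4, 0], [4, 0,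
    3, 2, 2], [0, 4], [3], [2, 2], [0, 3], [2, 2, 0, 0], [3, 0], [2, 2, 0]]
  (by decide +kernel) (by decide +kernel) (by decide +kernel) (by decide +kernel)
  (by decide +kernel) (by decide +kernel) (by decide +kernel)

theorem g3_4 : G3Stmt 4 := main 4 (nat_lit 0x3262c1ab466bd72d52a13ac56a93254880f9e468909d386e6cc97427ce9526444870a3c68b0603f76e9cbe7af1c376c5cb153464c14264870d184480f1628485080c4070c080803c7511c428119f3654a192660b9a2c4a1418d022c48f0df8c164050f1c4468972e1eb778edf3a6cc17b45ccd93562b65ca9f2674da1324274cad2aa52b142406083810c14404002c78d18288901c24ea13e78e234480dca9d325c9a13e6c870f1d396ef9ebb6c50c162a4cd192e4932a509d2ac56a522f66c582e6ad192d83161c2811e3447e0830406044070a00ead4a20c10772e1a438bc7873509d4d5c98d99221a6447214a8d712202366ac6042efdbca5489a961c0e4c16cd16217d3a32060a01121515ed04e7d90902527c778c549e262c011571429f72517481089e17632c5a57e69a4e1ca210238da39054ec21e944d6be0e866966104524a0659c41a9dc0136b230f40e81af92491bd0cca6154d004b59e614c31875b80)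
  (nat_lit 0xd6502601627105f081e025502510426106408231050080f119b06da118e000d0f49060804220607049204930421105d081c119900180f4615440f4a0f57061606140f4c0f420c0b0f430f450f410f4004a516a704a0005e049f10e310e416a604910055114c040600d805cd009c065a0a970785062100420496005406220f99024e061d061b030f1681120b0a8910d20613061001c7108a0a83060801c40c001565062713e0005f005e10e406230626049504910406070c05cd059805dd109b1389048210e20785005400560621024e08d9061c061a01d0124116cb139706130612060f0308018a1383060706040ac00da002270fe600540056105c105d0ca504070248062406230cdb149a08520157034d0422024f0421024211450410061f061e02530f890859034410c0061806150611060e060c060b060a06060603060116a40621121e0963062716a60962169506250ddf08d008da085d060f0358018c06030acb09510316108a03130620061b085c08c6084e061915540352061701c70604060d060103080609060506020680) 40 96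
    [[], [1], [0, 1], [1, 1], [2, 1], [0, 0, 1], [1, 0, 1], [2, 0, 1], [3, 0, 1], [0, 1, 1], [1,
    1, 1], [1, 2, 1], [1, 0, 0, 1], [0, 1, 0, 1], [1, 1, 0, 1], [2, 1, 0, 1], [3, 1, 0, 1], [1,
    2, 0, 1], [2, 2, 0, 1], [3, 2, 0, 1], [4, 2, 0, 1], [1, 3, 0, 1], [4, 3, 0, 1], [0, 0, 1,
    1], [1, 0, 1, 1], [0, 1, 0, 0, 1], [2, 0, 1, 0, 1], [3, 0, 1, 0, 1], [2, 1, 1, 0, 1], [3,
    1, 1, 0, 1], [1, 2, 1, 0, 1], [1, 3, 1, 0, 1], [0, 1, 2, 0, 1], [2, 1, 2, 0, 1], [3, 1, 2,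
    0, 1], [1, 2, 1, 1, 0, 1], [1, 3, 1, 1, 0, 1], [0, 1, 3, 1, 0, 1], [2, 0, 1, 2, 0, 1], [0,
    1, 2, 1, 1, 0, 1]]
    [[4, 3, 3], [2, 4, 3], [4, 3, 3, 0], [2, 4, 3, 0], [0, 4, 3, 3], [2, 0, 4, 3], [3, 3], [3,
    2, 2, 2], [3, 3, 0, 0], [3, 2, 2, 0, 2], [3, 3, 0], [3, 2, 2, 2, 0], [3, 3, 3, 2], [2, 2],
    [3, 3, 3, 2, 0], [2, 2, 0], [3, 3, 3, 0, 2], [2, 0, 2], [3, 4, 2], [4, 2, 2], [3, 4, 0, 2],
    [4, 2, 0, 2], [3, 4, 2, 0], [4, 2, 2, 0], [], [3, 2, 2, 2, 2, 2], [0], [3, 2, 2, 2, 2, 2,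
    0], [0, 0], [3, 2, 2, 2, 2, 0, 2], [2, 4, 2], [4, 3, 2], [2, 4, 0, 2], [4, 3, 0, 2], [2, 4,
    2, 0], [4, 3, 2, 0], [2, 4, 3, 2], [4, 3, 3, 2], [2, 4, 3, 2, 0], [4, 3, 3, 2, 0], [2, 4,
    3, 0, 2], [4, 3, 3, 0, 2], [3, 3, 3], [2], [4, 3, 0, 4], [0, 2], [3, 3, 3, 0], [2, 0], [3],
    [2, 2, 2], [3, 0], [2, 2, 2, 0], [3, 0, 0], [2, 2, 0, 2], [4, 3, 2, 2], [2, 4, 2, 2], [4,
    3, 2, 0, 2], [2, 4, 2, 0, 2], [4, 3, 2, 2, 0], [2, 4, 2, 2, 0], [2, 4, 3, 2, 2], [4], [2,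
    4, 3, 2, 2, 0], [4, 0], [2, 4, 3, 2, 0, 2], [0, 4], [3, 2], [2, 2, 2, 2], [3, 0, 2], [2, 2,
    2, 0, 2], [3, 2, 0], [2, 2, 2, 2, 0], [4, 2], [3, 4], [4, 2, 0], [3, 4, 0], [4, 0, 2], [3,
    0, 4], [3, 3, 2], [3, 2, 2, 2, 2], [3, 3, 0, 2], [3, 2, 2, 2, 0, 2], [3, 3, 2, 0], [3, 2,
    2, 2, 2, 0], [2, 2, 2, 2, 2], [3, 2, 2], [2, 2, 2, 2, 2, 0], [3, 2, 2, 0], [2, 2, 2, 2, 0,
    2], [3, 2, 0, 2], [2, 4], [4, 3], [2, 0, 4], [0, 4, 3], [2, 4, 0], [4, 3, 0]]
  (by decide +kernel) (by decide +kernel) (by decide +kernel) (by decide +kernel)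
  (by decide +kernel) (by decide +kernel) (by decide +kernel)

theorem g3 : ∀ k, G3Stmt k := fun k => by
  fin_cases k
  exacts [g3_0, g3_1, g3_2, g3_3, g3_4]

end Cfsg.Agent.H91.U4G3
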