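import Cfsg.Agent.H97.U5Defs

/-! Project U5F, piece A4: critical subgroups outside `R` and `Q V` contain the third centre. -/

set_option autoImplicit false
set_option linter.unusedSectionVars false

namespace Cfsg.Agent.H91.U5A4

open Cfsg.Agent.H97 Cfsg.Agent.H97.U5 Cfsg.Agent.H96.VB Subgroup
open scoped commutatorElement

universe u

variable {K : Type u} [Field K] [Finite K] {T : Hm K} {p : ℕ} [Fact p.Prime] [CharP K p]

theorem xm_mem (w : K) : xm T w ∈ Z2 T := ⟨rfl, rfl, rfl, rfl⟩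

/-- every central element is a commutator of `g` with `Z₂` -/
theorem hitZ {g z : U T} (ht : g.t ≠ 0) (hz : z ∈ Z T) : ∃ w, ⁅g, xm T w⁆ = z := by
  have h0 : z.a + T.σ z.a = 0 := by simpa [hz.2.1] using z.ha
  obtain ⟨x, hx⟩ := T.exists_skew h0
  have h1 := T.σ_ne_zero ht
  have h2 := cm_Z (g := g) (xm_mem (T := T) (x / T.σ g.t))
  refine ⟨x / T.σ g.t, U.ext (h2.1.trans hz.1.symm) (h2.2.1.trans hz.2.1.symm)
    (h2.2.2.1.trans hz.2.2.1.symm) ?_ (h2.2.2.2.1.trans hz.2.2.2.1.symm)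
    (h2.2.2.2.2.trans hz.2.2.2.2.symm)⟩
  rw [cm_a2 (xm_mem _), xm_m, map_div₀, T.inv, ← hx]
  field_simp

theorem cm_mem {G : Type u} [Group G] {P : Subgroup G} {x y : G} (hx : x ∈ P) (hy : y ∈ P) :
    ⁅x, y⁆ ∈ P := by
  rw [commutatorElement_def]
  exact mul_mem (mul_mem (mul_mem hx hy) (inv_mem hx)) (inv_mem hy)

variable {P : Subgroup (U T)}

/-- an element `z` with `[z, P] ≤ Z` lies in `R` or in `Q V` -/
theorem both (h : Cp p P) (h2 : Z2 T ≤ P) {z : U T} (hz : z ∈ P) (e : ∀ x ∈ P, ⁅z, x⁆ ∈ Z T)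
    (ht : z.t ≠ 0) (hv : z.v2 ≠ 0) : False := by
  have key : ∀ x ∈ P, ∃ l, T.σ l = l ∧ x.t = l * z.t ∧ x.v2 = l * z.v2 := fun x hx => by
    have e1 := (e x hx).2.1
    have e2 := (e x hx).2.2.2.2
    rw [cm_v1] at e1
    rw [cm_d] at e2
    obtain ⟨l, l1, l2⟩ := T.exists_fix hv (sub_eq_zero.1 e2)
    refine ⟨l, l1, mul_right_cancel₀ hv ?_, l2⟩
    rw [l2] at e1
    linear_combination -e1
  have d2 : ⁅P, P⁆ ≤ Z2 T := commutator_le.2 fun x hx y hy => by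
    obtain ⟨l, l1, l2, l3⟩ := key x hx
    obtain ⟨k, k1, k2, k3⟩ := key y hy
    refine ⟨cm_t _ _, ?_, cm_v2 _ _, ?_⟩
    · rw [cm_v1, l2, l3, k2, k3]; ring
    · rw [cm_d, l3, k3, map_mul, map_mul, l1, k1]; ring
  have y3 : rv T (z.t * z.v2) 0 ∈ Z3 T := ⟨rfl, rfl⟩
  have hy : rv T (z.t * z.v2) 0 ∈ P := by
    refine h.chain2 ch_center (Ch.self.commutator Ch.self) (fun x hx => ?_) (fun x hx => ?_)
      fun x hx => ?_
    · rw [← commutatorElement_inv]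
      refine inv_mem ?_
      have c2 := cm_Z2 (g := x) y3
      refine ⟨h2 c2, fun k hk => commutatorElement_eq_one_iff_mul_comm.1 (eq_one_of_Z (cm_Z c2) ?_)⟩
      obtain ⟨l, l1, l2, l3⟩ := key x hx
      obtain ⟨n, n1, n2, -⟩ := key k hk
      rw [cm_a2 c2, cm_m3 y3, n2, l3]
      simp only [rv_d0, rv_v1, map_mul, map_add, map_zero, mul_zero, T.inv, l1, n1]
      ring
    · have x3 : x ∈ Z3 T := by
        have xr : x.t = 0 := cR.le (centralizer_le h2 hx.2)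
        obtain ⟨l, -, l2, l3⟩ := key x hx.1
        rw [xr, eq_comm, mul_eq_zero] at l2
        exact ⟨xr, by rw [l3, l2.resolve_right ht, zero_mul]⟩
      obtain ⟨w, hw⟩ := hitZ ht (cm_Z3Z3 y3 x3)
      rw [← hw]
      exact commutator_mem_commutator hz (h2 (xm_mem w))
    · exact commutatorElement_eq_one_iff_mul_comm.2 (comm_VR (Z2_le_V (d2 hx)) (Z3_le_R y3)).symm
  have := (e _ hy).2.2.2.1
  rw [cm_m3 y3, rv_d0, rv_v1, mul_zero, zero_add] at this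
  exact mul_ne_zero (mul_ne_zero ht hv) (T.σ_ne_zero hv) this

/-- the images of `Z₂` under the automorphisms of `P` lie in `Z₃` -/
theorem orb (h : Cp p P) (h2 : Z2 T ≤ P) {g : U T} (hg : g ∈ P) (gt : g.t ≠ 0) (gv : g.v2 ≠ 0)
    (γ : MulAut P) {z : U T} (hz : z ∈ Z2 T) : ext γ z ∈ Z3 T := by
  have zP := ext_mem γ (h2 hz)
  have hZ : Z T ≤ P := Z_le_Z2.trans h2
  have c1 : ∀ x ∈ P, ∃ c ∈ Z T, ⁅ext γ z, x⁆ = ext γ c := fun x hx =>
    ⟨⁅z, ext γ⁻¹ x⁆, cm_Z' hz, by rw [ext_map_comm γ (h2 hz) (ext_mem γ⁻¹ hx), ext_ext_inv]⟩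
  have c2 : ∀ x ∈ P, ∀ y ∈ P, ⁅y, ⁅ext γ z, x⁆⁆ = 1 := fun x hx y hy => by
    obtain ⟨c, hc, e⟩ := c1 x hx
    rw [e, ← ext_ext_inv γ y, ← ext_map_comm γ (ext_mem γ⁻¹ hy) (hZ hc),
      commutatorElement_eq_one_iff_mul_comm.2 (comm_Z hc _).symm, ext_map_one]
  by_cases ht : (ext γ z).t = 0 <;> by_cases hv : (ext γ z).v2 = 0
  · exact ⟨ht, hv⟩
  · have := congrArg U.m (c2 g hg _ zP)
    rw [cm_m3 (cm_Z3 _ _), cm_v1, ht, U.one_m] at this
    exact (mul_ne_zero (mul_ne_zero gt hv) (T.σ_ne_zero hv) (by linear_combination -this)).elim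
  · have := congrArg U.m (c2 g hg g hg)
    rw [cm_m3 (cm_Z3 _ _), cm_v1, cm_d, hv, map_zero, U.one_m] at this
    exact (mul_ne_zero (mul_ne_zero ht gv) (T.σ_ne_zero gv) (by linear_combination this)).elim
  refine (both h h2 zP (fun x hx => ?_) ht hv).elim
  have m : ∀ c : Z T, ext γ⁻¹ (c : U T) ∈ Z T := fun c => by
    obtain ⟨w, hw⟩ := hitZ ht c.2
    obtain ⟨c', hc', e⟩ := c1 _ (h2 (xm_mem w))
    rw [← hw, e, ext_inv_ext]
    exact hc'
  have inj : Function.Injective fun c : Z T => (⟨_, m c⟩ : Z T) := fun c d e => Subtype.ext (by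
    have := congrArg (fun x : Z T => ext γ (x : U T)) e
    simpa only [ext_ext_inv] using this)
  obtain ⟨c, hc, e⟩ := c1 x hx
  obtain ⟨d, e'⟩ := Finite.injective_iff_surjective.1 inj ⟨c, hc⟩
  have e'' : ext γ⁻¹ (d : U T) = c := congrArg Subtype.val e'
  rw [e, ← e'', ext_ext_inv]
  exact d.2

theorem a4 : A4Stmt T p := by
  intro P h hR h2 hQ
  obtain ⟨g, hg, gt, gv⟩ : ∃ g ∈ P, g.t ≠ 0 ∧ g.v2 ≠ 0 := by
    obtain ⟨x, hx, xt⟩ := SetLike.not_le_iff_exists.1 hR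
    obtain ⟨y, hy, yv⟩ := SetLike.not_le_iff_exists.1 hQ
    by_cases e : x.v2 = 0
    · by_cases e' : y.t = 0
      · exact ⟨x * y, mul_mem hx hy, by rw [U.mul_t, e', add_zero]; exact xt,
          by rw [U.mul_v2, e, zero_add]; exact yv⟩
      · exact ⟨y, hy, e', yv⟩
    · exact ⟨x, hx, xt, e⟩
  have hD := Ch.closure (ivs_orb (P := P) (Z2 T : Set (U T)))
  generalize eD : closure {g | g ∈ P ∧ g ∈ {g | ∃ γ : MulAut P, ∃ a ∈ P, a ∈ (Z2 T : Set (U T)) ∧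
    g = ext γ a}} = D at hD
  have D2 : Z2 T ≤ D := fun z hz =>
    eD ▸ subset_closure ⟨h2 hz, 1, z, h2 hz, hz, (ext_one z).symm⟩
  have D3 : D ≤ Z3 T := eD ▸ (closure_le _).2 (by
    rintro _ ⟨-, γ, a, -, ha, rfl⟩
    exact orb h h2 hg gt gv γ ha)
  have d2 : ⁅P, D⁆ ≤ Z2 T := commutator_le.2 fun x _ y hy => cm_Z2 (D3 hy)
  intro k hk
  refine h.chain2 hD (Ch.self.commutator hD) (fun x _ => D2 (cm_Z2' hk)) (fun x hx => ?_)
    fun x hx => commutatorElement_eq_one_iff_mul_comm.2 (comm_VR (Z2_le_V (d2 hx)) (Z3_le_R hk)).symm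
  obtain ⟨w, hw⟩ := hitZ gt (cm_Z3Z3 hk (D3 hx))
  rw [← hw]
  exact commutator_mem_commutator hg (D2 (xm_mem w))

end Cfsg.Agent.H91.U5A4
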